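import Cfsg.Agent.Invol.StronglyEmbedded

/-!
Involutions exchanging two cosets of a strongly embedded subgroup.
-/

set_option autoImplicit false

namespace Cfsg.Agent.Invol

variable {G : Type*} [Group G] [Finite G] {H : Subgroup G}

theorem se_odd_of_mem_of_notMem (hH : Cfsg.IsStronglyEmbedded H) {t u : G} (ht : orderOf t = 2)
    (htH : t ∈ H) (hu : orderOf u = 2) (huH : u ∉ H) : Odd (orderOf (t * u)) := by
  by_contra h
  rw [Nat.not_odd_iff_even] at h
  have hc := commute_central ht hu h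
  have hc' := commute_central' ht hu h
  have hv := orderOf_central h (orderOf_pos _)
  have hvH : (t * u) ^ (orderOf (t * u) / 2) ∈ H :=
    se_centralizer_le hH ht htH (Subgroup.mem_centralizer_singleton_iff.2 hc.eq)
  exact huH (se_centralizer_le hH hv hvH (Subgroup.mem_centralizer_singleton_iff.2 hc'.eq.symm))

theorem se_isConj_outside (hH : Cfsg.IsStronglyEmbedded H) {t u : G} (ht : orderOf t = 2)
    (htH : t ∈ H) (hu : orderOf u = 2) (huH : u ∉ H) : IsConj t u :=
  isConj_of_odd ht hu (se_odd_of_mem_of_notMem hH ht htH hu huH)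

theorem se_exists_involution (hH : Cfsg.IsStronglyEmbedded H) : ∃ t ∈ H, orderOf t = 2 := by
  have : Fact (Nat.Prime 2) := ⟨Nat.prime_two⟩
  obtain ⟨t, ht⟩ := exists_prime_orderOf_dvd_card' 2 (even_iff_two_dvd.1 hH.2.1)
  exact ⟨t, t.2, by rwa [Subgroup.orderOf_coe]⟩

theorem se_isConj_all (hH : Cfsg.IsStronglyEmbedded H) {a b : G} (ha : orderOf a = 2)
    (hb : orderOf b = 2) : IsConj a b := by
  obtain ⟨t, htH, ht⟩ := se_exists_involution hH
  obtain ⟨g, hg⟩ : ∃ g, g ∉ H := by
    by_contra! h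
    exact hH.1 (eq_top_iff.2 fun x _ => h x)
  have key : ∀ x : G, orderOf x = 2 → IsConj t x := fun x hx => by
    by_cases hxH : x ∈ H
    · have hxg : g * x * g⁻¹ ∉ H := fun hm => hg (by
        have := se_mem hH hx hxH (g := g⁻¹) (by rwa [inv_inv])
        exact inv_mem_iff.1 this)
      exact (se_isConj_outside hH ht htH ((orderOf_conj g x).trans hx) hxg).trans
        (isConj_iff.2 ⟨g⁻¹, by group⟩)
    · exact se_isConj_outside hH ht htH hx hxH
  exact (key a ha).symm.trans (key b hb)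

/-- An element commuting with an involution inside and an involution outside `H` has odd order. -/
theorem se_odd_of_commute (hH : Cfsg.IsStronglyEmbedded H) {t u c : G} (ht : orderOf t = 2)
    (htH : t ∈ H) (huH : u ∉ H) (h1 : Commute c t) (h2 : Commute c u) (hc : c * c = 1) : c = 1 := by
  by_contra hne
  have hc2 : orderOf c = 2 := orderOf_eq_prime (by rw [pow_two, hc]) hne
  exact huH (se_centralizer_le hH hc2
    (se_centralizer_le hH ht htH (Subgroup.mem_centralizer_singleton_iff.2 h1.eq))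
    (Subgroup.mem_centralizer_singleton_iff.2 h2.eq.symm))

/-- There is exactly one involution conjugating `t ∈ H` to `u ∉ H`. -/
theorem se_unique_swap (hH : Cfsg.IsStronglyEmbedded H) {t u : G} (ht : orderOf t = 2)
    (htH : t ∈ H) (hu : orderOf u = 2) (huH : u ∉ H) :
    ∃! w : G, orderOf w = 2 ∧ w * t * w = u := by
  obtain ⟨m, hm⟩ := se_odd_of_mem_of_notMem hH ht htH hu huH
  set w₁ := t * (t * u) ^ ((m : ℤ) + 1) with hw₁
  have hw₁o : orderOf w₁ = 2 := orderOf_self_mul_zpow ht hu _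
  have hw₁e : w₁ * t * w₁ = u := by
    have h1 : (t * u) ^ ((m : ℤ) + 1) * t = t * (t * u) ^ (-((m : ℤ) + 1)) := zpow_mul_self ht hu _
    calc w₁ * t * w₁ = t * ((t * u) ^ ((m : ℤ) + 1) * t) * (t * (t * u) ^ ((m : ℤ) + 1)) := by
          rw [hw₁]; group
      _ = (t * t) * (t * u) ^ (-((m : ℤ) + 1)) * t * (t * u) ^ ((m : ℤ) + 1) := by rw [h1]; group
      _ = t * (t * u) ^ ((m : ℤ) + 1) * (t * u) ^ ((m : ℤ) + 1) := by
          rw [mul_self_eq_one ht, one_mul, zpow_mul_self ht hu, neg_neg]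
      _ = u := by
          rw [mul_assoc, ← zpow_add, show (m : ℤ) + 1 + ((m : ℤ) + 1) = (orderOf (t * u) : ℤ) + 1 by
            rw [hm]; push_cast; ring, zpow_add, zpow_natCast, pow_orderOf_eq_one, one_mul,
            self_mul_zpow_one ht]
  refine ⟨w₁, ⟨hw₁o, hw₁e⟩, fun w ⟨hwo, hwe⟩ => ?_⟩
  set c := w₁ * w with hc
  have hww := mul_self_eq_one hwo
  have hw₁w := mul_self_eq_one hw₁o
  have hwu : w * u * w = t := by
    rw [← hwe]; simp only [← mul_assoc, hww, one_mul]; rw [mul_assoc, hww, mul_one]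
  have hw₁u : w₁ * u * w₁ = t := by
    rw [← hw₁e]; simp only [← mul_assoc, hw₁w, one_mul]; rw [mul_assoc, hw₁w, mul_one]
  have hct : c * t * c⁻¹ = t := by
    rw [hc, mul_inv_rev, inv_eq_self hwo, inv_eq_self hw₁o,
      show w₁ * w * t * (w * w₁) = w₁ * (w * t * w) * w₁ by group, hwe, hw₁u]
  have hcu : c * u * c⁻¹ = u := by
    rw [hc, mul_inv_rev, inv_eq_self hwo, inv_eq_self hw₁o,
      show w₁ * w * u * (w * w₁) = w₁ * (w * u * w) * w₁ by group, hwu, hw₁e]
  have hct' : Commute c t := mul_inv_eq_iff_eq_mul.1 hct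
  have hcu' : Commute c u := mul_inv_eq_iff_eq_mul.1 hcu
  have hcw : Commute c w₁ := hct'.mul_right ((hct'.mul_right hcu').zpow_right _)
  have hcc : c * c = 1 := by
    calc c * c = c * (w₁ * w) := by rw [← hc]
      _ = w₁ * c * w := by rw [← mul_assoc, hcw.eq]
      _ = 1 := by rw [hc, ← mul_assoc, hw₁w, one_mul, hww]
  have h1 := se_odd_of_commute hH ht htH huH hct' hcu' hcc
  rw [hc, mul_eq_one_iff_eq_inv, inv_eq_self hwo] at h1
  exact h1.symm

open scoped Classical in
/-- Each coset other than `H` contains as many involutions as `H`. -/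
theorem card_involutions_coset (hH : Cfsg.IsStronglyEmbedded H) {q : G ⧸ H}
    (hq : q ≠ QuotientGroup.mk 1) :
    Nat.card {i : G // orderOf i = 2 ∧ i • (QuotientGroup.mk 1 : G ⧸ H) = q} =
      Nat.card {t : G // orderOf t = 2 ∧ t ∈ H} := by
  obtain ⟨g, rfl⟩ := QuotientGroup.mk_surjective q
  have hgH : g ∉ H := fun h => hq (QuotientGroup.eq.2 (by simpa using h))
  obtain ⟨t₀, ht₀H, ht₀⟩ := se_exists_involution hH
  set a := g * t₀ * g⁻¹ with ha
  have ha2 : orderOf a = 2 := (orderOf_conj g t₀).trans ht₀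
  have haH : a ∉ H := fun h => hgH (inv_mem_iff.1 (se_mem hH ht₀ ht₀H (g := g⁻¹) (by rwa [inv_inv])))
  have hfix : ∀ w : G, orderOf w = 2 → w • (QuotientGroup.mk 1 : G ⧸ H) = QuotientGroup.mk g →
      w * a * w ∈ H := by
    intro w hw he
    rw [MulAction.Quotient.smul_mk, smul_eq_mul, mul_one, QuotientGroup.eq] at he
    rw [ha, show w * (g * t₀ * g⁻¹) * w = (w⁻¹ * g) * t₀ * (w⁻¹ * g)⁻¹ by
      rw [mul_inv_rev, inv_inv, inv_eq_self hw]; group]
    exact mul_mem (mul_mem he ht₀H) (inv_mem he)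
  refine Nat.card_congr
    { toFun := fun w => ⟨(w : G) * a * w, ?_, hfix w w.2.1 w.2.2⟩
      invFun := fun t => ⟨(se_unique_swap hH t.2.1 t.2.2 ha2 haH).choose, ?_, ?_⟩
      left_inv := fun w => Subtype.ext ?_
      right_inv := fun t => Subtype.ext ?_ }
  · have := (orderOf_conj (w : G) a).trans ha2
    rwa [inv_eq_self w.2.1] at this
  · exact (se_unique_swap hH t.2.1 t.2.2 ha2 haH).choose_spec.1.1
  · obtain ⟨⟨hw, he⟩, -⟩ := (se_unique_swap hH t.2.1 t.2.2 ha2 haH).choose_spec
    set w := (se_unique_swap hH t.2.1 t.2.2 ha2 haH).choose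
    rw [MulAction.Quotient.smul_mk, smul_eq_mul, mul_one, QuotientGroup.eq]
    refine se_mem hH t.2.1 t.2.2 ?_
    rw [mul_inv_rev, inv_inv, inv_eq_self hw,
      show g⁻¹ * w * (t : G) * (w * g) = g⁻¹ * (w * (t : G) * w) * g by group, he, ha,
      show g⁻¹ * (g * t₀ * g⁻¹) * g = t₀ by group]
    exact ht₀H
  · refine ((se_unique_swap hH (show orderOf ((w : G) * a * w) = 2 by
      have := (orderOf_conj (w : G) a).trans ha2
      rwa [inv_eq_self w.2.1] at this) (hfix w w.2.1 w.2.2) ha2 haH).choose_spec.2 w ⟨w.2.1, ?_⟩).symm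
    calc (w : G) * ((w : G) * a * w) * w = ((w : G) * w) * a * ((w : G) * w) := by group
      _ = a := by rw [mul_self_eq_one w.2.1, one_mul, mul_one]
  · obtain ⟨⟨hw, he⟩, -⟩ := (se_unique_swap hH t.2.1 t.2.2 ha2 haH).choose_spec
    set w := (se_unique_swap hH t.2.1 t.2.2 ha2 haH).choose
    show w * a * w = t
    rw [← he]; simp only [← mul_assoc, mul_self_eq_one hw, one_mul]
    rw [mul_assoc, mul_self_eq_one hw, mul_one]

/-- The elements of odd order inverted by `u` are squares of such elements, so the swapping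
involutions in a coset are conjugate. -/
theorem se_inter_transitive (hH : Cfsg.IsStronglyEmbedded H) {u s t : G} (hu : orderOf u = 2)
    (huH : u ∉ H) (hs : orderOf s = 2) (hsH : s ∈ H) (ht : orderOf t = 2) (htH : t ∈ H) :
    ∃ d ∈ H ⊓ H.map (MulAut.conj u).toMonoidHom, d * s * d⁻¹ = t := by
  set D := H ⊓ H.map (MulAut.conj u).toMonoidHom with hD
  have hDu : ∀ x ∈ D, u * x * u ∈ D := fun x hx => by
    have h1 := mem_map_conj_iff.1 hx.2
    rw [inv_eq_self hu] at h1
    refine ⟨h1, mem_map_conj_iff.2 ?_⟩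
    rw [inv_eq_self hu]
    simp only [← mul_assoc, mul_self_eq_one hu, one_mul]
    rw [mul_assoc, mul_self_eq_one hu, mul_one]
    exact hx.1
  have hs' : u * s * u ∉ H := fun h => huH (se_mem hH hs hsH (by rwa [inv_eq_self hu]))
  have hs'2 : orderOf (u * s * u) = 2 := by
    have := (orderOf_conj u s).trans hs
    rwa [inv_eq_self hu] at this
  obtain ⟨w, ⟨hw, hwe⟩, -⟩ := se_unique_swap hH ht htH hs'2 hs'
  set d := u * w with hd
  have hdH : d ∈ H := by
    have h := se_mem hH ht htH (g := w * u) (by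
      rw [mul_inv_rev, inv_eq_self hw, inv_eq_self hu,
        show u * w * t * (w * u) = u * (w * t * w) * u by group, hwe]
      simp only [← mul_assoc, mul_self_eq_one hu, one_mul]
      rw [mul_assoc, mul_self_eq_one hu, mul_one]
      exact hsH)
    rw [hd]
    have := inv_mem h
    rwa [mul_inv_rev, inv_eq_self hw, inv_eq_self hu] at this
  have hinv : u * d * u = d⁻¹ := by
    rw [hd, mul_inv_rev, inv_eq_self hw, inv_eq_self hu, ← mul_assoc, mul_self_eq_one hu, one_mul]
  have hdD : d ∈ D := ⟨hdH, mem_map_conj_iff.2 (by rw [inv_eq_self hu, hinv]; exact inv_mem hdH)⟩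
  obtain ⟨n, hn⟩ := hH.2.2 u huH
  have hdn : d ^ (2 * n + 1) = 1 := by
    rw [← hn]
    exact congrArg Subtype.val (pow_card_eq_one' (x := (⟨d, hdD⟩ : D)))
  set e := d ^ (n + 1) with he
  have he2 : e * e = d := by
    rw [he, ← pow_add, show n + 1 + (n + 1) = 2 * n + 1 + 1 by ring, pow_succ, hdn, one_mul]
  have heD : e ∈ D := pow_mem hdD _
  have hue : u * e * u = e⁻¹ := by
    nth_rewrite 2 [← inv_eq_self hu]
    rw [he, ← conj_pow, inv_eq_self hu, hinv, inv_pow]
  refine ⟨e⁻¹ * (u * e * u), mul_mem (inv_mem heD) (hDu e heD), ?_⟩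
  rw [hue, show e⁻¹ * e⁻¹ = (e * e)⁻¹ by group, he2]
  have hwd : w = u * d := by rw [hd, ← mul_assoc, mul_self_eq_one hu, one_mul]
  calc d⁻¹ * s * d⁻¹⁻¹ = w * (u * s * u) * w := by
        rw [hd, mul_inv_rev, inv_eq_self hw, inv_eq_self hu, mul_inv_rev, inv_eq_self hw, inv_eq_self hu]
        group
    _ = t := by
        rw [← hwe]; simp only [← mul_assoc, mul_self_eq_one hw, one_mul]
        rw [mul_assoc, mul_self_eq_one hw, mul_one]

end Cfsg.Agent.Invol
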