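import Mathlib.GroupTheory.OrderOfElement
import Mathlib.GroupTheory.Index
import Mathlib.Algebra.Group.Subgroup.Lattice
import Mathlib.Algebra.Group.Nat.Even
import Mathlib.Tactic

/-!
Pairs of involutions: the structure of the subgroup they generate.
-/

set_option autoImplicit false

namespace Cfsg.Agent.Invol

variable {G : Type*} [Group G] {x y : G}

theorem orderOf_eq_two_iff {a : G} : orderOf a = 2 ↔ a ≠ 1 ∧ a * a = 1 := by
  constructor
  · intro h
    refine ⟨fun h1 => by simp [h1] at h, ?_⟩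
    rw [← pow_two, ← h, pow_orderOf_eq_one]
  · rintro ⟨h1, h2⟩
    exact orderOf_eq_prime (by rw [pow_two, h2]) h1

theorem mul_self_eq_one (hx : orderOf x = 2) : x * x = 1 := (orderOf_eq_two_iff.1 hx).2

theorem ne_one (hx : orderOf x = 2) : x ≠ 1 := (orderOf_eq_two_iff.1 hx).1

theorem inv_eq_self (hx : orderOf x = 2) : x⁻¹ = x :=
  inv_eq_of_mul_eq_one_right (mul_self_eq_one hx)

theorem mul_mul_cancel_self (hx : orderOf x = 2) (a : G) : x * (x * a) = a := by
  rw [← mul_assoc, mul_self_eq_one hx, one_mul]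

theorem orderOf_conj (g a : G) : orderOf (g * a * g⁻¹) = orderOf a :=
  (MulAut.conj g).orderOf_eq a

theorem orderOf_eq_two_of_isConj {a b : G} (h : IsConj a b) (ha : orderOf a = 2) : orderOf b = 2 := by
  obtain ⟨c, rfl⟩ := isConj_iff.1 h
  rw [orderOf_conj, ha]

theorem conj_mul_self (hx : orderOf x = 2) (hy : orderOf y = 2) :
    x * (x * y) * x⁻¹ = (x * y)⁻¹ := by
  rw [inv_eq_self hx, mul_inv_rev, inv_eq_self hx, inv_eq_self hy, mul_mul_cancel_self hx]

theorem conj_zpow_self (hx : orderOf x = 2) (hy : orderOf y = 2) (k : ℤ) :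
    x * (x * y) ^ k * x⁻¹ = (x * y) ^ (-k) := by
  rw [← conj_zpow, conj_mul_self hx hy, inv_zpow, zpow_neg]

theorem zpow_mul_self (hx : orderOf x = 2) (hy : orderOf y = 2) (k : ℤ) :
    (x * y) ^ k * x = x * (x * y) ^ (-k) := by
  rw [← conj_zpow_self hx hy k, inv_eq_self hx, mul_assoc x, mul_mul_cancel_self hx]

theorem self_mul_zpow_one (hx : orderOf x = 2) : x * (x * y) ^ (1 : ℤ) = y := by
  rw [zpow_one, mul_mul_cancel_self hx]

theorem sq_self_mul_zpow (hx : orderOf x = 2) (hy : orderOf y = 2) (k : ℤ) :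
    x * (x * y) ^ k * (x * (x * y) ^ k) = 1 := by
  rw [mul_assoc x, ← mul_assoc ((x * y) ^ k), zpow_mul_self hx hy, mul_assoc x ((x * y) ^ (-k)),
    mul_mul_cancel_self hx, ← zpow_add, neg_add_cancel, zpow_zero]

theorem self_notMem_zpowers (hx : orderOf x = 2) (hy : orderOf y = 2) :
    x ∉ Subgroup.zpowers (x * y) := by
  intro hmem
  obtain ⟨j, hj⟩ := Subgroup.mem_zpowers_iff.1 hmem
  have hc : x * (x * y) = x * y * x := by
    have h := ((Commute.refl (x * y)).zpow_left j).eq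
    rwa [hj] at h
  have hsq : (x * y) ^ (2 : ℤ) = 1 := by
    have h3 := conj_mul_self hx hy
    rw [hc, mul_inv_cancel_right] at h3
    rw [zpow_two]
    exact mul_eq_one_iff_eq_inv.2 h3
  rcases Int.even_or_odd' j with ⟨i, rfl | rfl⟩
  · rw [zpow_mul, hsq, one_zpow] at hj
    exact ne_one hx hj.symm
  · rw [zpow_add_one, zpow_mul, hsq, one_zpow, one_mul] at hj
    exact ne_one hy (mul_eq_left.1 hj)

theorem orderOf_self_mul_zpow (hx : orderOf x = 2) (hy : orderOf y = 2) (k : ℤ) :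
    orderOf (x * (x * y) ^ k) = 2 := by
  refine orderOf_eq_two_iff.2 ⟨fun h => self_notMem_zpowers hx hy ?_, sq_self_mul_zpow hx hy k⟩
  rw [mul_eq_one_iff_eq_inv] at h
  generalize hp : x * y = p at h ⊢
  rw [h]
  exact inv_mem (Subgroup.zpow_mem_zpowers p k)

theorem closure_mem {d : G} (hx : orderOf x = 2) (hy : orderOf y = 2)
    (hd : d ∈ Subgroup.closure ({x, y} : Set G)) :
    ∃ k : ℤ, d = (x * y) ^ k ∨ d = x * (x * y) ^ k := by
  induction hd using Subgroup.closure_induction with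
  | mem a ha =>
    rcases ha with rfl | rfl
    · exact ⟨0, Or.inr (by simp)⟩
    · exact ⟨1, Or.inr (self_mul_zpow_one hx).symm⟩
  | one => exact ⟨0, Or.inl (by simp)⟩
  | mul a b _ _ ha hb =>
    obtain ⟨i, rfl | rfl⟩ := ha <;> obtain ⟨j, rfl | rfl⟩ := hb
    · exact ⟨i + j, Or.inl (by rw [zpow_add])⟩
    · exact ⟨-i + j, Or.inr (by rw [← mul_assoc, zpow_mul_self hx hy, zpow_add, mul_assoc])⟩
    · exact ⟨i + j, Or.inr (by rw [zpow_add, mul_assoc])⟩
    · exact ⟨-i + j, Or.inl (by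
        rw [mul_assoc x, ← mul_assoc ((x * y) ^ i), zpow_mul_self hx hy, mul_assoc x ((x * y) ^ (-i)),
          mul_mul_cancel_self hx, zpow_add])⟩
  | inv a _ ha =>
    obtain ⟨i, rfl | rfl⟩ := ha
    · exact ⟨-i, Or.inl (by rw [zpow_neg])⟩
    · exact ⟨i, Or.inr (inv_eq_of_mul_eq_one_right (sq_self_mul_zpow hx hy i))⟩

theorem self_mem_closure : x ∈ Subgroup.closure ({x, y} : Set G) :=
  Subgroup.subset_closure (Or.inl rfl)

theorem other_mem_closure : y ∈ Subgroup.closure ({x, y} : Set G) :=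
  Subgroup.subset_closure (Or.inr rfl)

theorem zpow_mem_closure (k : ℤ) : (x * y) ^ k ∈ Subgroup.closure ({x, y} : Set G) :=
  zpow_mem (mul_mem self_mem_closure other_mem_closure) k

/-- Conjugates of `x` inside the dihedral group. -/
theorem conj_self_eq (hx : orderOf x = 2) (hy : orderOf y = 2) {d : G}
    (hd : d ∈ Subgroup.closure ({x, y} : Set G)) :
    ∃ k : ℤ, d * x * d⁻¹ = x * (x * y) ^ (2 * k) := by
  obtain ⟨k, rfl | rfl⟩ := closure_mem hx hy hd
  · exact ⟨-k, by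
      rw [zpow_mul_self hx hy, mul_assoc, ← zpow_neg, ← zpow_add]; congr 2; omega⟩
  · exact ⟨k, by
      rw [mul_assoc x ((x * y) ^ k), zpow_mul_self hx hy, mul_mul_cancel_self hx,
        mul_inv_rev, inv_eq_self hx, ← mul_assoc, ← zpow_neg, ← zpow_add, zpow_mul_self hx hy]
      congr 2; omega⟩

theorem exists_conj_eq (hx : orderOf x = 2) (hy : orderOf y = 2) (k : ℤ) :
    ∃ d ∈ Subgroup.closure ({x, y} : Set G), d * x * d⁻¹ = x * (x * y) ^ (2 * k) :=
  ⟨(x * y) ^ (-k), zpow_mem_closure _, by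
    rw [zpow_mul_self hx hy, mul_assoc, ← zpow_neg, ← zpow_add]; congr 2; omega⟩

/-- If the order of `x * y` is odd, `x` and `y` are conjugate inside the group they generate. -/
theorem exists_conj_of_odd (hx : orderOf x = 2) (hy : orderOf y = 2)
    (hodd : Odd (orderOf (x * y))) :
    ∃ d ∈ Subgroup.closure ({x, y} : Set G), d * x * d⁻¹ = y := by
  obtain ⟨m, hm⟩ := hodd
  obtain ⟨d, hd, he⟩ := exists_conj_eq hx hy ((m : ℤ) + 1)
  refine ⟨d, hd, he.trans ?_⟩
  have hcast : ((2 * m + 1 : ℕ) : ℤ) = 2 * (m : ℤ) + 1 := by push_cast; ring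
  have h : (x * y) ^ (2 * ((m : ℤ) + 1)) = (x * y) ^ (1 : ℤ) := by
    rw [show 2 * ((m : ℤ) + 1) = (orderOf (x * y) : ℤ) + 1 by rw [hm, hcast]; ring, zpow_add,
      zpow_natCast, pow_orderOf_eq_one, one_mul]
  rw [h, self_mul_zpow_one hx]

theorem isConj_of_odd (hx : orderOf x = 2) (hy : orderOf y = 2)
    (hodd : Odd (orderOf (x * y))) : IsConj x y := by
  obtain ⟨d, _, hd⟩ := exists_conj_of_odd hx hy hodd
  exact isConj_iff.2 ⟨d, hd⟩

theorem conj_ne_of_even (hx : orderOf x = 2) (hy : orderOf y = 2)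
    (heven : Even (orderOf (x * y))) {d : G} (hd : d ∈ Subgroup.closure ({x, y} : Set G)) :
    d * x * d⁻¹ ≠ y := by
  obtain ⟨k, hk⟩ := conj_self_eq hx hy hd
  intro h
  rw [hk] at h
  have h1 : x * (x * y) ^ (2 * k) = x * (x * y) ^ (1 : ℤ) := h.trans (self_mul_zpow_one hx).symm
  have h2 := orderOf_dvd_sub_iff_zpow_eq_zpow.2 (mul_left_cancel h1)
  obtain ⟨m, hm⟩ := heven
  obtain ⟨c, hc⟩ := h2
  rw [hm] at hc
  push_cast at hc
  have h3 : (2 : ℤ) ∣ 2 * k - 1 := ⟨(m : ℤ) * c, by rw [hc]; ring⟩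
  omega

section Central

variable (hx : orderOf x = 2) (hy : orderOf y = 2) (heven : Even (orderOf (x * y)))
  (hn : 0 < orderOf (x * y))

include heven hn in
theorem orderOf_central : orderOf ((x * y) ^ (orderOf (x * y) / 2)) = 2 := by
  obtain ⟨m, hm⟩ := heven
  have hm2 : orderOf (x * y) / 2 = m := by omega
  rw [hm2, orderOf_pow_of_dvd (by omega) ⟨2, by omega⟩, hm]
  exact Nat.div_eq_of_eq_mul_left (by omega) (by omega)

include hx hy heven in
theorem commute_central : Commute ((x * y) ^ (orderOf (x * y) / 2)) x := by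
  obtain ⟨m, hm⟩ := heven
  have hm2 : orderOf (x * y) / 2 = m := by omega
  rw [hm2]
  have h1 : ((x * y) ^ m)⁻¹ = (x * y) ^ m := by
    refine inv_eq_of_mul_eq_one_right ?_
    rw [← pow_add, ← hm, pow_orderOf_eq_one]
  show (x * y) ^ m * x = x * (x * y) ^ m
  rw [← zpow_natCast, zpow_mul_self hx hy, zpow_neg, zpow_natCast, h1]

include hx hy heven in
theorem commute_central' : Commute ((x * y) ^ (orderOf (x * y) / 2)) y := by
  have h1 := commute_central hx hy heven
  have h2 : Commute ((x * y) ^ (orderOf (x * y) / 2)) (x * y) := (Commute.refl _).pow_left _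
  have h3 := h1.inv_right.mul_right h2
  simpa using h3

end Central

/-- The unique involution of a finite cyclic subgroup. -/
theorem eq_half_pow_of_mem_zpowers {a u : G} (hu : orderOf u = 2)
    (hmem : u ∈ Subgroup.zpowers a) :
    Even (orderOf a) ∧ u = a ^ (orderOf a / 2) := by
  obtain ⟨k, rfl⟩ := Subgroup.mem_zpowers_iff.1 hmem
  have h2 : (a ^ k) * (a ^ k) = 1 := mul_self_eq_one hu
  have hne : ¬ (orderOf a : ℤ) ∣ k := fun h => ne_one hu (orderOf_dvd_iff_zpow_eq_one.1 h)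
  rw [← zpow_add] at h2
  obtain ⟨c, hc⟩ := orderOf_dvd_iff_zpow_eq_one.2 h2
  rcases Int.even_or_odd' c with ⟨i, hi | hi⟩
  · exact absurd ⟨i, by rw [hi] at hc; linarith⟩ hne
  have heven : Even (orderOf a) := by
    by_contra ho
    obtain ⟨m, hm⟩ := Nat.not_even_iff_odd.1 ho
    rw [hi, hm] at hc
    push_cast at hc
    ring_nf at hc
    omega
  refine ⟨heven, ?_⟩
  obtain ⟨m, hm⟩ := heven
  have hm2 : orderOf a / 2 = m := by omega
  rw [hm2, ← zpow_natCast, zpow_eq_zpow_iff_modEq, Int.modEq_iff_dvd]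
  refine ⟨-i, ?_⟩
  rw [hi, hm] at hc
  rw [hm]
  push_cast at hc ⊢
  ring_nf at hc ⊢
  linarith

end Cfsg.Agent.Invol
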