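import Cfsg.Agent.Invol.ZStar
import Mathlib.GroupTheory.Perm.Cycle.Type

/-!
Consequences of the Z*-theorem for a group with an isolated involution.
-/

set_option autoImplicit false

namespace Cfsg.Agent.Invol

open Cfsg.Agent
open Pointwise

variable {G : Type*} [Group G] [Finite G] {z : G}

theorem sup_oddCore_decomp {d : G}
    (hd : d ∈ Cfsg.oddCore G ⊔ Subgroup.zpowers z) :
    ∃ o ∈ Cfsg.oddCore G, o⁻¹ * d ∈ Subgroup.zpowers z := by
  obtain ⟨o, ho, w, hw, rfl⟩ := Subgroup.mem_sup_of_normal_left.1 hd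
  exact ⟨o, ho, by rwa [inv_mul_cancel_left]⟩

/-- `G = O(G) C(z)`. -/
theorem isolated_decomp (hz : Cfsg.IsIsolatedInvolution z) (g : G) :
    ∃ o ∈ Cfsg.oddCore G, Commute (o⁻¹ * g) z := by
  have hconj : IsConj z (g * z * g⁻¹) := isConj_iff.2 ⟨g, rfl⟩
  obtain ⟨d, hd, he⟩ := exists_conj_of_odd hz.1 (orderOf_eq_two_of_isConj hconj hz.1)
    (isolated_odd_orderOf_mul hz (IsConj.refl z) hconj)
  have hle : Subgroup.closure ({z, g * z * g⁻¹} : Set G) ≤ Cfsg.oddCore G ⊔ Subgroup.zpowers z := by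
    rw [Subgroup.closure_le]
    intro x hx
    rcases hx with hx | hx <;> rw [hx]
    · exact Subgroup.mem_sup_right (Subgroup.mem_zpowers z)
    · show g * z * g⁻¹ ∈ Cfsg.oddCore G ⊔ Subgroup.zpowers z
      have h1 := inv_mem (zstar hz g)
      have e : g * z * g⁻¹ = (z * g * z⁻¹ * g⁻¹)⁻¹ * z := by group
      rw [e]
      exact mul_mem (Subgroup.mem_sup_left h1) (Subgroup.mem_sup_right (Subgroup.mem_zpowers z))
  obtain ⟨o, ho, hw⟩ := sup_oddCore_decomp (hle hd)
  obtain ⟨i, hi⟩ := Subgroup.mem_zpowers_iff.1 hw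
  refine ⟨o, ho, ?_⟩
  have hdo : d = o * z ^ i := by rw [hi, mul_inv_cancel_left]
  rw [hdo] at he
  have hoe : o * z * o⁻¹ = g * z * g⁻¹ := by
    rw [← he]
    group
  show o⁻¹ * g * z = z * (o⁻¹ * g)
  calc o⁻¹ * g * z = o⁻¹ * (g * z * g⁻¹) * g := by group
    _ = o⁻¹ * (o * z * o⁻¹) * g := by rw [hoe]
    _ = z * (o⁻¹ * g) := by group

/-- The odd order elements inverted by `z` correspond to the conjugates of `z`. -/
theorem card_inverted (hz : Cfsg.IsIsolatedInvolution z) :
    Nat.card G = Nat.card (Subgroup.centralizer ({z} : Set G)) *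
      Nat.card {k : G // Odd (orderOf k) ∧ z * k * z⁻¹ = k⁻¹} := by
  rw [← card_isConj_mul_card_centralizer z, mul_comm]
  congr 1
  have hzz : z * z = 1 := mul_self_eq_one hz.1
  refine Nat.card_congr
    { toFun := fun y => ⟨z * (y : G), isolated_odd_orderOf_mul hz (IsConj.refl z) y.2, ?_⟩
      invFun := fun k => ⟨z * (k : G), ?_⟩
      left_inv := fun y => Subtype.ext (by simp [← mul_assoc, hzz])
      right_inv := fun k => Subtype.ext (by simp [← mul_assoc, hzz]) }
  · rw [mul_inv_rev, inv_eq_self hz.1, inv_eq_self (orderOf_eq_two_of_isConj y.2 hz.1),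
      ← mul_assoc z z, hzz, one_mul]
  · obtain ⟨hodd, hinv⟩ := k.2
    replace hinv : z * (k : G) * z = (k : G)⁻¹ := (congrArg (z * (k : G) * ·) (inv_eq_self hz.1).symm).trans hinv
    have h2 : orderOf (z * (k : G)) = 2 := orderOf_eq_prime (by
      rw [pow_two, ← mul_assoc, hinv, inv_mul_cancel]) fun e => by
        have hk : (k : G) = z := (eq_inv_of_mul_eq_one_right e).trans (inv_eq_self hz.1)
        rw [hk, hz.1] at hodd
        exact absurd hodd (by decide)
    exact isConj_of_odd hz.1 h2 (by rwa [← mul_assoc, hzz, one_mul])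

/-- An isolated involution normalises some Sylow `p`-subgroup of every subgroup containing it. -/
theorem exists_invariant_sylow (hz : Cfsg.IsIsolatedInvolution z) {p : ℕ} [Fact p.Prime]
    (hp : p ≠ 2) : ∃ P : Sylow p G, z • P = P := by
  obtain ⟨P₀⟩ := (inferInstance : Nonempty (Sylow p G))
  set X := (P₀ : Subgroup G) ⊔ Cfsg.oddCore G with hX
  have hXodd : ¬ 2 ∣ Nat.card X := fun hd => by
    have h := hd.trans (Core.card_sup_dvd_mul (P₀ : Subgroup G) (Cfsg.oddCore G))
    rcases (Nat.Prime.dvd_mul Nat.prime_two).1 h with h | h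
    · obtain ⟨j, hj⟩ := P₀.2.exists_card_eq
      rw [hj] at h
      exact hp ((Nat.prime_dvd_prime_iff_eq Nat.prime_two Fact.out).1
        (Nat.prime_two.dvd_of_dvd_pow h)).symm
    · exact Core.not_dvd_card_pPrimeCore h
  have hconj : ∀ x : G, x ∈ X → z * x * z⁻¹ ∈ X := fun x hx => by
    have e : z * x * z⁻¹ = z * x * z⁻¹ * x⁻¹ * x := by group
    rw [e]
    exact mul_mem (Subgroup.mem_sup_right (zstar hz x)) hx
  classical
  let S := {P : Sylow p G // (P : Subgroup G) ≤ X}
  have hmem : ∀ P : Sylow p G, (P : Subgroup G) ≤ X → ((z • P : Sylow p G) : Subgroup G) ≤ X := by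
    intro P hP
    rw [Sylow.coe_subgroup_smul]
    rintro _ ⟨x, hx, rfl⟩
    exact hconj x (hP hx)
  have hsq : ∀ P : Sylow p G, z • (z • P) = P := fun P => by
    rw [← mul_smul, mul_self_eq_one hz.1, one_smul]
  let σ : Equiv.Perm S :=
    { toFun := fun P => ⟨z • P.1, hmem P.1 P.2⟩
      invFun := fun P => ⟨z • P.1, hmem P.1 P.2⟩
      left_inv := fun P => Subtype.ext (hsq P.1)
      right_inv := fun P => Subtype.ext (hsq P.1) }
  have hcard : ¬ 2 ∣ Nat.card S := by
    have e : S ≃ Sylow p X :=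
      { toFun := fun P => P.1.subtype P.2
        invFun := fun Q => ⟨((Q.2.map X.subtype).exists_le_sylow).choose, ?_⟩
        left_inv := ?_
        right_inv := ?_ }
    · rw [Nat.card_congr e]
      intro hd
      obtain ⟨Q⟩ := (inferInstance : Nonempty (Sylow p X))
      exact hXodd (hd.trans (Q.card_dvd_index.trans (Subgroup.index_dvd_card _)))
    all_goals
      have hmax : ∀ (Q : Sylow p X) (P : Sylow p G),
          (Q : Subgroup X).map X.subtype ≤ P → (Q : Subgroup X).map X.subtype = P := fun Q P h => by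
        refine Subgroup.eq_of_le_of_card_ge h ?_
        rw [Subgroup.card_map_of_injective X.subtype_injective,
          ← Nat.card_congr (Sylow.equiv (P₀.subtype le_sup_left) Q).toEquiv,
          Nat.card_congr (Sylow.equiv P P₀).toEquiv]
        exact (Nat.card_congr (Subgroup.subgroupOfEquivOfLe le_sup_left).toEquiv).ge
    · rw [← hmax Q _ ((Q.2.map X.subtype).exists_le_sylow).choose_spec]
      exact Subgroup.map_subtype_le _
    · intro P
      apply Subtype.ext
      apply Sylow.ext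
      have hs := (((P.1.subtype P.2).2.map X.subtype).exists_le_sylow).choose_spec
      rw [← hmax _ _ hs, Sylow.coe_subtype, Subgroup.subgroupOf_map_subtype,
        inf_eq_left.2 P.2]
    · intro Q
      apply Sylow.ext
      rw [Sylow.coe_subtype]
      show (((Q.2.map X.subtype).exists_le_sylow).choose : Subgroup G).subgroupOf X = _
      rw [← hmax Q _ ((Q.2.map X.subtype).exists_le_sylow).choose_spec]
      exact Subgroup.comap_map_eq_self_of_injective X.subtype_injective _
  have := Fintype.ofFinite S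
  obtain ⟨P, hP⟩ := Equiv.Perm.exists_fixed_point_of_prime (p := 2) (n := 1)
    (by rwa [Nat.card_eq_fintype_card] at hcard) (σ := σ)
    (Equiv.ext fun P => Subtype.ext (hsq P.1))
  exact ⟨P.1, congrArg Subtype.val hP⟩

/-- Invariant Sylow subgroups are conjugate under the centraliser. -/
theorem invariant_sylow_conj (hz : Cfsg.IsIsolatedInvolution z) {p : ℕ} [Fact p.Prime]
    {P Q : Sylow p G} (hP : z • P = P) (hQ : z • Q = Q) :
    ∃ c ∈ Subgroup.centralizer ({z} : Set G), c • Q = P := by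
  obtain ⟨g, rfl⟩ := MulAction.exists_smul_eq G P Q
  set y := g⁻¹ * z * g with hy
  have hyP : y • P = P := by rw [hy, mul_smul, mul_smul, hQ, inv_smul_smul]
  have hyc : IsConj z y := isConj_iff.2 ⟨g⁻¹, by rw [hy, inv_inv]⟩
  obtain ⟨d, hd, he⟩ := exists_conj_of_odd hz.1 (orderOf_eq_two_of_isConj hyc hz.1)
    (isolated_odd_orderOf_mul hz (IsConj.refl z) hyc)
  have hdP : d⁻¹ • P = P := by
    have hle : Subgroup.closure ({z, y} : Set G) ≤ MulAction.stabilizer G P := by
      rw [Subgroup.closure_le]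
      rintro x (rfl | rfl)
      · exact hP
      · exact hyP
    exact (inv_mem (hle hd) : d⁻¹ ∈ MulAction.stabilizer G P)
  refine ⟨d⁻¹ * g⁻¹, ?_, by rw [mul_smul, inv_smul_smul, hdP]⟩
  rw [Subgroup.mem_centralizer_singleton_iff]
  calc d⁻¹ * g⁻¹ * z = d⁻¹ * y * g⁻¹ := by rw [hy]; group
    _ = d⁻¹ * (d * z * d⁻¹) * g⁻¹ := by rw [he]
    _ = z * (d⁻¹ * g⁻¹) := by group

/-- A `p`-subgroup maximal among those normalised by an isolated involution is a Sylow subgroup. -/
theorem isolated_maximal_invariant (hz : Cfsg.IsIsolatedInvolution z) {p : ℕ} [hpf : Fact p.Prime]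
    (Q : Subgroup G) (hQ : IsPGroup p Q) (hzQ : z ∈ Subgroup.normalizer (Q : Set G))
    (hmax : ∀ R : Subgroup G, IsPGroup p R → z ∈ Subgroup.normalizer (R : Set G) → Q ≤ R → R = Q) :
    ∃ P : Sylow p G, (P : Subgroup G) = Q := by
  by_cases hp : p = 2
  · subst hp
    have hzz : IsPGroup 2 (Subgroup.zpowers z) :=
      IsPGroup.of_card (n := 1) (by rw [Nat.card_zpowers, hz.1, pow_one])
    have hR := hzz.to_sup_of_normal_right' hQ (Subgroup.zpowers_le.2 hzQ)
    have hzR : z ∈ Subgroup.zpowers z ⊔ Q := Subgroup.mem_sup_left (Subgroup.mem_zpowers z)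
    have hzmem : z ∈ Q := hmax _ hR (Subgroup.le_normalizer hzR) le_sup_right ▸ hzR
    obtain ⟨P, hP⟩ := hQ.exists_le_sylow
    exact ⟨P, hmax _ P.2 (Subgroup.le_normalizer (hP hzmem)) hP⟩
  set M := Subgroup.normalizer (Q : Set G) with hM
  obtain ⟨P, hP⟩ := exists_invariant_sylow (isolated_restrict hz M hzQ) (p := p) hp
  set R := (P : Subgroup M).map M.subtype with hR
  have hQP : Q ≤ R := by
    have hn : (Q.subgroupOf M).Normal := Subgroup.normal_subgroupOf_of_le_normalizer le_rfl
    haveI := hn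
    have := IsPGroup.le_sylow_of_normal (N := Q.subgroupOf M) hQ.comap_subtype P
    intro q hq
    exact ⟨⟨q, Subgroup.le_normalizer hq⟩, this hq, rfl⟩
  have hzR : z ∈ Subgroup.normalizer (R : Set G) := by
    have h := Sylow.smul_eq_iff_mem_normalizer.1 hP
    have h := Subgroup.mem_normalizer_iff.1 h
    rw [Subgroup.mem_normalizer_iff]
    intro x
    constructor
    · rintro ⟨y, hy, rfl⟩
      exact ⟨_, (h y).1 hy, rfl⟩
    · rintro ⟨y, hy, he⟩
      refine ⟨(⟨z, hzQ⟩ : M)⁻¹ * y * ⟨z, hzQ⟩, (h _).2 (show _ ∈ (P : Subgroup M) by simpa [mul_assoc] using (show y ∈ (P : Subgroup M) from hy)), ?_⟩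
      have he' : (y : G) = z * x * z⁻¹ := he
      simp [he', mul_assoc]
  have hRQ := hmax R (P.2.map _) hzR hQP
  obtain ⟨S, hS⟩ := hQ.exists_le_sylow
  refine ⟨S, ?_⟩
  by_contra hne
  have hlt : Q < S := lt_of_le_of_ne hS (Ne.symm hne)
  haveI : Group.IsNilpotent (S : Subgroup G) := S.2.isNilpotent
  have hgrow := Group.normalizerCondition_of_isNilpotent (Q.subgroupOf (S : Subgroup G))
    (lt_of_le_of_ne le_top fun e => hlt.not_ge (Subgroup.subgroupOf_eq_top.1 e))
  obtain ⟨r, hr, hrQ⟩ := SetLike.exists_of_lt hgrow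
  have hrM : (r : G) ∈ M := by
    rw [hM]
    rw [Subgroup.mem_normalizer_iff] at hr ⊢
    intro w
    constructor
    · intro hw
      exact (hr ⟨w, hS hw⟩).1 hw
    · intro hw
      have hwS : w ∈ (S : Subgroup G) := by
        have := mul_mem (mul_mem (inv_mem r.2) (hS hw)) r.2
        simpa [mul_assoc] using this
      exact (hr ⟨w, hwS⟩).2 hw
  -- `S ∩ M` is a `p`-subgroup of `M` strictly above `Q`
  set T := ((S : Subgroup G) ⊓ M).subgroupOf M with hT
  have hTp : IsPGroup p T := (S.2.to_le inf_le_left).comap_subtype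
  obtain ⟨T', hT'⟩ := hTp.exists_le_sylow
  have h1 : Nat.card T ≤ Nat.card Q := by
    rw [← hRQ, hR, Subgroup.card_map_of_injective M.subtype_injective]
    exact (Subgroup.card_le_of_le hT').trans_eq (Nat.card_congr (Sylow.equiv T' P).toEquiv)
  rw [Nat.card_congr (Subgroup.subgroupOfEquivOfLe inf_le_right).toEquiv] at h1
  have h2 : Q < (S : Subgroup G) ⊓ M := by
    refine lt_of_le_of_ne (le_inf hS Subgroup.le_normalizer) fun e => hrQ ?_
    show (r : G) ∈ Q
    rw [e]
    exact ⟨r.2, hrM⟩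
  exact h1.not_gt (Core.card_lt_of_lt h2)

end Cfsg.Agent.Invol
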