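import Cfsg.Agent.Invol.Count
import Cfsg.Prelude.Def_Involutions
import Mathlib.GroupTheory.Sylow
import Mathlib.GroupTheory.Nilpotent
import Mathlib.GroupTheory.Perm.Cycle.Type

/-!
Elementary properties of strongly embedded subgroups.
-/

set_option autoImplicit false

namespace Cfsg.Agent.Invol

variable {G : Type*} [Group G]

theorem mem_map_conj_iff {H : Subgroup G} {g x : G} :
    x ∈ H.map (MulAut.conj g).toMonoidHom ↔ g⁻¹ * x * g ∈ H := by
  rw [Subgroup.mem_map_equiv]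
  simp

/-- Strong embedding says that an element moving some involution of `H` into `H` lies in `H`. -/
theorem se_iff [Finite G] (H : Subgroup G) : Cfsg.IsStronglyEmbedded H ↔
    H ≠ ⊤ ∧ Even (Nat.card H) ∧
      ∀ t g : G, orderOf t = 2 → t ∈ H → g⁻¹ * t * g ∈ H → g ∈ H := by
  unfold Cfsg.IsStronglyEmbedded
  refine and_congr_right fun _ => and_congr_right fun _ => ⟨fun h t g ht htH htg => ?_, fun h g hg => ?_⟩
  · by_contra hg
    have ho := h g hg
    have hmem : t ∈ H ⊓ H.map (MulAut.conj g).toMonoidHom :=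
      Subgroup.mem_inf.2 ⟨htH, mem_map_conj_iff.2 htg⟩
    have hd := (Subgroup.orderOf_mk t hmem).symm.dvd.trans (orderOf_dvd_natCard _)
    rw [ht] at hd
    exact (Nat.not_even_iff_odd.2 ho) (even_iff_two_dvd.2 hd)
  · rw [← Nat.not_even_iff_odd, even_iff_two_dvd]
    intro hd
    have : Fact (Nat.Prime 2) := ⟨Nat.prime_two⟩
    obtain ⟨⟨t, hmem⟩, ht⟩ := exists_prime_orderOf_dvd_card' 2 hd
    rw [Subgroup.orderOf_mk] at ht
    exact hg (h t g ht hmem.1 (mem_map_conj_iff.1 hmem.2))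

theorem se_mem [Finite G] {H : Subgroup G} (hH : Cfsg.IsStronglyEmbedded H) {t g : G}
    (ht : orderOf t = 2) (htH : t ∈ H) (htg : g⁻¹ * t * g ∈ H) : g ∈ H :=
  ((se_iff H).1 hH).2.2 t g ht htH htg

theorem se_centralizer_le [Finite G] {H : Subgroup G} (hH : Cfsg.IsStronglyEmbedded H) {t : G}
    (ht : orderOf t = 2) (htH : t ∈ H) : Subgroup.centralizer ({t} : Set G) ≤ H := fun c hc => by
  refine se_mem hH ht htH ?_
  rw [mul_assoc, ← Subgroup.mem_centralizer_singleton_iff.1 hc, inv_mul_cancel_left]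
  exact htH

theorem exists_involution_of_ne_bot [Finite G] {X : Subgroup G} (hX : IsPGroup 2 X) (h : X ≠ ⊥) :
    ∃ t ∈ X, orderOf t = 2 := by
  have : Fact (Nat.Prime 2) := ⟨Nat.prime_two⟩
  have : Nontrivial X := (Subgroup.nontrivial_iff_ne_bot X).2 h
  obtain ⟨k, hk, hcard⟩ := hX.nontrivial_iff_card.1 inferInstance
  obtain ⟨t, ht⟩ := exists_prime_orderOf_dvd_card' (G := X) 2 (hcard ▸ dvd_pow_self 2 hk.ne')
  exact ⟨t, t.2, by rwa [Subgroup.orderOf_coe]⟩

/-- If `H` contains the normaliser of each nontrivial subgroup of one of its Sylow `2`-subgroups,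
it is strongly embedded (when proper and of even order). -/
theorem se_of_normalizers [Finite G] {H : Subgroup G} (hH : H ≠ ⊤) (P : Sylow 2 H)
    (hP : (P : Subgroup H) ≠ ⊥)
    (hN : ∀ X : Subgroup H, X ≤ (P : Subgroup H) → X ≠ ⊥ →
      Subgroup.normalizer ((X.map H.subtype : Subgroup G) : Set G) ≤ H) :
    Cfsg.IsStronglyEmbedded H := by
  have : Fact (Nat.Prime 2) := ⟨Nat.prime_two⟩
  have heven : Even (Nat.card H) := by
    obtain ⟨s, -, hs⟩ := exists_involution_of_ne_bot P.2 hP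
    exact even_iff_two_dvd.2 (hs ▸ orderOf_dvd_natCard s)
  refine (se_iff H).2 ⟨hH, heven, fun t g ht htH htg => ?_⟩
  set K := H ⊓ H.map (MulAut.conj g).toMonoidHom with hK
  have htK : t ∈ K := ⟨htH, mem_map_conj_iff.2 htg⟩
  obtain ⟨R, hR⟩ := (IsPGroup.of_card (n := 1) (G := Subgroup.zpowers (⟨t, htK⟩ : K))
    (by rw [Nat.card_zpowers, Subgroup.orderOf_mk, ht, pow_one])).exists_le_sylow
  set Q := (R : Subgroup K).map K.subtype with hQdef
  have hQp : IsPGroup 2 Q := R.2.map _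
  have htQ : t ∈ Q := ⟨⟨t, htK⟩, hR (Subgroup.mem_zpowers _), rfl⟩
  have hQK : Q ≤ K := Subgroup.map_subtype_le _
  have hQH : Q ≤ H := hQK.trans inf_le_left
  have hmax : ∀ Q' : Subgroup G, IsPGroup 2 Q' → Q ≤ Q' → Q' ≤ K → Q' = Q := by
    intro Q' hQ' hle hle'
    have h1 : (R : Subgroup K) ≤ Q'.subgroupOf K := fun r hr => hle ⟨r, hr, rfl⟩
    rw [hQdef, ← R.3 hQ'.comap_subtype h1]
    exact (Subgroup.map_subgroupOf_eq_of_le hle').symm
  obtain ⟨P', hP'⟩ := (hQp.comap_subtype (K := H)).exists_le_sylow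
  obtain ⟨h, hh⟩ := MulAction.exists_smul_eq H P' P
  set X : Subgroup H := (Q.subgroupOf H).map (MulAut.conj h).toMonoidHom with hX
  have hXP : X ≤ (P : Subgroup H) := by
    rw [← hh, Sylow.coe_subgroup_smul]
    exact Subgroup.map_mono hP'
  have hXne : X ≠ ⊥ := by
    intro hb
    have hmem : MulAut.conj h (⟨t, htH⟩ : H) ∈ X := ⟨⟨t, htH⟩, htQ, rfl⟩
    rw [hb, Subgroup.mem_bot, MulEquiv.map_eq_one_iff] at hmem
    exact ne_one ht (congrArg Subtype.val hmem)
  have hNQ : Subgroup.normalizer (Q : Set G) ≤ H := by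
    intro n hn
    have hXmap : X.map H.subtype = Q.map (MulAut.conj (h : G)).toMonoidHom := by
      rw [hX, Subgroup.map_map]
      ext w
      constructor
      · rintro ⟨q, hq, rfl⟩
        exact ⟨q, hq, by simp⟩
      · rintro ⟨q, hq, rfl⟩
        exact ⟨⟨q, hQH hq⟩, hq, by simp⟩
    have hc : (h : G) * n * (h : G)⁻¹ ∈ Subgroup.normalizer ((X.map H.subtype : Subgroup G) : Set G) := by
      rw [hXmap, Subgroup.mem_normalizer_iff]
      intro w
      rw [mem_map_conj_iff, mem_map_conj_iff, Subgroup.mem_normalizer_iff.1 hn]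
      constructor <;> intro hw <;> simpa [mul_assoc] using hw
    have h2 := mul_mem (mul_mem (inv_mem h.2) (hN X hXP hXne hc)) h.2
    simpa [mul_assoc] using h2
  set Hg := H.map (MulAut.conj g).toMonoidHom with hHg
  obtain ⟨R', hR'⟩ := (hQp.comap_subtype (K := Hg)).exists_le_sylow
  set A := (R' : Subgroup Hg).map Hg.subtype with hA
  have hQA : Q ≤ A := fun q hq => ⟨⟨q, (hQK hq).2⟩, hR' hq, rfl⟩
  have hAQ : A = Q := by
    by_contra hne
    have hlt : Q.subgroupOf A < ⊤ := by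
      rw [lt_top_iff_ne_top, ne_eq, Subgroup.subgroupOf_eq_top]
      exact fun hle => hne (le_antisymm hle hQA)
    have hnil : Group.IsNilpotent A := (R'.2.map _).isNilpotent
    obtain ⟨x, hxN, hxQ⟩ := SetLike.exists_of_lt (Group.normalizerCondition_of_isNilpotent _ hlt)
    rw [← Subgroup.subgroupOf_normalizer_eq hQA, Subgroup.mem_subgroupOf] at hxN
    have hxK : (x : G) ∈ K := ⟨hNQ hxN, Subgroup.map_subtype_le _ x.2⟩
    have hle : Q ⊔ Subgroup.zpowers (x : G) ≤ K := sup_le hQK (Subgroup.zpowers_le.2 hxK)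
    have hp : IsPGroup 2 ↥(Q ⊔ Subgroup.zpowers (x : G)) :=
      (R'.2.map Hg.subtype).to_le (sup_le hQA (Subgroup.zpowers_le.2 x.2))
    apply hxQ
    rw [Subgroup.mem_subgroupOf, ← hmax _ hp le_sup_left hle]
    exact Subgroup.mem_sup_right (Subgroup.mem_zpowers _)
  have hcardQ : Nat.card Q = Nat.card (P : Subgroup H) := by
    rw [← hAQ, hA, Subgroup.card_map_of_injective Hg.subtype_injective,
      Sylow.card_eq_multiplicity, Sylow.card_eq_multiplicity, hHg,
      Subgroup.card_map_of_injective (MulAut.conj g).injective]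
  set Q₁ := Q.map (MulAut.conj g⁻¹).toMonoidHom with hQ₁
  have hQ₁H : Q₁ ≤ H := by
    rintro _ ⟨q, hq, rfl⟩
    simpa using mem_map_conj_iff.1 (hQK hq).2
  have hc1 : Nat.card (Q₁.subgroupOf H) = 2 ^ (Nat.card H).factorization 2 := by
    rw [Nat.card_congr (Subgroup.subgroupOfEquivOfLe hQ₁H).toEquiv, hQ₁,
      Subgroup.card_map_of_injective (MulAut.conj g⁻¹).injective, hcardQ, Sylow.card_eq_multiplicity]
  have hc2 : Nat.card (Q.subgroupOf H) = 2 ^ (Nat.card H).factorization 2 := by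
    rw [Nat.card_congr (Subgroup.subgroupOfEquivOfLe hQH).toEquiv, hcardQ, Sylow.card_eq_multiplicity]
  obtain ⟨k, hk⟩ := MulAction.exists_smul_eq H (Sylow.ofCard (Q₁.subgroupOf H) hc1)
    (Sylow.ofCard (Q.subgroupOf H) hc2)
  have hk' : (Q₁.subgroupOf H).map (MulAut.conj k).toMonoidHom = Q.subgroupOf H := by
    have h1 := congrArg Sylow.toSubgroup hk
    rw [Sylow.coe_subgroup_smul] at h1
    exact h1
  have hn : (k : G) * g⁻¹ ∈ Subgroup.normalizer (Q : Set G) := by
    apply Subgroup.mem_normalizer_iff_map_conj_eq.2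
    refine Subgroup.eq_of_le_of_card_ge ?_ (Subgroup.card_map_of_injective (MulAut.conj ((k : G) * g⁻¹)).injective).ge
    rintro _ ⟨q, hq, rfl⟩
    have h1 : MulAut.conj k ⟨g⁻¹ * q * g, hQ₁H ⟨q, hq, by simp⟩⟩ ∈ Q.subgroupOf H := by
      rw [← hk']
      exact ⟨_, ⟨q, hq, by simp⟩, rfl⟩
    simpa [Subgroup.mem_subgroupOf, mul_assoc] using h1
  have := mul_mem (inv_mem (hNQ hn)) k.2
  simpa using this

end Cfsg.Agent.Invol
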