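import Cfsg.Agent.Invol.QuatData

/-!
Brauer-Suzuki characters for quaternion Sylow 2-subgroups of order at least 16.
-/

set_option autoImplicit false

namespace Cfsg.Agent.Invol

open Cfsg.Agent

universe u

variable {G : Type u} [Group G] [Fintype G]

/-- An irreducible character trivial everywhere is the principal character. -/
theorem irr_eq_one_of_const (χ : Cfsg.IrrCharacter G)
    (h : ∀ g, (χ : G → ℂ) g = (χ : G → ℂ) 1) : (χ : G → ℂ) = fun _ => 1 := by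
  by_contra hne
  have h0 := Char.classInner_irr_ne χ.2 (Char.isIrrCharacter_one (G := G)) hne
  simp only [Cfsg.classInner, h, map_one, mul_one, Finset.sum_const, Finset.card_univ, nsmul_eq_mul,
    ← Nat.card_eq_fintype_card, ← mul_assoc] at h0
  rw [inv_mul_cancel₀ Char.card_ne_zero, one_mul] at h0
  exact Char.IsIrr.one_ne_zero χ.2 h0

theorem QData.isolated {P : Sylow 2 G} {a : G} {k : ℕ} (h : QData P a k) :
    Cfsg.IsIsolatedInvolution (a ^ 2 ^ (k - 1)) :=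
  isolated_of_sylow P h.orderOf_z fun g hg =>
    h.eq_z hg ((orderOf_conj g _).trans h.orderOf_z)

theorem secInd_vanish {K : Subgroup G} {μ : K →* ℂˣ}
    (hμ : ∀ x, μ x = 1 ↔ ¬ 4 ∣ orderOf (x : G)) {g : G} (hg : ¬ 4 ∣ orderOf g) :
    secInd K μ g = 0 :=
  secInd_eq_zero K μ fun x hx => (hμ ⟨_, hx⟩).2 (by rwa [orderOf_conj])

/-- The two exceptional characters. -/
theorem QData.exists_chars {P : Sylow 2 G} {a : G} {k : ℕ} (h : QData P a k) (hk : 3 ≤ k) :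
    ∃ χp χn : Cfsg.IrrCharacter G,
      (χp : G → ℂ) ≠ (fun _ => 1) ∧ (χn : G → ℂ) ≠ (fun _ => 1) ∧
      (χn : G → ℂ) 1 = (χp : G → ℂ) 1 + 1 ∧
      (∀ g, ¬ 4 ∣ orderOf g → (χn : G → ℂ) g - (χp : G → ℂ) g = 1) ∧
      (χn : G → ℂ) (a ^ 2 ^ (k - 1)) = (χn : G → ℂ) 1 := by
  classical
  obtain ⟨μ, N, hd, hμ1, hμ3, -, hμ, -, -⟩ := h.exists_sectionData
  obtain ⟨F, hF⟩ : ∃ F, F = secInd _ μ := ⟨_, rfl⟩
  have hFg : Cfsg.IsGeneralizedCharacter G F := hF ▸ isGeneralized_secInd _ μ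
  have hn : Cfsg.classInner F F = 3 := hF ▸ (hd.classInner_self hμ1).1 (hμ3 hk)
  have hvan : ∀ g, ¬ 4 ∣ orderOf g → F g = 0 := fun g hg => hF ▸ secInd_vanish hμ hg
  obtain ⟨S, s, hS, hsS, -, -, hexp⟩ := exists_signed_support hFg (n := 3) (by norm_num)
    (hF ▸ classInner_secInd_one hμ1) (by simpa using hn)
  obtain ⟨χ₁, χ₂, hne, rfl⟩ := Finset.card_eq_two.1 (show S.card = 2 by omega)
  have hval : ∀ g, F g = 1 + s χ₁ * (χ₁ : G → ℂ) g + s χ₂ * (χ₂ : G → ℂ) g := fun g => by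
    rw [← apply_eq_sum (Char.IsGen.isClassFunction hFg) g, hexp fun χ => (χ : G → ℂ) g,
      Finset.sum_pair hne]
    ring
  have h1 : ¬ 4 ∣ orderOf (1 : G) := by simp
  have h0 := hval 1
  rw [hvan 1 h1] at h0
  obtain ⟨d₁, hd₁, e₁⟩ := Char.IsIrr.degree χ₁.2
  obtain ⟨d₂, hd₂, e₂⟩ := Char.IsIrr.degree χ₂.2
  obtain ⟨n₁, hs₁⟩ := hsS χ₁ (Finset.mem_insert_self _ _)
  obtain ⟨n₂, hs₂⟩ := hsS χ₂ (Finset.mem_insert_of_mem (Finset.mem_singleton_self _))
  rw [e₁, e₂] at h0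
  have hR := congrArg Complex.re h0
  have hd₁' : (1 : ℝ) ≤ d₁ := by exact_mod_cast hd₁
  have hd₂' : (1 : ℝ) ≤ d₂ := by exact_mod_cast hd₂
  have main : ∀ χp χn : Cfsg.IrrCharacter G, (χp : G → ℂ) ≠ (fun _ => 1) →
      (χn : G → ℂ) ≠ (fun _ => 1) →
      (∀ g, F g = 1 + (χp : G → ℂ) g - (χn : G → ℂ) g) →
      (∀ f : Cfsg.IrrCharacter G → ℂ, ∑ χ : Cfsg.IrrCharacter G,
        Cfsg.classInner F (χ : G → ℂ) * f χ =
          f ⟨fun _ => 1, Char.isIrrCharacter_one⟩ + f χp - f χn) →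
      ∃ χp χn : Cfsg.IrrCharacter G,
      (χp : G → ℂ) ≠ (fun _ => 1) ∧ (χn : G → ℂ) ≠ (fun _ => 1) ∧
      (χn : G → ℂ) 1 = (χp : G → ℂ) 1 + 1 ∧
      (∀ g, ¬ 4 ∣ orderOf g → (χn : G → ℂ) g - (χp : G → ℂ) g = 1) ∧
      (χn : G → ℂ) (a ^ 2 ^ (k - 1)) = (χn : G → ℂ) 1 := by
    intro χp χn hp hn hFv hf
    have hdiff : ∀ g, ¬ 4 ∣ orderOf g → (χn : G → ℂ) g - (χp : G → ℂ) g = 1 := fun g hg => by
      have := hFv g
      rw [hvan g hg] at this
      linear_combination this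
    have hdeg : (χn : G → ℂ) 1 = (χp : G → ℂ) 1 + 1 := by linear_combination hdiff 1 h1
    refine ⟨χp, χn, hp, hn, hdeg, hdiff, ?_⟩
    set z := a ^ 2 ^ (k - 1)
    have hzv : (χn : G → ℂ) z - (χp : G → ℂ) z = 1 :=
      hdiff z (by rw [h.orderOf_z]; norm_num)
    have hq := sum_mult_sq_eq_zero (Char.IsGen.isClassFunction hFg)
      (fun g hg => hvan g fun h4 => hg.not_two_dvd_nat (dvd_trans (by norm_num) h4))
      h.isolated
    rw [hf] at hq
    have hp1 := Char.IsIrr.one_ne_zero χp.2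
    have hn1 := Char.IsIrr.one_ne_zero χn.2
    simp only [one_pow, div_one] at hq
    field_simp at hq
    rw [hdeg] at hq ⊢
    have hsq : ((χp : G → ℂ) 1 - (χp : G → ℂ) z) ^ 2 = 0 := by
      linear_combination hq + (χp : G → ℂ) 1 * ((χn : G → ℂ) z + (χp : G → ℂ) z + 1) * hzv
    have he := sub_eq_zero.1 (sq_eq_zero_iff.1 hsq)
    linear_combination hzv - he
  rcases hs₁ with a₁ | a₁ <;> rcases hs₂ with a₂ | a₂ <;> rw [a₁, a₂] at hR <;>
    simp only [Complex.zero_re, Complex.add_re, Complex.one_re, one_mul, neg_mul, Complex.neg_re,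
      Complex.natCast_re] at hR
  · linarith
  · refine main χ₁ χ₂ n₁ n₂ (fun g => by rw [hval, a₁, a₂]; ring) fun f => ?_
    rw [hexp, Finset.sum_pair hne, a₁, a₂]; ring
  · refine main χ₂ χ₁ n₂ n₁ (fun g => by rw [hval, a₁, a₂]; ring) fun f => ?_
    rw [hexp, Finset.sum_pair hne, a₁, a₂]; ring
  · linarith

/-- The kernel of the larger exceptional character: a proper normal subgroup containing `z`
whose quotient is not abelian. -/
theorem QData.exists_normal {P : Sylow 2 G} {a : G} {k : ℕ} (h : QData P a k) (hk : 3 ≤ k) :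
    ∃ M : Subgroup G, M.Normal ∧ a ^ 2 ^ (k - 1) ∈ M ∧ M ≠ ⊤ ∧ ¬ commutator G ≤ M := by
  obtain ⟨χp, χn, -, hn, hdeg, -, hz⟩ := h.exists_chars hk
  have hc := Char.IsIrr.isCharacter χn.2
  refine ⟨Char.kerSubgroup hc, inferInstance, hz, fun e => hn ?_, fun hle => ?_⟩
  · refine irr_eq_one_of_const χn fun g => ?_
    exact (e ▸ Subgroup.mem_top g : g ∈ Char.kerSubgroup hc)
  · obtain ⟨φ, hφ, he⟩ := Char.IsIrr.exists_quotient (Char.kerSubgroup hc) χn.2 fun n hn => hn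
    have hcomm : ∀ x y : G ⧸ Char.kerSubgroup hc, x * y = y * x := by
      intro x y
      obtain ⟨x, rfl⟩ := QuotientGroup.mk_surjective x
      obtain ⟨y, rfl⟩ := QuotientGroup.mk_surjective y
      rw [← QuotientGroup.mk_mul, ← QuotientGroup.mk_mul, QuotientGroup.eq]
      refine hle ?_
      rw [show (x * y)⁻¹ * (y * x) = y⁻¹ * x⁻¹ * y⁻¹⁻¹ * x⁻¹⁻¹ by group, commutator_def]
      exact Subgroup.commutator_mem_commutator (Subgroup.mem_top y⁻¹) (Subgroup.mem_top x⁻¹)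
    have h1 := Char.IsIrr.degree_one_of_comm hφ hcomm
    have h2 := he 1
    rw [QuotientGroup.mk_one, h1, hdeg] at h2
    obtain ⟨d, hd, e⟩ := Char.IsIrr.degree χp.2
    rw [e] at h2
    have h3 : d + 1 = 1 := by exact_mod_cast h2
    omega

end Cfsg.Agent.Invol
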