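import Cfsg.Agent.Blocks.Principal
import Cfsg.Agent.Blocks.Rank

/-!
Principal block characters on a section, and characters outside the principal block summed over
the regular part of a section.
-/

set_option autoImplicit false

namespace Cfsg.Agent.Invol

open Cfsg.Agent
open scoped ComplexConjugate

universe u

variable {G : Type u} [Group G] [Fintype G] {p : ℕ} {M : Ideal Cfsg.AlgInt}

open scoped Classical in
/-- Principal block characters are trivial on normal subgroups of order prime to `p`. -/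
theorem principal_trivial_on (hM : Cfsg.IsPModular p M) (K : Subgroup G) [K.Normal]
    (hK : ¬ p ∣ Nat.card K) {χ : Cfsg.IrrCharacter G} (hχ : χ ∈ Cfsg.principalBlock M G) {x : G}
    (hx : x ∈ K) : (χ : G → ℂ) x = (χ : G → ℂ) 1 := by
  set e : G → ℂ := fun g => if g ∈ K then (Nat.card K : ℂ)⁻¹ else 0 with he
  have hKne : (Nat.card K : ℂ) ≠ 0 := Nat.cast_ne_zero.2 Nat.card_pos.ne'
  have hec : Cfsg.IsClassFunction G e := fun g k => by
    have : k * g * k⁻¹ ∈ K ↔ g ∈ K := ⟨fun h => by
      have := Subgroup.Normal.conj_mem (inferInstance : K.Normal) _ h k⁻¹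
      simpa [mul_assoc] using this, fun h => Subgroup.Normal.conj_mem inferInstance g h k⟩
    simp only [he, this]
  have hcardf : ((Finset.univ.filter (· ∈ K)).card : ℂ) = Nat.card K := by
    rw [← Fintype.card_subtype, ← Nat.card_eq_fintype_card]
  have hidem : Blocks.conv e e = e := by
    funext z
    simp only [Blocks.conv, he]
    have : ∀ a : G, ((if a ∈ K then (Nat.card K : ℂ)⁻¹ else 0) *
        if a⁻¹ * z ∈ K then (Nat.card K : ℂ)⁻¹ else 0) =
        if a ∈ K then (if z ∈ K then (Nat.card K : ℂ)⁻¹ * (Nat.card K : ℂ)⁻¹ else 0) else 0 := by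
      intro a
      by_cases ha : a ∈ K
      · simp [ha, K.mul_mem_cancel_left (inv_mem ha)]
      · simp [ha]
    rw [Finset.sum_congr rfl fun a _ => this a, ← Finset.sum_filter, Finset.sum_const,
      nsmul_eq_mul, hcardf]
    split_ifs
    · field_simp
    · simp
  have heR : ∀ g, Cfsg.MemLocalRing M (e g) := fun g => by
    simp only [he]
    split_ifs
    · exact Blocks.memLocalRing_natCast_inv hM hK
    · exact (Blocks.localRing hM).zero_mem
  have h1 : Blocks.omega (Blocks.triv G : G → ℂ) e = 1 := by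
    show Blocks.omega (fun _ : G => (1 : ℂ)) e = 1
    simp only [Blocks.omega, he, mul_one, div_one]
    rw [← Finset.sum_filter, Finset.sum_const, nsmul_eq_mul, hcardf, mul_inv_cancel₀ hKne]
  have hd := Blocks.memLocalIdeal_omega_sub hM (Blocks.triv G).2 χ.2 hec heR
    (Blocks.mem_blockOf.1 hχ)
  have h2 : Blocks.omega (χ : G → ℂ) e * Blocks.omega (χ : G → ℂ) e =
      Blocks.omega (χ : G → ℂ) e := by
    rw [← Blocks.omega_conv χ.2 hec hec, hidem]
  have h3 : Blocks.omega (χ : G → ℂ) e = 1 := by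
    refine ((IsIdempotentElem.iff_eq_zero_or_one).1 h2).resolve_left fun h0 => ?_
    rw [h1, h0, sub_zero] at hd
    exact Blocks.not_memLocalIdeal_one hM hd
  refine Blocks.char_eq_degree_of_sum_eq (Char.IsIrr.isCharacter χ.2) K ?_ hx
  rw [Blocks.omega, div_eq_one_iff_eq (Char.IsIrr.one_ne_zero χ.2)] at h3
  rw [← h3, Finset.mul_sum, Finset.sum_filter]
  refine Finset.sum_congr rfl fun y _ => ?_
  simp only [he]
  by_cases hy : y ∈ K
  · rw [if_pos hy, if_pos hy, mul_inv_cancel_left₀ hKne]
  · rw [if_neg hy, if_neg hy, zero_mul, mul_zero]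

/-- The class function `c ↦ χ (u c)` on the centraliser. -/
theorem isClassFunction_shift {χ : G → ℂ} (hχ : Cfsg.IsClassFunction G χ) (u : G) :
    Cfsg.IsClassFunction (Subgroup.centralizer ({u} : Set G)) (fun c => χ (u * (c : G))) := by
  intro c k
  have hk := Subgroup.mem_centralizer_singleton_iff.1 k.2
  show χ (u * ((k * c * k⁻¹ : Subgroup.centralizer ({u} : Set G)) : G)) = χ (u * (c : G))
  rw [← hχ (u * (c : G)) (k : G)]
  congr 1
  simp only [Subgroup.coe_mul, Subgroup.coe_inv]
  calc u * ((k : G) * c * (k : G)⁻¹) = u * k * c * (k : G)⁻¹ := by group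
    _ = (k : G) * (u * c) * (k : G)⁻¹ := by rw [← hk]; group

open scoped Classical in
/-- At a regular point only the blocks of the centraliser inducing `B` contribute. -/
theorem shift_eq_sum (hM : Cfsg.IsPModular p M) {u : G} (hu : ∃ k, orderOf u = p ^ k)
    {B : Set (Cfsg.IrrCharacter G)} (hB : Cfsg.IsPBlock M B) {χ : Cfsg.IrrCharacter G} (hχ : χ ∈ B)
    {y : Subgroup.centralizer ({u} : Set G)} (hy : ¬ p ∣ orderOf y) :
    (χ : G → ℂ) (u * (y : G)) =
      ∑ ψ ∈ Finset.univ.filter (fun ψ : Cfsg.IrrCharacter (Subgroup.centralizer ({u} : Set G)) =>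
        Cfsg.IsInducedBlock M (Subgroup.centralizer ({u} : Set G))
          (Cfsg.blockOf M (ψ : Subgroup.centralizer ({u} : Set G) → ℂ)) B), Cfsg.classInner (fun c : Subgroup.centralizer ({u} : Set G) =>
        (χ : G → ℂ) (u * (c : G))) (ψ : Subgroup.centralizer ({u} : Set G) → ℂ) *
          (ψ : Subgroup.centralizer ({u} : Set G) → ℂ) y := by
  set ϑ := fun c : Subgroup.centralizer ({u} : Set G) => (χ : G → ℂ) (u * (c : G)) with hϑ
  have hcl := isClassFunction_shift (Char.isClassFunction_of_isIrr χ.2) u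
  have hexp : ϑ y = ∑ ψ : Cfsg.IrrCharacter (Subgroup.centralizer ({u} : Set G)),
      Cfsg.classInner ϑ (ψ : Subgroup.centralizer ({u} : Set G) → ℂ) *
        (ψ : Subgroup.centralizer ({u} : Set G) → ℂ) y := by
    conv_lhs => rw [Char.classFun_expansion (show Cfsg.IsClassFunction _ ϑ from hcl)]
    simp [Finset.sum_apply]
  show ϑ y = _
  rw [hexp, ← Finset.sum_filter_add_sum_filter_not Finset.univ (fun ψ :
    Cfsg.IrrCharacter (Subgroup.centralizer ({u} : Set G)) =>
      Cfsg.IsInducedBlock M (Subgroup.centralizer ({u} : Set G))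
        (Cfsg.blockOf M (ψ : Subgroup.centralizer ({u} : Set G) → ℂ)) B), add_eq_left]
  -- group by blocks
  set key : Cfsg.IrrCharacter (Subgroup.centralizer ({u} : Set G)) →
      Set (Cfsg.IrrCharacter (Subgroup.centralizer ({u} : Set G))) :=
    fun ψ => Cfsg.blockOf M (ψ : Subgroup.centralizer ({u} : Set G) → ℂ) with hkey
  have hzero : ∀ ψ₀, ¬ Cfsg.IsInducedBlock M _ (key ψ₀) B →
      ∑ ψ ∈ Finset.univ.filter (fun ψ => key ψ = key ψ₀),
        Cfsg.classInner ϑ (ψ : Subgroup.centralizer ({u} : Set G) → ℂ) *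
          (ψ : Subgroup.centralizer ({u} : Set G) → ℂ) y = 0 := by
    intro ψ₀ hψ₀
    have h := Blocks.blockPart_eq_kernel (key ψ₀) ϑ y
    rw [Blocks.sum_section_kernel_eq_zero hM hu (Blocks.mem_centralizer_iff_comm u) hB hχ
      (Blocks.isPBlock_blockOf ψ₀) hψ₀ hy, mul_zero] at h
    simp only [Cfsg.blockPart, finsum_mem_eq_finite_toFinset_sum _ (Set.toFinite (key ψ₀))] at h
    refine Eq.trans ?_ h
    refine Finset.sum_congr ?_ fun ψ _ => ?_
    · ext ψ
      simp only [Finset.mem_filter, Finset.mem_univ, true_and, Set.Finite.mem_toFinset, hkey]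
      exact ⟨fun e => e ▸ Blocks.mem_blockOf_self hM ψ, fun e =>
        (Blocks.blockOf_eq_of_sameBlock hM (Blocks.mem_blockOf.1 e)).symm⟩
    · simp only [Cfsg.classInner]
      congr 2
      exact Finset.sum_congr (by ext; simp) fun _ _ => rfl
  rw [← Finset.sum_fiberwise_of_maps_to (g := key)
    (t := (Finset.univ.filter fun ψ => ¬ Cfsg.IsInducedBlock M _ (key ψ) B).image key)
    fun ψ hψ => Finset.mem_image_of_mem key hψ]
  refine Finset.sum_eq_zero fun K hK => ?_
  obtain ⟨ψ₀, hψ₀, rfl⟩ := Finset.mem_image.1 hK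
  simp only [Finset.mem_filter, Finset.mem_univ, true_and] at hψ₀
  refine Eq.trans (Finset.sum_congr ?_ fun _ _ => rfl) (hzero ψ₀ hψ₀)
  ext ψ
  simp only [Finset.mem_filter, Finset.mem_univ, true_and, and_iff_right_iff_imp]
  exact fun e => e ▸ hψ₀

/-- The blocks inducing the principal block. -/
theorem induced_principal_iff (hM : Cfsg.IsPModular p M) {u : G} (hu : ∃ k, orderOf u = p ^ k)
    {ψ : Cfsg.IrrCharacter (Subgroup.centralizer ({u} : Set G))} :
    Cfsg.IsInducedBlock M (Subgroup.centralizer ({u} : Set G))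
      (Cfsg.blockOf M (ψ : Subgroup.centralizer ({u} : Set G) → ℂ)) (Cfsg.principalBlock M G) ↔
      ψ ∈ Cfsg.principalBlock M (Subgroup.centralizer ({u} : Set G)) := by
  classical
  obtain ⟨k, hk⟩ := hu
  have hP : IsPGroup p (Subgroup.zpowers u) :=
    IsPGroup.of_card (n := k) (by rw [Nat.card_zpowers, hk])
  have hH : ∀ c : G, c ∈ Subgroup.centralizer ({u} : Set G) ↔
      ∀ v ∈ Subgroup.zpowers u, v * c = c * v := by
    intro c
    rw [Blocks.mem_centralizer_iff_comm]
    exact ⟨fun h v ⟨i, hi⟩ => hi ▸ ((show Commute u c from h).zpow_left i).eq,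
      fun h => h u (Subgroup.mem_zpowers u)⟩
  rw [← Blocks.mem_inducing_iff hM hP hH (Blocks.isPBlock_principalBlock M)
    (Blocks.isPBlock_blockOf ψ) (Blocks.mem_blockOf_self hM ψ),
    Blocks.inducing_principalBlock hM hP hH]

/-- Brauer: principal block characters are constant on the sections of `O_{p'}` of centralisers. -/
theorem section_constant (hM : Cfsg.IsPModular p M) {u : G} (hu : ∃ k, orderOf u = p ^ k)
    (K : Subgroup (Subgroup.centralizer ({u} : Set G))) [K.Normal] (hK : ¬ p ∣ Nat.card K)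
    {χ : Cfsg.IrrCharacter G} (hχ : χ ∈ Cfsg.principalBlock M G)
    {v : Subgroup.centralizer ({u} : Set G)} (hv : v ∈ K) :
    (χ : G → ℂ) (u * (v : G)) = (χ : G → ℂ) u := by
  classical
  have hvp : ¬ p ∣ orderOf v := fun h => hK (h.trans (by
    rw [← Subgroup.orderOf_mk v hv]; exact orderOf_dvd_natCard _))
  have h1p : ¬ p ∣ orderOf (1 : Subgroup.centralizer ({u} : Set G)) := by
    simp [hM.1.ne_one]
  have hB := Blocks.isPBlock_principalBlock (G := G) M
  conv_rhs => rw [← mul_one u, ← Subgroup.coe_one (Subgroup.centralizer ({u} : Set G))]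
  rw [shift_eq_sum hM hu hB hχ hvp, shift_eq_sum hM hu hB hχ h1p]
  refine Finset.sum_congr rfl fun ψ hψ => ?_
  rw [principal_trivial_on hM K hK
    ((induced_principal_iff hM hu).1 (Finset.mem_filter.1 hψ).2) hv]

open scoped Classical in
/-- Outside the principal block the sum over the regular part of a section vanishes. -/
theorem section_sum_eq_zero (hM : Cfsg.IsPModular p M) {u : G} (hu : ∃ k, orderOf u = p ^ k)
    {χ : Cfsg.IrrCharacter G} (hχ : χ ∉ Cfsg.principalBlock M G) :
    ∑ y ∈ Finset.univ.filter (fun y : Subgroup.centralizer ({u} : Set G) => ¬ p ∣ orderOf y),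
      (χ : G → ℂ) (u * (y : G)) = 0 := by
  rw [Finset.sum_congr rfl fun y hy => shift_eq_sum hM hu (Blocks.isPBlock_blockOf χ)
    (Blocks.mem_blockOf_self hM χ) (Finset.mem_filter.1 hy).2, Finset.sum_comm]
  refine Finset.sum_eq_zero fun ψ hψ => ?_
  rw [← Finset.mul_sum]
  refine mul_eq_zero_of_right _ ?_
  have hψ0 : ψ ∉ Cfsg.principalBlock M (Subgroup.centralizer ({u} : Set G)) := fun h => by
    have h1 := (Finset.mem_filter.1 hψ).2
    have h2 := (induced_principal_iff hM hu).2 h
    refine hχ (Blocks.mem_blockOf.2 fun g => ?_)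
    have e1 := h1.2.2 ψ (Blocks.mem_blockOf_self hM ψ) χ (Blocks.mem_blockOf_self hM χ) g
    have e2 := h2.2.2 ψ (Blocks.mem_blockOf_self hM ψ) (Blocks.triv G)
      (Blocks.triv_mem_principalBlock hM) g
    simpa [Blocks.triv] using Blocks.memLocalIdeal_sub hM e1 e2
  have h := BlockThms.sum_eta_mul_eq_zero hM (Blocks.isPBlock_principalBlock M)
    (Blocks.triv_mem_principalBlock hM) hψ0
  rw [← h, Finset.sum_filter]
  refine Finset.sum_congr (by ext; simp) fun y _ => ?_
  by_cases hy : p ∣ orderOf y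
  · rw [BlockThms.eta_of_singular _ (fun h => h hy), zero_mul, if_neg (not_not.2 hy)]
  · rw [BlockThms.eta_of_regular _ hy, if_pos hy]; simp [Blocks.triv]

end Cfsg.Agent.Invol
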