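import Cfsg.Agent.Invol.BSQ8
import Cfsg.Agent.Invol.BSBig
import Cfsg.Agent.Invol.Section942
import Cfsg.Agent.BlockChar.Support
import Cfsg.Agent.Blocks.Modular
import Cfsg.Agent.CharArith.Basic
import Cfsg.Agent.Core.PCore
import Cfsg.Prelude.Def_CaseTheorems

/-!
Glauberman's Z*-theorem.
-/

set_option autoImplicit false

namespace Cfsg.Agent.Invol

open Cfsg.Agent
open scoped ComplexConjugate

universe u

variable {G : Type u} [Group G] [Finite G]

/-- The theorem for all groups of order less than `n`. -/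
def ZStarBelow (n : ℕ) : Prop :=
  ∀ (H : Type u) [Group H] [Finite H], Nat.card H < n → ∀ z : H, Cfsg.IsIsolatedInvolution z →
    ∀ h : H, z * h * z⁻¹ * h⁻¹ ∈ Cfsg.oddCore H

omit [Finite G] in
theorem isolated_restrict {z : G} (hz : Cfsg.IsIsolatedInvolution z) (H : Subgroup G)
    (hzH : z ∈ H) : Cfsg.IsIsolatedInvolution (⟨z, hzH⟩ : H) :=
  ⟨by rw [Subgroup.orderOf_mk, hz.1], fun g hc => Subtype.ext (hz.2 g (hc.map H.subtype))⟩

theorem isolated_map {G' : Type*} [Group G'] {z : G} (hz : Cfsg.IsIsolatedInvolution z)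
    {f : G →* G'} (hf : Function.Surjective f) (hne : f z ≠ 1) :
    Cfsg.IsIsolatedInvolution (f z) := by
  have hsq : f z * f z = 1 := by rw [← map_mul, mul_self_eq_one hz.1, map_one]
  refine ⟨orderOf_eq_prime (by rw [pow_two, hsq]) hne, fun g' hc => ?_⟩
  obtain ⟨g, rfl⟩ := hf g'
  have hodd := isolated_odd_orderOf_mul hz (IsConj.refl z) (isConj_iff.2 ⟨g, rfl⟩)
  have he : f g * f z * (f g)⁻¹ = f (g * z * g⁻¹) := by simp
  rw [he] at hc ⊢
  have h2 : f (z * (g * z * g⁻¹)) ^ 2 = 1 := by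
    rw [map_mul, hc.mul_pow, ← map_pow f (g * z * g⁻¹), pow_two, pow_two, hsq, conj_mul,
      mul_self_eq_one hz.1, mul_one, mul_inv_cancel, map_one, mul_one]
  have h1 : f (z * (g * z * g⁻¹)) = 1 := by
    rw [← orderOf_eq_one_iff]
    refine Nat.eq_one_of_dvd_coprimes ?_ (orderOf_map_dvd f _) (orderOf_dvd_of_pow_eq_one h2)
    exact (Nat.coprime_two_right).2 hodd
  rw [map_mul] at h1
  exact (mul_left_cancel (h1.trans hsq.symm))

theorem eq_bot_of_odd (hO : Cfsg.oddCore G = ⊥) (N : Subgroup G) [N.Normal]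
    (hN : ¬ 2 ∣ Nat.card N) : N = ⊥ :=
  le_bot_iff.1 (hO ▸ Core.le_pPrimeCore (p := 2)
    ((Nat.prime_two.coprime_iff_not_dvd.2 hN).symm))

theorem mem_center_of_normalComplement (hO : Cfsg.oddCore G = ⊥) {z : G}
    (hz : Cfsg.IsIsolatedInvolution z) (hc : Cfsg.HasNormalPComplement 2 G) :
    z ∈ Subgroup.center G := by
  obtain ⟨P, N, hN, hNP⟩ := hc
  have hcard : ¬ 2 ∣ Nat.card N := hNP.index_eq_card ▸ P.not_dvd_index
  rw [eq_bot_of_odd hO N hcard, Subgroup.isComplement'_bot_left] at hNP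
  have hall : ∀ g, g ∈ P := fun g => show g ∈ (P : Subgroup G) from hNP ▸ Subgroup.mem_top g
  exact Subgroup.mem_center_iff.2 fun g =>
    mul_inv_eq_iff_eq_mul.1 (isolated_eq_of_mem_sylow P hz (hall z) (hall _))

theorem mem_center_of_proper_normal (ih : ZStarBelow.{u} (Nat.card G)) (hO : Cfsg.oddCore G = ⊥)
    {z : G} (hz : Cfsg.IsIsolatedInvolution z) {N : Subgroup G} [hN : N.Normal] (hzN : z ∈ N)
    (hne : N ≠ ⊤) : z ∈ Subgroup.center G := by
  have h := ih N (Core.card_lt_of_ne_top hne) ⟨z, hzN⟩ (isolated_restrict hz N hzN)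
  refine Subgroup.mem_center_iff.2 fun g => mul_inv_eq_iff_eq_mul.1 (hz.2 g ?_)
  have hg : g * z * g⁻¹ ∈ N := hN.conj_mem z hzN g
  have h1 := Subgroup.mem_map_of_mem N.subtype (h ⟨_, hg⟩)
  change _ ∈ (Cfsg.pPrimeCore 2 N).map N.subtype at h1
  rw [Core.map_pPrimeCore_normal, show Cfsg.pPrimeCore 2 G = ⊥ from hO, bot_inf_eq,
    Subgroup.mem_bot] at h1
  simp only [Subgroup.subtype_apply, Subgroup.coe_mul, Subgroup.coe_inv] at h1
  exact mul_inv_eq_iff_eq_mul.1 (mul_inv_eq_one.1 h1)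

theorem eq_or_mem_center_of_central_involution (ih : ZStarBelow.{u} (Nat.card G))
    (hO : Cfsg.oddCore G = ⊥) {z : G} (hz : Cfsg.IsIsolatedInvolution z) {c : G}
    (hc : c ∈ Subgroup.center G) (hc2 : orderOf c = 2) : c = z ∨ z ∈ Subgroup.center G := by
  refine or_iff_not_imp_left.2 fun hne => ?_
  set Z := Subgroup.zpowers c with hZ
  have hZc : Z ≤ Subgroup.center G := Subgroup.zpowers_le.2 hc
  haveI : Z.Normal := ⟨fun n hn g => by
    rw [Subgroup.mem_center_iff.1 (hZc hn) g, mul_inv_cancel_right]; exact hn⟩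
  have hZcard : Nat.card Z = 2 := by rw [hZ, Nat.card_zpowers, hc2]
  have hZmem : ∀ x ∈ Z, orderOf x = 2 → x = c := fun x hx h2 => by
    obtain ⟨-, h⟩ := eq_half_pow_of_mem_zpowers h2 hx
    rw [h, hc2, Nat.div_self two_pos, pow_one]
  set f := QuotientGroup.mk' Z with hf
  have hfne : f z ≠ 1 := fun e =>
    hne (hZmem z ((QuotientGroup.eq_one_iff z).1 e) hz.1).symm
  have hiso := isolated_map hz (QuotientGroup.mk'_surjective Z) hfne
  have hlt : Nat.card (G ⧸ Z) < Nat.card G := Core.card_quotient_lt fun e => by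
    rw [e, Subgroup.card_bot] at hZcard
    omega
  set K := (Cfsg.pPrimeCore 2 (G ⧸ Z)).comap f with hK
  haveI : K.Normal := Subgroup.Normal.comap inferInstance f
  have hZK : Z ≤ K := fun x hx => by
    rw [hK, Subgroup.mem_comap, hf, QuotientGroup.mk'_apply, (QuotientGroup.eq_one_iff x).2 hx]
    exact one_mem _
  have hKcard : Nat.card K = 2 * Nat.card (Cfsg.pPrimeCore 2 (G ⧸ Z)) := by
    have h1 := Subgroup.card_mul_index K
    rw [hK, Subgroup.index_comap_of_surjective _ (QuotientGroup.mk'_surjective Z),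
      Subgroup.card_eq_card_quotient_mul_card_subgroup Z, hZcard,
      ← Subgroup.card_mul_index (Cfsg.pPrimeCore 2 (G ⧸ Z))] at h1
    refine Nat.eq_of_mul_eq_mul_right (Nat.pos_of_ne_zero Subgroup.index_ne_zero_of_finite)
      (h1.trans ?_)
    ring
  have hodd : ¬ 2 ∣ Nat.card (Cfsg.pPrimeCore 2 (G ⧸ Z)) := Core.not_dvd_card_pPrimeCore
  have hcardP : Nat.card (Z.subgroupOf K) = 2 ^ (Nat.card K).factorization 2 := by
    rw [Nat.card_congr (Subgroup.subgroupOfEquivOfLe hZK).toEquiv, hZcard, hKcard,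
      Nat.factorization_mul two_ne_zero Nat.card_pos.ne', Finsupp.add_apply,
      Nat.Prime.factorization_self Nat.prime_two, Nat.factorization_eq_zero_of_not_dvd hodd]
    norm_num
  set P : Sylow 2 K := Sylow.ofCard (Z.subgroupOf K) hcardP with hPdef
  have hP : Subgroup.normalizer ((P : Subgroup K) : Set K) ≤
      Subgroup.centralizer ((P : Subgroup K) : Set K) := fun x _ => by
    refine Subgroup.mem_centralizer_iff.2 fun y hy => Subtype.ext ?_
    have hy' : (y : G) ∈ Z := by
      rw [hPdef, Sylow.coe_ofCard] at hy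
      exact hy
    exact (Subgroup.mem_center_iff.1 (hZc hy') x).symm
  have hR : (MonoidHom.transferSylow P hP).ker ≤ Cfsg.pPrimeCore 2 K :=
    Core.le_pPrimeCore ((Nat.prime_two.coprime_iff_not_dvd.2
      (MonoidHom.not_dvd_card_ker_transferSylow P hP)).symm)
  refine Subgroup.mem_center_iff.2 fun g => mul_inv_eq_iff_eq_mul.1 ?_
  have hvodd := isolated_odd_orderOf_mul hz (IsConj.refl z) (isConj_iff.2 ⟨g, rfl⟩)
  set v := z * (g * z * g⁻¹) with hv
  have hvK : v ∈ K := by
    rw [hK, Subgroup.mem_comap]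
    have := ih (G ⧸ Z) hlt _ hiso (f g)
    rw [← map_inv, ← map_inv, ← map_mul, ← map_mul, ← map_mul, inv_eq_self hz.1] at this
    rwa [hv, ← mul_assoc, ← mul_assoc]
  have hvR : (⟨v, hvK⟩ : K) ∈ (MonoidHom.transferSylow P hP).ker := by
    rw [MonoidHom.mem_ker, ← orderOf_eq_one_iff]
    refine Nat.eq_one_of_dvd_coprimes ?_ (orderOf_map_dvd _ _)
      (orderOf_dvd_natCard _)
    rw [show Nat.card (P : Subgroup K) = 2 by
      rw [hPdef, Sylow.coe_ofCard, Nat.card_congr (Subgroup.subgroupOfEquivOfLe hZK).toEquiv,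
        hZcard], Subgroup.orderOf_mk]
    exact Nat.coprime_two_right.2 hvodd
  have h1 := Subgroup.mem_map_of_mem K.subtype (hR hvR)
  rw [Core.map_pPrimeCore_normal, show Cfsg.pPrimeCore 2 G = ⊥ from hO, bot_inf_eq,
    Subgroup.mem_bot] at h1
  have h2 : z * (g * z * g⁻¹) = z * z := h1.trans (mul_self_eq_one hz.1).symm
  exact mul_left_cancel h2

open scoped Classical in
/-- The section facts needed in the quaternion case of order eight. -/
theorem q8_facts [Fintype G] {P : Sylow 2 G} {a : G} (h : QData P a 2)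
    (haC : a ∈ Subgroup.centralizer ({a * a} : Set G))
    (χ : Cfsg.IrrCharacter (Subgroup.centralizer ({a * a} : Set G))) :
    (∀ r, Commute (⟨a, haC⟩ : Subgroup.centralizer ({a * a} : Set G)) r → Odd (orderOf r) →
        (χ : ↥(Subgroup.centralizer ({a * a} : Set G)) → ℂ) (⟨a, haC⟩ * r) = (χ : ↥(Subgroup.centralizer ({a * a} : Set G)) → ℂ) ⟨a, haC⟩) ∨
      ∑ r ∈ Finset.univ.filter
          (fun r => Commute (⟨a, haC⟩ : Subgroup.centralizer ({a * a} : Set G)) r ∧ Odd (orderOf r)),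
        (χ : ↥(Subgroup.centralizer ({a * a} : Set G)) → ℂ) (⟨a, haC⟩ * r) = 0 := by
  obtain ⟨M, hM⟩ := Blocks.exists_isPModular 2 Nat.prime_two
  revert haC χ
  set C := Subgroup.centralizer ({a * a} : Set G) with hC
  intro haC χ
  set u : C := ⟨a, haC⟩ with hu
  have huord : ∃ k, orderOf u = 2 ^ k := ⟨2, by rw [hu, Subgroup.orderOf_mk, h.order]⟩
  by_cases hχ : χ ∈ Cfsg.principalBlock M C
  · refine Or.inl fun r hr hro => ?_
    have hsd := h.exists_sectionData
    rw [show a ^ 2 ^ (2 - 2) = a by simp] at hsd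
    obtain ⟨-, -, -, -, -, -, -, -, R, -, hRodd, -, hRmem⟩ := hsd
    let ι : Subgroup.centralizer ({u} : Set C) →* G :=
      C.subtype.comp (Subgroup.centralizer ({u} : Set C)).subtype
    have hι : Function.Injective ι :=
      Subtype.val_injective.comp Subtype.val_injective
    have hmem : ∀ x, x ∈ R.comap ι ↔ Odd (orderOf x) := by
      intro x
      rw [Subgroup.mem_comap, ← orderOf_injective ι hι x]
      refine ⟨fun hx => hRodd.of_dvd_nat ?_, fun hx => hRmem _ ?_ hx⟩
      · rw [← Subgroup.orderOf_mk (ι x) hx]; exact orderOf_dvd_natCard _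
      · have := Subgroup.mem_centralizer_singleton_iff.1 x.2
        exact Subgroup.mem_centralizer_singleton_iff.2 (congrArg Subtype.val this)
    haveI : (R.comap ι).Normal := ⟨fun n hn g => by
      rw [hmem] at hn ⊢
      rwa [orderOf_conj]⟩
    have hK : ¬ 2 ∣ Nat.card (R.comap ι) := fun hd =>
      hRodd.not_two_dvd_nat (hd.trans (Subgroup.card_comap_dvd_of_injective _ _ hι))
    refine section_constant hM huord (R.comap ι) hK hχ
      (v := ⟨r, Subgroup.mem_centralizer_singleton_iff.2 hr.eq.symm⟩) ?_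
    rw [hmem, Subgroup.orderOf_mk]
    exact hro
  · refine Or.inr ((Finset.sum_bij (fun r hr => (⟨r, Subgroup.mem_centralizer_singleton_iff.2
        (Finset.mem_filter.1 hr).2.1.eq.symm⟩ : Subgroup.centralizer ({u} : Set C)))
      ?_ ?_ ?_ ?_).trans (section_sum_eq_zero hM huord hχ))
    · intro r hr
      refine Finset.mem_filter.2 ⟨Finset.mem_univ _, ?_⟩
      rw [Subgroup.orderOf_mk]
      exact (Finset.mem_filter.1 hr).2.2.not_two_dvd_nat
    · intro r _ r' _ e
      exact congrArg Subtype.val e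
    · intro y hy
      refine ⟨y, Finset.mem_filter.2 ⟨Finset.mem_univ _,
        (Subgroup.mem_centralizer_singleton_iff.1 y.2).symm, ?_⟩, rfl⟩
      rw [Subgroup.orderOf_coe]
      exact Nat.odd_iff.2 (Nat.two_dvd_ne_zero.1 (Finset.mem_filter.1 hy).2)
    · intro r _
      rfl

theorem mem_center_of_unique_involution (ih : ZStarBelow.{u} (Nat.card G))
    (hO : Cfsg.oddCore G = ⊥) {z : G} (hz : Cfsg.IsIsolatedInvolution z) (P : Sylow 2 G)
    (hzP : z ∈ P) (huniq : ∀ x ∈ P, orderOf x = 2 → x = z) : z ∈ Subgroup.center G := by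
  classical
  have := Fintype.ofFinite G
  by_cases hcyc : IsCyclic (P : Subgroup G)
  · have hmin : (Nat.card G).minFac = 2 :=
      (Nat.minFac_eq_two_iff _).2 (hz.1 ▸ orderOf_dvd_natCard z)
    exact mem_center_of_normalComplement hO hz
      ⟨P, _, inferInstance, IsCyclic.isComplement' hmin hcyc⟩
  by_contra hzc
  obtain ⟨a, k, h⟩ := exists_qData P
    (fun x hx y hy h1 h2 => (huniq x hx h1).trans (huniq y hy h2).symm) hcyc
  have hze : a ^ 2 ^ (k - 1) = z := (h.eq_z hzP hz.1).symm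
  have hns : ∀ N : Subgroup G, N.Normal → z ∈ N → N = ⊤ := fun N _ hzN => by
    by_contra hne
    exact hzc (mem_center_of_proper_normal ih hO hz hzN hne)
  rcases Nat.lt_or_ge k 3 with hk | hk
  · have := h.two_le
    obtain rfl : k = 2 := by omega
    have hza : a * a = z := by rw [← hze]; norm_num [pow_two]
    have haC : a ∈ Subgroup.centralizer ({a * a} : Set G) :=
      Subgroup.mem_centralizer_singleton_iff.2 (mul_assoc a a a).symm
    exact q8_false h (fun N hN hm => hns N hN (hza ▸ hm))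
      (fun hc => hzc (mem_center_of_normalComplement hO hz hc)) haC (q8_facts h haC)
  · obtain ⟨M, hM, hzM, hne, -⟩ := h.exists_normal hk
    exact hne (hns M hM (hze ▸ hzM))

/-- The value `χ (z^g s)` of a principal block character does not depend on `g`. -/
theorem principal_const_on_products [Fintype G] (ih : ZStarBelow.{u} (Nat.card G)) {z : G}
    (hz : Cfsg.IsIsolatedInvolution z)
    (hcen : ∀ c ∈ Subgroup.center G, orderOf c ≠ 2) {M : Ideal Cfsg.AlgInt}
    (hM : Cfsg.IsPModular 2 M) {χ : Cfsg.IrrCharacter G} (hχ : χ ∈ Cfsg.principalBlock M G)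
    {s : G} (hs : orderOf s = 2) (hzs : Commute z s) (hne : s ≠ z) (g : G) :
    (χ : G → ℂ) (g * z * g⁻¹ * s) = (χ : G → ℂ) (z * s) := by
  classical
  set x := g * z * g⁻¹ with hxdef
  have hxc : IsConj z x := isConj_iff.2 ⟨g, rfl⟩
  have hxz : Cfsg.IsIsolatedInvolution x := isolated_conj hz g
  have heven : Even (orderOf (x * s)) := by
    rw [← Nat.not_odd_iff_even]
    intro ho
    exact hne (isolated_eq_of_commute hz (IsConj.refl z)
      (hxc.trans (isConj_of_odd hxz.1 hs ho)) hzs).symm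
  have h4 := isolated_not_four_dvd hxz hs
  have hc1 := commute_central hxz.1 hs heven
  have hc2 := commute_central' hxz.1 hs heven
  have hvord := orderOf_central heven (orderOf_pos _)
  obtain ⟨m, hm⟩ := heven
  obtain ⟨j, hj⟩ : ∃ j, m = 2 * j + 1 := ⟨m / 2, by omega⟩
  rw [show orderOf (x * s) / 2 = m by omega] at hc1 hc2 hvord
  set v := (x * s) ^ m with hvdef
  set H := Subgroup.centralizer ({v} : Set G) with hH
  have hxH : x ∈ H := Subgroup.mem_centralizer_singleton_iff.2 hc1.eq.symm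
  have hsH : s ∈ H := Subgroup.mem_centralizer_singleton_iff.2 hc2.eq.symm
  have hHne : H ≠ ⊤ := fun e => hcen v (Subgroup.mem_center_iff.2 fun y => by
    have : y ∈ H := e ▸ Subgroup.mem_top y
    exact Subgroup.mem_centralizer_singleton_iff.1 this) hvord
  have hrec := ih H (Core.card_lt_of_ne_top hHne) ⟨x, hxH⟩ (isolated_restrict hxz H hxH) ⟨s, hsH⟩
  set w : H := (⟨x, hxH⟩ * ⟨s, hsH⟩) ^ (2 * (j + 1)) with hwdef
  have hw : w ∈ Cfsg.oddCore H := by
    rw [hwdef, pow_mul]
    refine pow_mem ?_ _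
    rw [pow_two, ← mul_assoc]
    have e1 : (⟨x, hxH⟩ : H)⁻¹ = ⟨x, hxH⟩ := Subtype.ext (inv_eq_self hxz.1)
    have e2 : (⟨s, hsH⟩ : H)⁻¹ = ⟨s, hsH⟩ := Subtype.ext (inv_eq_self hs)
    rwa [e1, e2] at hrec
  have hxs : x * s = v * (w : G) := by
    rw [hwdef, hvdef, SubmonoidClass.coe_pow, Subgroup.coe_mul, ← pow_add,
      show m + 2 * (j + 1) = orderOf (x * s) + 1 by omega, pow_succ, pow_orderOf_eq_one, one_mul]
  have h1 : (χ : G → ℂ) (x * s) = (χ : G → ℂ) v := by
    rw [hxs]
    exact section_constant hM (u := v) ⟨1, by rw [hvord, pow_one]⟩ (Cfsg.oddCore H)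
      Core.not_dvd_card_pPrimeCore hχ hw
  rw [h1]
  -- `v` is conjugate to `z * s`
  set d := (x * s) ^ (-(j : ℤ)) with hd
  have hds : d * s * d⁻¹ = x * v := by
    calc d * s * d⁻¹ = d * (x * (x * s) ^ (1 : ℤ)) * d⁻¹ := by rw [self_mul_zpow_one hxz.1]
      _ = (d * x) * (x * s) ^ (1 : ℤ) * d⁻¹ := by group
      _ = x * v := by
          rw [hd, zpow_mul_self hxz.1 hs, neg_neg, mul_assoc x, mul_assoc x, ← zpow_neg, neg_neg,
            ← zpow_add, ← zpow_add, hvdef, ← zpow_natCast (x * s) m, hj]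
          congr 2
          push_cast
          ring
  have hv : v = x * (d * s * d⁻¹) := by
    rw [hds, ← mul_assoc, mul_self_eq_one hxz.1, one_mul]
  set y := d⁻¹ * x * d with hy
  have hys : d⁻¹ * v * d = y * s := by rw [hv, hy]; group
  have hcomm : Commute y s := by
    have h3 : Commute x (d * s * d⁻¹) := by
      rw [hds]; exact (Commute.refl x).mul_right hc1.symm
    have := (Commute.conj_iff d⁻¹).2 h3
    simpa [hy, mul_assoc] using this
  have hyc : IsConj z y := hxc.trans (isConj_iff.2 ⟨d⁻¹, by rw [hy, inv_inv]⟩)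
  obtain ⟨e, he, hee⟩ := exists_conj_of_odd hz.1 (orderOf_eq_two_of_isConj hyc hz.1)
    (isolated_odd_orderOf_mul hz (IsConj.refl z) hyc)
  have hes : e * s = s * e := by
    have hle : Subgroup.closure ({z, y} : Set G) ≤ Subgroup.centralizer ({s} : Set G) := by
      rw [Subgroup.closure_le]
      rintro q (rfl | rfl)
      · exact Subgroup.mem_centralizer_singleton_iff.2 hzs.eq
      · exact Subgroup.mem_centralizer_singleton_iff.2 hcomm.eq
    exact Subgroup.mem_centralizer_singleton_iff.1 (hle he)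
  refine Char.classFun_isConj (Char.isClassFunction_of_isIrr χ.2) ?_
  refine (isConj_iff.2 ⟨e⁻¹ * d⁻¹, ?_⟩)
  calc e⁻¹ * d⁻¹ * v * (e⁻¹ * d⁻¹)⁻¹ = e⁻¹ * (d⁻¹ * v * d) * e := by group
    _ = e⁻¹ * (e * z * e⁻¹ * s) * e := by rw [hys, hee]
    _ = z * e⁻¹ * (s * e) := by group
    _ = z * s := by rw [← hes]; group

theorem zstar_step (ih : ZStarBelow.{u} (Nat.card G)) (hO : Cfsg.oddCore G = ⊥) {z : G}
    (hz : Cfsg.IsIsolatedInvolution z) : z ∈ Subgroup.center G := by
  classical
  have := Fintype.ofFinite G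
  by_contra hzc
  have hns : ∀ N : Subgroup G, N.Normal → z ∈ N → N = ⊤ := fun N _ hzN => by
    by_contra hne
    exact hzc (mem_center_of_proper_normal ih hO hz hzN hne)
  have hcen : ∀ c ∈ Subgroup.center G, orderOf c ≠ 2 := fun c hc hc2 => by
    rcases eq_or_mem_center_of_central_involution ih hO hz hc hc2 with rfl | h
    · exact hzc hc
    · exact hzc h
  obtain ⟨P, hP⟩ := (IsPGroup.of_card (n := 1)
    (show Nat.card (Subgroup.zpowers z) = 2 ^ 1 by
      rw [Nat.card_zpowers, hz.1, pow_one])).exists_le_sylow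
  have hzP : z ∈ P := hP (Subgroup.mem_zpowers z)
  obtain ⟨s, hsP, hs, hne⟩ : ∃ s ∈ P, orderOf s = 2 ∧ s ≠ z := by
    by_contra! hh
    exact hzc (mem_center_of_unique_involution ih hO hz P hzP hh)
  have hzs : Commute z s := by
    have h := isolated_eq_of_mem_sylow P hz hzP (g := s) (mul_mem (mul_mem hsP hzP) (inv_mem hsP))
    exact (mul_inv_eq_iff_eq_mul.1 h).symm
  have hzs1 : z * s ≠ 1 := fun e => hne ((eq_inv_of_mul_eq_one_right e).trans (inv_eq_self hz.1))
  have hzs2 : orderOf (z * s) = 2 := orderOf_eq_prime (by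
    rw [hzs.mul_pow, pow_two, pow_two, mul_self_eq_one hz.1, mul_self_eq_one hs, one_mul]) hzs1
  have hzsne : z * s ≠ z := fun e => ne_one hs (mul_eq_left.1 e)
  obtain ⟨M, hM⟩ := Blocks.exists_isPModular 2 Nat.prime_two
  have hB := Blocks.isPBlock_principalBlock (G := G) M
  have hkey : ∀ χ : Cfsg.IrrCharacter G, χ ∈ Cfsg.principalBlock M G →
      (χ : G → ℂ) ≠ (fun _ => 1) → (χ : G → ℂ) s + (χ : G → ℂ) (z * s) = 0 := by
    intro χ hχ hnt
    have hc := Char.IsIrr.isCharacter χ.2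
    have hd := Char.IsIrr.one_ne_zero χ.2
    have hG : (Nat.card G : ℂ) ≠ 0 := Char.card_ne_zero
    have e1 := CharArith.classMult χ.2 z s
    simp only [principal_const_on_products ih hz hcen hM hχ hs hzs hne, Finset.sum_const,
      Finset.card_univ, nsmul_eq_mul, ← Nat.card_eq_fintype_card] at e1
    have e2 := CharArith.classMult χ.2 z (z * s)
    simp only [principal_const_on_products ih hz hcen hM hχ hzs2
      ((Commute.refl z).mul_right hzs) hzsne, Finset.sum_const,
      Finset.card_univ, nsmul_eq_mul, ← Nat.card_eq_fintype_card,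
      show z * (z * s) = s by rw [← mul_assoc, mul_self_eq_one hz.1, one_mul]] at e2
    have f1 : (χ : G → ℂ) 1 * (χ : G → ℂ) (z * s) = (χ : G → ℂ) z * (χ : G → ℂ) s :=
      mul_left_cancel₀ hG (by linear_combination e1)
    have f2 : (χ : G → ℂ) 1 * (χ : G → ℂ) s = (χ : G → ℂ) z * (χ : G → ℂ) (z * s) :=
      mul_left_cancel₀ hG (by linear_combination e2)
    have hkerne : (χ : G → ℂ) z - (χ : G → ℂ) 1 ≠ 0 := sub_ne_zero.2 fun e => hnt (by
      have htop := hns (Char.kerSubgroup hc) inferInstance e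
      exact irr_eq_one_of_const χ fun g =>
        (htop ▸ Subgroup.mem_top g : g ∈ Char.kerSubgroup hc))
    have f3 : ((χ : G → ℂ) z - (χ : G → ℂ) 1) * ((χ : G → ℂ) s + (χ : G → ℂ) (z * s)) = 0 := by
      linear_combination -f1 - f2
    exact (mul_eq_zero.1 f3).resolve_left hkerne
  have hs0 := BlockChar.sum_block_degree_mul_eq_zero hM hB (y := s)
    (by simp [Cfsg.IsPRegular, hs])
  have hzs0 := BlockChar.sum_block_degree_mul_eq_zero hM hB (y := z * s)
    (by simp [Cfsg.IsPRegular, hzs2])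
  have hsum := congrArg₂ (· + ·) hs0 hzs0
  rw [add_zero, ← Finset.sum_add_distrib, Finset.sum_eq_single (Blocks.triv G)] at hsum
  · rw [if_pos (Blocks.triv_mem_principalBlock hM), if_pos (Blocks.triv_mem_principalBlock hM)]
      at hsum
    simp [Blocks.triv] at hsum
  · intro χ _ hne'
    split_ifs with hχ
    · rw [← mul_add, hkey χ hχ fun e => hne' (Subtype.ext e), mul_zero]
    · rw [add_zero]
  · exact fun h => absurd (Finset.mem_univ _) h

theorem zstar_below : ∀ n : ℕ, ZStarBelow.{u} n := by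
  intro n
  induction n with
  | zero => intro H _ _ h; omega
  | succ n ih =>
    intro H _ _ hlt z hz g
    have ih' : ZStarBelow.{u} (Nat.card H) := fun K _ _ hK => ih K (by omega)
    by_cases hO : Cfsg.oddCore H = ⊥
    · rw [← Subgroup.mem_center_iff.1 (zstar_step ih' hO hz) g, mul_inv_cancel_right,
        mul_inv_cancel]
      exact one_mem _
    · set f := QuotientGroup.mk' (Cfsg.oddCore H) with hf
      have hne : f z ≠ 1 := fun e => by
        have hzO := (QuotientGroup.eq_one_iff z).1 e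
        refine Core.not_dvd_card_pPrimeCore (p := 2) (G := H) ?_
        have h2 := orderOf_dvd_natCard (⟨z, hzO⟩ : Cfsg.oddCore H)
        rwa [Subgroup.orderOf_mk, hz.1] at h2
      have h := ih' _ (Core.card_quotient_lt hO) (f z)
        (isolated_map hz (QuotientGroup.mk'_surjective _) hne) (f g)
      rw [show Cfsg.oddCore (H ⧸ Cfsg.oddCore H) = ⊥ from Core.pPrimeCore_quotient_eq_bot,
        Subgroup.mem_bot, ← map_inv, ← map_inv, ← map_mul, ← map_mul, ← map_mul] at h
      exact (QuotientGroup.eq_one_iff _).1 h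

/-- Glauberman's Z*-theorem. -/
theorem zstar {z : G} (hz : Cfsg.IsIsolatedInvolution z) (g : G) :
    z * g * z⁻¹ * g⁻¹ ∈ Cfsg.oddCore G :=
  zstar_below (Nat.card G + 1) G (Nat.lt_succ_self _) z hz g

theorem zstar_mem_center {z : G} (hz : Cfsg.IsIsolatedInvolution z) :
    (QuotientGroup.mk z : G ⧸ Cfsg.oddCore G) ∈ Subgroup.center (G ⧸ Cfsg.oddCore G) := by
  refine Subgroup.mem_center_iff.2 fun q => ?_
  obtain ⟨g, rfl⟩ := QuotientGroup.mk_surjective q
  have h := (QuotientGroup.eq_one_iff _).2 (zstar hz g)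
  rw [QuotientGroup.mk_mul, QuotientGroup.mk_mul, QuotientGroup.mk_mul, QuotientGroup.mk_inv,
    QuotientGroup.mk_inv, mul_inv_eq_one, mul_inv_eq_iff_eq_mul] at h
  exact h.symm

end Cfsg.Agent.Invol
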