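import Cfsg.Agent.Invol.Count
import Cfsg.Prelude.Def_TwoFusion
import Mathlib.GroupTheory.Sylow

/-!
Isolated involutions.
-/

set_option autoImplicit false

namespace Cfsg.Agent.Invol

open Pointwise

variable {G : Type*} [Group G]

theorem isolated_conj {z : G} (hz : Cfsg.IsIsolatedInvolution z) (g : G) :
    Cfsg.IsIsolatedInvolution (g * z * g⁻¹) := by
  refine ⟨(orderOf_conj g z).trans hz.1, fun h hc => ?_⟩
  set u := g⁻¹ * (h * g) with hu
  have he : h * (g * z * g⁻¹) * h⁻¹ = g * (u * z * u⁻¹) * g⁻¹ := by rw [hu]; group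
  rw [he] at hc ⊢
  rw [hz.2 u ((Commute.conj_iff g).1 hc)]

theorem isolated_eq_of_commute {z a b : G} (hz : Cfsg.IsIsolatedInvolution z) (ha : IsConj z a)
    (hb : IsConj z b) (h : Commute a b) : a = b := by
  obtain ⟨c, rfl⟩ := isConj_iff.1 ha
  obtain ⟨d, rfl⟩ := isConj_iff.1 hb
  have he : d * z * d⁻¹ = d * c⁻¹ * (c * z * c⁻¹) * (d * c⁻¹)⁻¹ := by group
  rw [he] at h ⊢
  exact ((isolated_conj hz c).2 (d * c⁻¹) h).symm

/-- An isolated involution times an involution never has order divisible by four. -/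
theorem isolated_not_four_dvd [Finite G] {z s : G} (hz : Cfsg.IsIsolatedInvolution z)
    (hs : orderOf s = 2) : ¬ 4 ∣ orderOf (z * s) := by
  rintro ⟨i, hi⟩
  have hz2 := hz.1
  obtain ⟨d, -, hd⟩ := exists_conj_eq (y := s) hz2 hs (i : ℤ)
  have hm : orderOf (z * s) / 2 = 2 * i := by omega
  have hpos := orderOf_pos (z * s)
  have hc := commute_central hz2 hs ⟨2 * i, by omega⟩
  rw [hm] at hc
  have hw : (z * s) ^ (2 * (i : ℤ)) = (z * s) ^ (2 * i) := by rw [← zpow_natCast]; norm_num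
  rw [hw] at hd
  have hcomm : Commute z (d * z * d⁻¹) := by
    rw [hd]
    exact (Commute.refl z).mul_right hc.symm
  have heq := hz.2 d hcomm
  rw [hd, mul_eq_left] at heq
  have := Nat.le_of_dvd (by omega) (orderOf_dvd_of_pow_eq_one heq)
  omega

/-- The product of two conjugates of an isolated involution has odd order. -/
theorem isolated_odd_orderOf_mul [Finite G] {z a b : G} (hz : Cfsg.IsIsolatedInvolution z)
    (ha : IsConj z a) (hb : IsConj z b) : Odd (orderOf (a * b)) := by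
  have hza : Cfsg.IsIsolatedInvolution a := by
    obtain ⟨c, rfl⟩ := isConj_iff.1 ha; exact isolated_conj hz c
  have hab : IsConj a b := ha.symm.trans hb
  have hb2 : orderOf b = 2 := orderOf_eq_two_of_isConj hb hz.1
  by_contra hne
  rw [Nat.not_odd_iff_even] at hne
  have h4 := isolated_not_four_dvd hza hb2
  have hpos := orderOf_pos (a * b)
  obtain ⟨m, hm⟩ := hne
  obtain ⟨k, hk⟩ : ∃ k, m = 2 * k + 1 := ⟨m / 2, by omega⟩
  have hm2 : orderOf (a * b) / 2 = m := by omega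
  have hc := commute_central hza.1 hb2 ⟨m, hm⟩
  rw [hm2] at hc
  have he : (a * b) ^ (-(k : ℤ)) * b * ((a * b) ^ (-(k : ℤ)))⁻¹ = a * (a * b) ^ m := by
    calc (a * b) ^ (-(k : ℤ)) * b * ((a * b) ^ (-(k : ℤ)))⁻¹
        = (a * b) ^ (-(k : ℤ)) * (a * (a * b) ^ (1 : ℤ)) * ((a * b) ^ (-(k : ℤ)))⁻¹ := by
          rw [self_mul_zpow_one hza.1]
      _ = ((a * b) ^ (-(k : ℤ)) * a) * (a * b) ^ (1 : ℤ) * ((a * b) ^ (-(k : ℤ)))⁻¹ := by group
      _ = a * (a * b) ^ m := by
          rw [zpow_mul_self hza.1 hb2, neg_neg, mul_assoc a, mul_assoc a, ← zpow_neg, neg_neg,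
            ← zpow_add, ← zpow_add, ← zpow_natCast (a * b) m, hk]
          congr 2
          push_cast
          ring
  have hconj : IsConj a (a * (a * b) ^ m) := hab.trans (isConj_iff.2 ⟨_, he⟩)
  obtain ⟨d, hd⟩ := isConj_iff.1 hconj
  have hcomm : Commute a (d * a * d⁻¹) := by
    rw [hd]; exact (Commute.refl a).mul_right hc.symm
  have heq := hza.2 d hcomm
  rw [hd, mul_eq_left] at heq
  have := Nat.le_of_dvd (by omega) (orderOf_dvd_of_pow_eq_one heq)
  omega

/-- An involution with no other conjugate in some Sylow `2`-subgroup containing it is isolated. -/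
theorem isolated_of_sylow [Finite G] (P : Sylow 2 G) {z : G} (hz : orderOf z = 2)
    (hiso : ∀ g : G, g * z * g⁻¹ ∈ P → g * z * g⁻¹ = z) : Cfsg.IsIsolatedInvolution z := by
  refine ⟨hz, fun g hc => ?_⟩
  set v := g * z * g⁻¹ with hv
  have hv2 : orderOf v = 2 := (orderOf_conj g z).trans hz
  have hK : IsPGroup 2 (Subgroup.closure ({z, v} : Set G)) := by
    intro w
    refine ⟨1, ?_⟩
    have hsq : z * v * (z * v) = 1 := by
      rw [mul_assoc z, ← mul_assoc v, ← hc.eq, mul_assoc z, mul_self_eq_one hv2, mul_one,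
        mul_self_eq_one hz]
    apply Subtype.ext
    rw [pow_one, SubmonoidClass.coe_pow, OneMemClass.coe_one, pow_two]
    obtain ⟨k, hk | hk⟩ := closure_mem hz hv2 w.2
    · rw [hk, ← ((Commute.refl (z * v)).mul_zpow k), hsq, one_zpow]
    · rw [hk]; exact sq_self_mul_zpow hz hv2 k
  obtain ⟨Q, hQ⟩ := hK.exists_le_sylow
  obtain ⟨h, rfl⟩ := MulAction.exists_smul_eq G P Q
  have hmem : ∀ u : G, IsConj z u → u ∈ ((h • P : Sylow 2 G) : Subgroup G) → h⁻¹ * u * h = z := by
    intro u hu hm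
    rw [Sylow.coe_subgroup_smul, Subgroup.mem_pointwise_smul_iff_inv_smul_mem] at hm
    have hm' : h⁻¹ * u * h ∈ (P : Subgroup G) := by simpa [MulAut.smul_def] using hm
    obtain ⟨c, rfl⟩ := isConj_iff.1 hu
    have he : h⁻¹ * (c * z * c⁻¹) * h = h⁻¹ * c * z * (h⁻¹ * c)⁻¹ := by group
    rw [he] at hm' ⊢
    exact hiso _ hm'
  have h1 := hmem z (IsConj.refl z) (hQ self_mem_closure)
  have h2 := hmem v (isConj_iff.2 ⟨g, rfl⟩) (hQ other_mem_closure)
  exact mul_left_cancel (mul_right_cancel (h2.trans h1.symm))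

/-- In a Sylow `2`-subgroup containing it, an isolated involution has no other conjugate. -/
theorem isolated_eq_of_mem_sylow [Finite G] (P : Sylow 2 G) {z g : G}
    (hz : Cfsg.IsIsolatedInvolution z) (hzP : z ∈ P) (hg : g * z * g⁻¹ ∈ P) :
    g * z * g⁻¹ = z := by
  have hodd := isolated_odd_orderOf_mul hz (IsConj.refl z) (isConj_iff.2 ⟨g, rfl⟩)
  obtain ⟨k, hk⟩ := IsPGroup.iff_orderOf.1 P.2 ⟨z * (g * z * g⁻¹), mul_mem hzP hg⟩
  rw [Subgroup.orderOf_mk] at hk
  rw [hk] at hodd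
  have h1 : z * (g * z * g⁻¹) = 1 := by
    rcases Nat.eq_zero_or_pos k with rfl | hk0
    · exact orderOf_eq_one_iff.1 (by rw [hk, pow_zero])
    · exact absurd hodd (by rw [Nat.not_odd_iff_even, Nat.even_pow]; exact ⟨even_two, hk0.ne'⟩)
  rw [mul_eq_one_iff_eq_inv', inv_eq_self hz.1] at h1
  exact h1

end Cfsg.Agent.Invol
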