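import Mathlib.GroupTheory.Sylow

/-!
Elements of prime power order are conjugate into any Sylow subgroup.
-/

set_option autoImplicit false

namespace Cfsg.Agent.Invol

theorem exists_conj_mem_of_isPGroup {G : Type*} [Group G] [Finite G] {p : ℕ} [Fact p.Prime]
    (U : Sylow p G) {x : G} (hx : ∃ j, orderOf x = p ^ j) : ∃ d : G, d * x * d⁻¹ ∈ (U : Subgroup G) := by
  obtain ⟨j, hj⟩ := hx
  obtain ⟨Q, hQ⟩ := (IsPGroup.of_card (n := j)
    (show Nat.card (Subgroup.zpowers x) = p ^ j by rw [Nat.card_zpowers, hj])).exists_le_sylow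
  obtain ⟨d, hd⟩ := MulAction.exists_smul_eq G Q U
  refine ⟨d, ?_⟩
  rw [← hd, Sylow.coe_subgroup_smul]
  exact ⟨x, hQ (Subgroup.mem_zpowers x), rfl⟩

end Cfsg.Agent.Invol
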