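import Cfsg.Agent.Invol.Count
import Mathlib.GroupTheory.Sylow
import Mathlib.GroupTheory.Transfer
import Mathlib.GroupTheory.SpecificGroups.KleinFour

/-!
Groups whose Sylow `2`-subgroup is a Klein four-group.
-/

set_option autoImplicit false

namespace Cfsg.Agent.Invol

variable {G : Type*} [Group G] [Finite G]

theorem exists_sylow_conj_mem (P : Sylow 2 G) {t : G} (ht : orderOf t = 2) :
    ∃ g : G, g * t * g⁻¹ ∈ (P : Subgroup G) := by
  obtain ⟨Q, hQ⟩ := (IsPGroup.of_card (n := 1) (G := Subgroup.zpowers t)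
    (by rw [Nat.card_zpowers, ht, pow_one])).exists_le_sylow
  obtain ⟨g, rfl⟩ := MulAction.exists_smul_eq G Q P
  refine ⟨g, ?_⟩
  rw [Sylow.coe_subgroup_smul]
  exact ⟨t, hQ (Subgroup.mem_zpowers t), by simp [MulAut.smul_def]⟩

/-- A member of an abelian Sylow `2`-subgroup `P` normalising `P` has odd order modulo `C(P)`. -/
theorem odd_pow_mem_centralizer (P : Sylow 2 G) (hP : IsMulCommutative (P : Subgroup G)) {n : G}
    (hn : n ∈ Subgroup.normalizer ((P : Subgroup G) : Set G)) :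
    ∃ m : ℕ, Odd m ∧ n ^ m ∈ Subgroup.centralizer ((P : Subgroup G) : Set G) := by
  obtain ⟨k, m, hm, hd⟩ := Nat.exists_eq_pow_mul_and_not_dvd (orderOf_pos n).ne' 2 (by decide)
  refine ⟨m, Nat.odd_iff.2 (by omega), ?_⟩
  set w := n ^ m with hw
  have hwN : w ∈ Subgroup.normalizer ((P : Subgroup G) : Set G) := pow_mem hn m
  have hwp : IsPGroup 2 (Subgroup.zpowers w) := by
    refine IsPGroup.of_card (n := k) ?_
    rw [Nat.card_zpowers, hw, orderOf_pow_of_dvd (by omega) ⟨2 ^ k, by rw [hd]; ring⟩, hd,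
      Nat.mul_div_cancel _ (by omega)]
  have hsup := hwp.to_sup_of_normal_right' P.2 (Subgroup.zpowers_le.2 hwN)
  have hle := P.3 hsup le_sup_right
  have hwP : w ∈ (P : Subgroup G) := hle ▸ Subgroup.mem_sup_left (Subgroup.mem_zpowers w)
  exact Subgroup.mem_centralizer_iff.2 fun a ha =>
    congrArg Subtype.val (hP.is_comm.comm ⟨a, ha⟩ ⟨w, hwP⟩)

theorem klein_eq_mul {P : Subgroup G} (hP : IsKleinFour P) {a b c : G} (ha : a ∈ P) (hb : b ∈ P)
    (hc : c ∈ P) (ha1 : a ≠ 1) (hb1 : b ≠ 1) (hab : a ≠ b) (hc1 : c ≠ 1) (hca : c ≠ a) (hcb : c ≠ b) :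
    c = a * b := by
  have := hP
  have h := IsKleinFour.eq_mul_of_ne_all (x := (⟨a, ha⟩ : P)) (y := ⟨b, hb⟩) (z := ⟨c, hc⟩)
    (fun h => ha1 (congrArg Subtype.val h)) (fun h => hb1 (congrArg Subtype.val h))
    (fun h => hab (congrArg Subtype.val h)) (fun h => hc1 (congrArg Subtype.val h))
    (fun h => hca (congrArg Subtype.val h)) (fun h => hcb (congrArg Subtype.val h))
  exact congrArg Subtype.val h

theorem klein_orderOf {P : Subgroup G} (hP : IsKleinFour P) {a : G} (ha : a ∈ P) (ha1 : a ≠ 1) :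
    orderOf a = 2 := by
  have := hP
  exact orderOf_eq_two_iff.2 ⟨ha1, congrArg Subtype.val (IsKleinFour.mul_self (⟨a, ha⟩ : P))⟩

/-- Two distinct conjugate involutions of a Klein four Sylow `2`-subgroup force one class. -/
theorem klein_isConj_all (P : Sylow 2 G) (hP : IsKleinFour (P : Subgroup G)) {a b : G}
    (ha : a ∈ (P : Subgroup G)) (hb : b ∈ (P : Subgroup G)) (ha2 : orderOf a = 2) (hab : a ≠ b)
    (hc : IsConj a b) {c : G} (hcP : c ∈ (P : Subgroup G)) (hc2 : orderOf c = 2) : IsConj a c := by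
  have hcomm : IsMulCommutative (P : Subgroup G) := by
    have := hP; exact IsKleinFour.isMulCommutative
  obtain ⟨g, rfl⟩ := isConj_iff.1 hc
  have hb2 : orderOf (g * a * g⁻¹) = 2 := (orderOf_conj g a).trans ha2
  obtain ⟨n, hn, hna⟩ := Sylow.conj_eq_normalizer_conj_of_mem P a g⁻¹ ha (by rw [inv_inv]; exact hb)
  rw [inv_inv] at hna
  have hu : n⁻¹ ∈ Subgroup.normalizer ((P : Subgroup G) : Set G) := inv_mem hn
  set u := n⁻¹ with hudef
  have hua : u * a * u⁻¹ = g * a * g⁻¹ := by rw [hudef, inv_inv, hna]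
  set b := g * a * g⁻¹ with hbdef
  by_cases hca : c = a
  · subst hca; exact IsConj.refl _
  by_cases hcb : c = b
  · subst hcb; exact hc
  set d := u * b * u⁻¹ with hd
  have hdP : d ∈ (P : Subgroup G) := (Subgroup.mem_normalizer_iff.1 hu b).1 hb
  have hd2 : orderOf d = 2 := (orderOf_conj u b).trans hb2
  have hdb : d ≠ b := fun h => hab (conj_injective ((hua.trans h.symm).trans hd))
  by_cases hda : d = a
  · exfalso
    obtain ⟨m, hm, hmc⟩ := odd_pow_mem_centralizer P hcomm hu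
    have hsq : Commute (u ^ 2) a := by
      refine mul_inv_eq_iff_eq_mul.1 ?_
      calc u ^ 2 * a * (u ^ 2)⁻¹ = u * (u * a * u⁻¹) * u⁻¹ := by rw [pow_two]; group
        _ = a := by rw [hua]; exact hda
    obtain ⟨i, hi⟩ := hm
    have h1 : Commute (u ^ m) a := (Subgroup.mem_centralizer_iff.1 hmc a ha).symm
    have h2 : Commute u a := by
      have h3 : u = u ^ m * ((u ^ 2) ^ i)⁻¹ := by
        rw [← pow_mul, hi, pow_succ', mul_inv_cancel_right]
      rw [h3]
      exact h1.mul_left (hsq.pow_left i).inv_left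
    apply hab
    rw [← hua, h2.eq, mul_inv_cancel_right]
  · have hdc : d = c := by
      rw [klein_eq_mul hP ha hb hdP (ne_one ha2) (ne_one hb2) hab (ne_one hd2) hda hdb,
        klein_eq_mul hP ha hb hcP (ne_one ha2) (ne_one hb2) hab (ne_one hc2) hca hcb]
    rw [← hdc]
    exact hc.trans (isConj_iff.2 ⟨u, rfl⟩)

open Classical in
theorem klein_class_count (P : Sylow 2 G) (hP : IsKleinFour (P : Subgroup G)) :
    ((∀ a b : G, a ∈ (P : Subgroup G) → b ∈ (P : Subgroup G) → IsConj a b → a = b) →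
      Nat.card {C : ConjClasses G // ∃ t : G, orderOf t = 2 ∧ ConjClasses.mk t = C} = 3) ∧
    (¬ (∀ a b : G, a ∈ (P : Subgroup G) → b ∈ (P : Subgroup G) → IsConj a b → a = b) →
      Nat.card {C : ConjClasses G // ∃ t : G, orderOf t = 2 ∧ ConjClasses.mk t = C} = 1) := by
  constructor
  · intro hinj
    have hcard : Nat.card {t : G // t ∈ (P : Subgroup G) ∧ t ≠ 1} = 3 := by
      have h4 := hP.card_four
      have h : ((P : Subgroup G) : Set G).ncard = 4 := h4
      show {t : G | t ∈ (P : Subgroup G) ∧ t ≠ 1}.ncard = 3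
      have he : {t : G | t ∈ (P : Subgroup G) ∧ t ≠ 1} = ((P : Subgroup G) : Set G) \ {1} := by
        ext t; exact Iff.rfl
      rw [he, Set.ncard_sdiff_singleton_of_mem (one_mem (P : Subgroup G)), h]
    rw [← hcard]
    symm
    refine Nat.card_eq_of_bijective
      (fun t => ⟨ConjClasses.mk t.1, t.1, klein_orderOf hP t.2.1 t.2.2, rfl⟩) ⟨?_, ?_⟩
    · intro s t he
      exact Subtype.ext (hinj _ _ s.2.1 t.2.1 (ConjClasses.mk_eq_mk_iff_isConj.1 (congrArg Subtype.val he)))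
    · rintro ⟨C, t, ht, rfl⟩
      obtain ⟨g, hg⟩ := exists_sylow_conj_mem P ht
      refine ⟨⟨g * t * g⁻¹, hg, ne_one ((orderOf_conj g t).trans ht)⟩, Subtype.ext ?_⟩
      exact ConjClasses.mk_eq_mk_iff_isConj.2 (isConj_iff.2 ⟨g, rfl⟩ : IsConj t _).symm
  · intro h
    push Not at h
    obtain ⟨a, b, ha, hb, hc, hab⟩ := h
    have ha1 : a ≠ 1 := by
      rintro rfl
      exact hab (isConj_one_right.1 hc).symm
    have ha2 := klein_orderOf hP ha ha1
    rw [Nat.card_eq_one_iff_exists]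
    refine ⟨⟨ConjClasses.mk a, a, ha2, rfl⟩, ?_⟩
    rintro ⟨C, t, ht, rfl⟩
    apply Subtype.ext
    obtain ⟨g, hg⟩ := exists_sylow_conj_mem P ht
    refine ConjClasses.mk_eq_mk_iff_isConj.2 ?_
    exact (isConj_iff.2 ⟨g, rfl⟩ : IsConj t (g * t * g⁻¹)).trans
      (klein_isConj_all P hP ha hb ha2 hab hc hg ((orderOf_conj g t).trans ht)).symm

theorem klein_complement_iff (P : Sylow 2 G) (hP : IsKleinFour (P : Subgroup G)) :
    (∃ N : Subgroup G, N.Normal ∧ Subgroup.IsComplement' N (P : Subgroup G)) ↔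
      (∀ a b : G, a ∈ (P : Subgroup G) → b ∈ (P : Subgroup G) → IsConj a b → a = b) := by
  have hcomm : IsMulCommutative (P : Subgroup G) := by
    have := hP; exact IsKleinFour.isMulCommutative
  constructor
  · rintro ⟨N, hN, hc⟩ a b ha hb hab
    obtain ⟨g, rfl⟩ := isConj_iff.1 hab
    obtain ⟨⟨⟨n, hn⟩, ⟨q, hq⟩⟩, rfl⟩ := (hc.2 : Function.Surjective _) g
    change n ∈ N at hn
    change q ∈ (P : Subgroup G) at hq
    change n * q * a * (n * q)⁻¹ ∈ (P : Subgroup G) at hb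
    show a = n * q * a * (n * q)⁻¹
    have hqa : q * a * q⁻¹ = a := by
      have h := congrArg Subtype.val (hcomm.is_comm.comm ⟨q, hq⟩ ⟨a, ha⟩)
      simp only [Subgroup.coe_mul] at h
      rw [h, mul_inv_cancel_right]
    have hb' : n * q * a * (n * q)⁻¹ = n * a * n⁻¹ := by
      rw [mul_inv_rev, show n * q * a * (q⁻¹ * n⁻¹) = n * (q * a * q⁻¹) * n⁻¹ by group, hqa]
    rw [hb'] at hb ⊢
    have hmem : n * a * n⁻¹ * a⁻¹ ∈ N ⊓ (P : Subgroup G) := by
      refine Subgroup.mem_inf.2 ⟨?_, mul_mem hb (inv_mem ha)⟩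
      rw [show n * a * n⁻¹ * a⁻¹ = n * (a * n⁻¹ * a⁻¹) by group]
      exact mul_mem hn (hN.conj_mem _ (inv_mem hn) a)
    rw [hc.disjoint.eq_bot, Subgroup.mem_bot, mul_inv_eq_one] at hmem
    exact hmem.symm
  · intro hinj
    refine ⟨_, inferInstance, MonoidHom.ker_transferSylow_isComplement' P ?_⟩
    intro u hu
    rw [Subgroup.mem_centralizer_iff]
    intro a ha
    have h := hinj a (u * a * u⁻¹) ha ((Subgroup.mem_normalizer_iff.1 hu a).1 ha)
      (isConj_iff.2 ⟨u, rfl⟩)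
    exact (eq_mul_inv_iff_mul_eq.1 h)

end Cfsg.Agent.Invol
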