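import Cfsg.Agent.Invol.Pair
import Mathlib.GroupTheory.GroupAction.ConjAct
import Mathlib.GroupTheory.GroupAction.Quotient
import Mathlib.GroupTheory.Subgroup.Centralizer

/-!
Counting lemmas around involutions.
-/

set_option autoImplicit false

namespace Cfsg.Agent.Invol

variable {G : Type*} [Group G]

theorem card_isConj_mul_card_centralizer [Finite G] (x : G) :
    Nat.card {y : G // IsConj x y} * Nat.card (Subgroup.centralizer ({x} : Set G)) = Nat.card G := by
  classical
  have := Fintype.ofFinite G
  have horb : ∀ y : G, y ∈ MulAction.orbit (ConjAct G) x ↔ IsConj x y := fun y => by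
    rw [ConjAct.mem_orbit_conjAct, isConj_comm]
  have h1 : Nat.card (MulAction.orbit (ConjAct G) x) = Nat.card {y : G // IsConj x y} :=
    Nat.card_congr (Equiv.subtypeEquivRight horb)
  have h2 : Nat.card (MulAction.stabilizer (ConjAct G) x)
      = Nat.card (Subgroup.centralizer ({x} : Set G)) := by
    refine Nat.card_congr (Equiv.subtypeEquiv ConjAct.ofConjAct.toEquiv fun g => ?_)
    rw [MulAction.mem_stabilizer_iff, ConjAct.smul_def, Subgroup.mem_centralizer_singleton_iff,
      mul_inv_eq_iff_eq_mul]
    rfl
  have h := MulAction.card_orbit_mul_card_stabilizer_eq_card_group (ConjAct G) x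
  rw [← h1, ← h2, Nat.card_eq_fintype_card, Nat.card_eq_fintype_card, h, Nat.card_eq_fintype_card]
  exact Fintype.card_congr ConjAct.ofConjAct.toEquiv

/-- Two involutions that are not conjugate centralise a common involution lying in the cyclic
group generated by their product. -/
theorem exists_central_of_not_isConj [Finite G] {x y : G} (hx : orderOf x = 2) (hy : orderOf y = 2)
    (h : ¬ IsConj x y) :
    Even (orderOf (x * y)) ∧ ∃ z : G, orderOf z = 2 ∧ Commute z x ∧ Commute z y ∧
      z ∈ Subgroup.zpowers (x * y) := by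
  have heven : Even (orderOf (x * y)) := by
    by_contra hc
    exact h (isConj_of_odd hx hy (Nat.not_even_iff_odd.1 hc))
  exact ⟨heven, _, orderOf_central heven (orderOf_pos _), commute_central hx hy heven,
    commute_central' hx hy heven, Subgroup.npow_mem_zpowers _ _⟩

/-- In a finite `2`-group there is at most one involution inside a cyclic subgroup. -/
theorem eq_of_mem_zpowers_of_orderOf_two [Finite G] {a u v : G} (hu : orderOf u = 2)
    (hv : orderOf v = 2) (hua : u ∈ Subgroup.zpowers a) (hva : v ∈ Subgroup.zpowers a) : u = v :=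
  (eq_half_pow_of_mem_zpowers hu hua).2.trans (eq_half_pow_of_mem_zpowers hv hva).2.symm

theorem eq_of_isCyclic_of_orderOf_two [Finite G] {S : Subgroup G} (hS : IsCyclic S) {u v : G}
    (hu : orderOf u = 2) (hv : orderOf v = 2) (huS : u ∈ S) (hvS : v ∈ S) : u = v := by
  obtain ⟨a, ha⟩ := hS.exists_generator
  have h : ∀ w ∈ S, w ∈ Subgroup.zpowers (a : G) := fun w hw => by
    obtain ⟨k, hk⟩ := Subgroup.mem_zpowers_iff.1 (ha ⟨w, hw⟩)
    exact ⟨k, by simpa using congrArg Subtype.val hk⟩
  exact eq_of_mem_zpowers_of_orderOf_two hu hv (h u huS) (h v hvS)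

end Cfsg.Agent.Invol
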