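import Cfsg.Prelude.Def_TwoFusion
import Cfsg.Agent.HSub.Basic
import Cfsg.Agent.Fusion.Residual
import Cfsg.Agent.TwoTransfer.Basic
import Cfsg.Agent.Invol.SylowConj
import Mathlib.GroupTheory.SpecificGroups.Dihedral
import Mathlib.GroupTheory.SpecificGroups.KleinFour

/-!
Fusion in a finite group with a dihedral Sylow 2-subgroup.
-/

set_option autoImplicit false

namespace Cfsg.Agent.Invol

open DihedralGroup

universe u

variable {X : Type u} [Group X]

theorem complement_of_normal_two_power [Finite X] (K : Subgroup X) [K.Normal] {j : ℕ}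
    (hj : K.index = 2 ^ j) (h : Cfsg.HasNormalPComplement 2 K) : Cfsg.HasNormalPComplement 2 X := by
  have := Fusion.pResidual_characteristic (p := 2) (G := K)
  have hc := Fusion.coprime_card_pResidual_of_hasNormalPComplement h
  obtain ⟨i, hi⟩ := Fusion.index_pResidual_eq_pow (p := 2) (G := K)
  refine Fusion.hasNormalPComplement_iff_exists.2 ⟨(Cfsg.pResidual 2 K).map K.subtype, inferInstance,
    by rwa [Subgroup.card_map_of_injective K.subtype_injective], i + j, ?_⟩
  rw [Subgroup.index_map_subtype, hi, hj, pow_add]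

theorem conj_in_sylow_of_complement [Finite X] (S : Sylow 2 X) (h : Cfsg.HasNormalPComplement 2 X)
    {g : X} {s : X} (hs : s ∈ S) (hgs : g * s * g⁻¹ ∈ S) :
    ∃ k ∈ Cfsg.pResidual 2 X, ∃ t ∈ (S : Subgroup X), g = k * t ∧ t * s * t⁻¹ = g * s * g⁻¹ := by
  have hK := Fusion.isComplement'_pResidual h S
  have hKn : (Cfsg.pResidual 2 X).Normal := inferInstance
  obtain ⟨⟨⟨k, hk⟩, ⟨t, ht⟩⟩, hkt⟩ := (hK : Subgroup.IsComplement' _ _).2 g
  change k * t = g at hkt
  refine ⟨k, hk, t, ht, hkt.symm, ?_⟩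
  set s' := t * s * t⁻¹ with hs'
  have hs'S : s' ∈ (S : Subgroup X) :=
    (S : Subgroup X).mul_mem ((S : Subgroup X).mul_mem ht hs) ((S : Subgroup X).inv_mem ht)
  have he : g * s * g⁻¹ = k * s' * k⁻¹ := by rw [← hkt, hs']; group
  have hmem : g * s * g⁻¹ * s'⁻¹ ∈ Cfsg.pResidual 2 X ⊓ (S : Subgroup X) := by
    refine ⟨?_, (S : Subgroup X).mul_mem hgs ((S : Subgroup X).inv_mem hs'S)⟩
    rw [he, show k * s' * k⁻¹ * s'⁻¹ = k * (s' * k⁻¹ * s'⁻¹) by group]
    exact Subgroup.mul_mem _ hk (hKn.conj_mem _ (Subgroup.inv_mem _ hk) s')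
  rw [hK.disjoint.eq_bot, Subgroup.mem_bot, mul_inv_eq_one] at hmem
  exact hmem.symm

/-- A dihedral Sylow 2-subgroup presented by an embedding. -/
structure DData (S : Sylow 2 X) (k : ℕ) (ι : DihedralGroup (2 ^ k) →* X) : Prop where
  pos : 1 ≤ k
  inj : Function.Injective ι
  range : ι.range = (S : Subgroup X)

theorem ddata_exists [Finite X] (S : Sylow 2 X) {m : ℕ} (hm : 2 ≤ m)
    (e : (S : Subgroup X) ≃* DihedralGroup m) :
    ∃ (k : ℕ) (ι : DihedralGroup (2 ^ k) →* X), DData S k ι ∧ m = 2 ^ k := by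
  obtain ⟨j, hj⟩ := IsPGroup.iff_card.1 S.2
  rw [Nat.card_congr e.toEquiv, DihedralGroup.nat_card] at hj
  rcases j with _ | j
  · omega
  rw [pow_succ'] at hj
  obtain rfl : m = 2 ^ j := by omega
  refine ⟨j, (S : Subgroup X).subtype.comp e.symm.toMonoidHom, ⟨?_, ?_, ?_⟩, rfl⟩
  · rcases j with _ | j
    · norm_num at hm
    · omega
  · exact fun a b h => e.symm.injective ((S : Subgroup X).subtype_injective h)
  · rw [MonoidHom.range_comp, MonoidHom.range_eq_top.2 e.symm.surjective, ← MonoidHom.range_eq_map,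
      Subgroup.range_subtype]

/-- half of the modulus -/
def dh (k : ℕ) : ZMod (2 ^ k) := 2 ^ (k - 1)

section ZModFacts

variable {k : ℕ}

theorem two_dh (hk : 1 ≤ k) : 2 * dh k = 0 := by
  rw [dh, ← pow_succ', show k - 1 + 1 = k by omega,
    show (2 : ZMod (2 ^ k)) ^ k = ((2 ^ k : ℕ) : ZMod (2 ^ k)) by push_cast; ring, ZMod.natCast_self]

theorem dh_ne (hk : 1 ≤ k) : dh k ≠ 0 := by
  rw [dh, show (2 : ZMod (2 ^ k)) ^ (k - 1) = ((2 ^ (k - 1) : ℕ) : ZMod (2 ^ k)) by push_cast; ring,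
    ne_eq, ZMod.natCast_eq_zero_iff]
  exact fun h => absurd (Nat.le_of_dvd (by positivity) h)
    (not_le.2 (Nat.pow_lt_pow_right one_lt_two (by omega)))

theorem two_mul_zero (hk : 1 ≤ k) {a : ZMod (2 ^ k)} (h : 2 * a = 0) : a = 0 ∨ a = dh k := by
  have hd : 2 ^ k ∣ 2 * a.val := by
    rw [← ZMod.natCast_eq_zero_iff]; push_cast; rw [ZMod.natCast_zmod_val, h]
  have he : 2 ^ k = 2 * 2 ^ (k - 1) := by rw [← pow_succ', show k - 1 + 1 = k by omega]
  have hlt : a.val < 2 * 2 ^ (k - 1) := lt_of_lt_of_eq a.val_lt he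
  replace hd : 2 * 2 ^ (k - 1) ∣ 2 * a.val := (dvd_of_eq he.symm).trans hd
  obtain ⟨c, hc⟩ := Nat.dvd_of_mul_dvd_mul_left two_pos hd
  rcases c with _ | _ | c
  · exact Or.inl (by rw [← ZMod.natCast_zmod_val a, hc, mul_zero, Nat.cast_zero])
  · refine Or.inr ?_
    rw [← ZMod.natCast_zmod_val a, hc, dh]
    push_cast
    ring
  · exfalso
    rw [hc] at hlt
    nlinarith [Nat.two_pow_pos (k - 1)]

theorem dparity (a : ZMod (2 ^ k)) : ∃ c, a = 2 * c ∨ a = 2 * c + 1 := by
  obtain ⟨t, ht | ht⟩ := Nat.even_or_odd' a.val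
  · exact ⟨t, Or.inl (by rw [← ZMod.natCast_zmod_val a, ht]; push_cast; ring)⟩
  · exact ⟨t, Or.inr (by rw [← ZMod.natCast_zmod_val a, ht]; push_cast; ring)⟩

theorem even_ne_odd' (hk : 1 ≤ k) (a b : ZMod (2 ^ k)) : 2 * a ≠ 2 * b + 1 := by
  intro h
  have := congrArg (ZMod.castHom (dvd_pow_self 2 (by omega : k ≠ 0)) (ZMod 2)) h
  rw [map_mul, map_add, map_mul, map_one] at this
  simp only [map_ofNat, show (2 : ZMod 2) = 0 from rfl, zero_mul, zero_add] at this
  exact zero_ne_one this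

theorem dh_even (hk : 2 ≤ k) : dh k = 2 * 2 ^ (k - 2) := by
  rw [dh, ← pow_succ', show k - 2 + 1 = k - 1 by omega]

end ZModFacts

/-- The standard four-subgroups of a dihedral 2-group. -/
def dfour {k : ℕ} (hk : 1 ≤ k) (a : ZMod (2 ^ k)) : Subgroup (DihedralGroup (2 ^ k)) where
  carrier := {d | ∃ b, 2 * b = 0 ∧ (d = r b ∨ d = sr (a + b))}
  one_mem' := ⟨0, mul_zero _, Or.inl (one_def)⟩
  mul_mem' := by
    rintro _ _ ⟨b, hb, rfl | rfl⟩ ⟨c, hc, rfl | rfl⟩
    · exact ⟨b + c, by rw [mul_add, hb, hc, add_zero], Or.inl (r_mul_r _ _)⟩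
    · refine ⟨c - b, by rw [mul_sub, hb, hc, sub_zero], Or.inr ?_⟩
      rw [r_mul_sr, add_sub_assoc]
    · refine ⟨b + c, by rw [mul_add, hb, hc, add_zero], Or.inr ?_⟩
      rw [sr_mul_r, add_assoc]
    · refine ⟨c - b, by rw [mul_sub, hb, hc, sub_zero], Or.inl ?_⟩
      rw [sr_mul_sr, add_sub_add_left_eq_sub]
  inv_mem' := by
    have := hk
    rintro _ ⟨b, hb, rfl | rfl⟩
    · exact ⟨-b, by rw [mul_neg, hb, neg_zero], Or.inl rfl⟩
    · exact ⟨b, hb, Or.inr rfl⟩

section Group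

variable {k : ℕ} (hk : 1 ≤ k)
include hk

theorem mem_dfour_iff {a : ZMod (2 ^ k)} {d : DihedralGroup (2 ^ k)} :
    d ∈ dfour hk a ↔ d = r 0 ∨ d = r (dh k) ∨ d = sr a ∨ d = sr (a + dh k) := by
  constructor
  · rintro ⟨b, hb, h⟩
    rcases two_mul_zero hk hb with rfl | rfl
    · rcases h with rfl | rfl
      · exact Or.inl rfl
      · exact Or.inr (Or.inr (Or.inl (by rw [add_zero])))
    · rcases h with rfl | rfl
      · exact Or.inr (Or.inl rfl)
      · exact Or.inr (Or.inr (Or.inr rfl))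
  · rintro (rfl | rfl | rfl | rfl)
    · exact ⟨0, mul_zero _, Or.inl rfl⟩
    · exact ⟨_, two_dh hk, Or.inl rfl⟩
    · exact ⟨0, mul_zero _, Or.inr (by rw [add_zero])⟩
    · exact ⟨_, two_dh hk, Or.inr rfl⟩

theorem commute_sr {a : ZMod (2 ^ k)} {d : DihedralGroup (2 ^ k)} (h : d * sr a = sr a * d) :
    d ∈ dfour hk a := by
  rcases d with i | i
  · rw [r_mul_sr, sr_mul_r, sr.injEq] at h
    exact ⟨i, by linear_combination -h, Or.inl rfl⟩
  · rw [sr_mul_sr, sr_mul_sr, r.injEq] at h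
    exact ⟨i - a, by linear_combination -h, Or.inr (by rw [add_sub_cancel])⟩

theorem dinvolution {d : DihedralGroup (2 ^ k)} (h : orderOf d = 2) :
    d = r (dh k) ∨ ∃ a, d = sr a := by
  rcases d with i | i
  · have h2 : r i * r i = 1 := by
      have h3 := pow_orderOf_eq_one (r i)
      rwa [h, pow_two] at h3
    rw [r_mul_r, one_def, r.injEq, ← two_mul] at h2
    rcases two_mul_zero hk h2 with rfl | rfl
    · rw [← one_def, orderOf_one] at h; omega
    · exact Or.inl rfl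
  · exact Or.inr ⟨i, rfl⟩

theorem orderOf_half : orderOf (r (dh k)) = 2 :=
  orderOf_eq_prime (by rw [pow_two, r_mul_r, ← two_mul, two_dh hk, one_def])
    (fun e => dh_ne hk (by rwa [one_def, r.injEq] at e))

theorem dfour_card (a : ZMod (2 ^ k)) : Nat.card (dfour hk a) = 4 := by
  have h0 := dh_ne hk
  rw [← SetLike.coe_sort_coe, Nat.card_coe_set_eq]
  have he : (dfour hk a : Set (DihedralGroup (2 ^ k))) = {r 0, r (dh k), sr a, sr (a + dh k)} := by
    ext d; exact mem_dfour_iff hk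
  rw [he, Set.ncard_insert_of_notMem, Set.ncard_insert_of_notMem, Set.ncard_pair]
  all_goals simp only [Set.mem_insert_iff, Set.mem_singleton_iff, ne_eq, r.injEq, sr.injEq, reduceCtorEq,
    or_false, not_false_eq_true]
  all_goals first
    | exact Ne.symm h0
    | exact fun e => h0 (add_eq_left.1 e.symm)

theorem dfour_sq (a : ZMod (2 ^ k)) {d : DihedralGroup (2 ^ k)} (hd : d ∈ dfour hk a) : d * d = 1 := by
  obtain ⟨b, hb, rfl | rfl⟩ := hd
  · rw [r_mul_r, ← two_mul, hb, one_def]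
  · rw [sr_mul_self]

theorem r_conj_sr (c a : ZMod (2 ^ k)) : r c * sr a * (r c)⁻¹ = sr (a - 2 * c) := by
  rw [inv_r, r_mul_sr, sr_mul_r]; congr 1; ring

theorem dfour_map_conj (c a : ZMod (2 ^ k)) :
    (dfour hk a).map (MulAut.conj (r c)).toMonoidHom = dfour hk (a - 2 * c) := by
  refine Subgroup.eq_of_le_of_card_ge ?_ ?_
  · rintro _ ⟨d, ⟨b, hb, rfl | rfl⟩, rfl⟩
    · refine ⟨b, hb, Or.inl ?_⟩
      show r c * r b * (r c)⁻¹ = r b
      rw [inv_r, r_mul_r, r_mul_r]; congr 1; ring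
    · refine ⟨b, hb, Or.inr ?_⟩
      show r c * sr (a + b) * (r c)⁻¹ = _
      rw [r_conj_sr hk]; congr 1; ring
  · rw [Subgroup.card_map_of_injective (MulEquiv.injective _), dfour_card hk, dfour_card hk]

end Group

namespace DData

variable {S : Sylow 2 X} {k : ℕ} {ι : DihedralGroup (2 ^ k) →* X} (D : DData S k ι)
include D

theorem mem (d : DihedralGroup (2 ^ k)) : ι d ∈ (S : Subgroup X) := by rw [← D.range]; exact ⟨d, rfl⟩

theorem exists_eq {x : X} (hx : x ∈ S) : ∃ d, ι d = x := by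
  have : x ∈ ι.range := by rw [D.range]; exact hx
  exact this

theorem card_sylow : Nat.card S = 2 * 2 ^ k := by
  rw [← DihedralGroup.nat_card (n := 2 ^ k)]
  exact ((Nat.card_congr (MonoidHom.ofInjective D.inj).toEquiv).trans (by rw [D.range])).symm

theorem z_comm {x : X} (hx : x ∈ S) : x * ι (r (dh k)) = ι (r (dh k)) * x := by
  obtain ⟨d, rfl⟩ := D.exists_eq hx
  rw [← map_mul, ← map_mul]
  congr 1
  rcases d with i | i
  · rw [r_mul_r, r_mul_r, add_comm]
  · rw [sr_mul_r, r_mul_sr]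
    congr 1
    linear_combination two_dh D.pos

theorem z_order : orderOf (ι (r (dh k))) = 2 := by
  rw [orderOf_injective ι D.inj, orderOf_half D.pos]

theorem sr_order (a : ZMod (2 ^ k)) : orderOf (ι (sr a)) = 2 := by
  rw [orderOf_injective ι D.inj, DihedralGroup.orderOf_sr]

theorem involution_cases {x : X} (hx : x ∈ S) (h : orderOf x = 2) :
    x = ι (r (dh k)) ∨ ∃ a, x = ι (sr a) := by
  obtain ⟨d, rfl⟩ := D.exists_eq hx
  rw [orderOf_injective ι D.inj] at h
  rcases dinvolution D.pos h with rfl | ⟨a, rfl⟩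
  exacts [Or.inl rfl, Or.inr ⟨a, rfl⟩]

theorem four_le (a : ZMod (2 ^ k)) : (dfour D.pos a).map ι ≤ (S : Subgroup X) := by
  rintro _ ⟨d, -, rfl⟩; exact D.mem d

theorem four_card (a : ZMod (2 ^ k)) : Nat.card ((dfour D.pos a).map ι) = 4 := by
  rw [Subgroup.card_map_of_injective D.inj, dfour_card]

theorem four_klein [Finite X] (a : ZMod (2 ^ k)) : IsKleinFour ((dfour D.pos a).map ι) := by
  refine ⟨D.four_card a, ?_⟩
  have : Nontrivial ((dfour D.pos a).map ι) :=
    Finite.one_lt_card_iff_nontrivial.1 (by rw [D.four_card a]; omega)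
  refine (Monoid.exponent_eq_prime_iff Nat.prime_two).2 fun g hg => orderOf_eq_prime ?_ hg
  obtain ⟨d, hd, he⟩ := g.2
  rw [pow_two]
  refine Subtype.ext ?_
  show (g : X) * g = 1
  rw [← he, ← map_mul, dfour_sq D.pos a hd, map_one]

theorem klein_eq [Finite X] {W : Subgroup X} (hW : W ≤ (S : Subgroup X)) (hK : IsKleinFour W) :
    ∃ a, W = (dfour D.pos a).map ι := by
  obtain ⟨a, ha⟩ : ∃ a, ι (sr a) ∈ W := by
    by_contra hc
    have hsub : (W : Set X) ⊆ {1, ι (r (dh k))} := by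
      intro x hx
      by_cases h1 : x = 1
      · exact Or.inl h1
      have h2 : orderOf x = 2 := orderOf_eq_prime
        (by rw [pow_two]; exact congrArg Subtype.val (IsKleinFour.mul_self (⟨x, hx⟩ : W))) h1
      rcases D.involution_cases (hW hx) h2 with h | ⟨a, rfl⟩
      · exact Or.inr h
      · exact absurd ⟨a, hx⟩ hc
    have h1 := Set.ncard_le_ncard hsub (Set.toFinite _)
    have h4 : (W : Set X).ncard = 4 := hK.card_four
    have := Set.ncard_insert_le (1 : X) {ι (r (dh k))}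
    have := Set.ncard_singleton (ι (r (dh k)))
    omega
  refine ⟨a, Subgroup.eq_of_le_of_card_ge (fun x hx => ?_) (by rw [D.four_card, hK.card_four])⟩
  obtain ⟨d, rfl⟩ := D.exists_eq (hW hx)
  refine ⟨d, commute_sr D.pos (D.inj ?_), rfl⟩
  rw [map_mul, map_mul]
  exact congrArg Subtype.val (mul_comm_of_exponent_two hK.exponent_two (⟨_, hx⟩ : W) ⟨_, ha⟩)

theorem four_conj (a c : ZMod (2 ^ k)) :
    ((dfour D.pos a).map ι).map (MulAut.conj (ι (r c))).toMonoidHom =
      (dfour D.pos (a - 2 * c)).map ι := by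
  rw [← dfour_map_conj D.pos c a, Subgroup.map_map, Subgroup.map_map]
  congr 1
  ext d
  show ι (r c) * ι d * (ι (r c))⁻¹ = ι (r c * d * (r c)⁻¹)
  rw [map_mul, map_mul, map_inv]

/-- Every four-subgroup in `S` is conjugate in `S` to one of two standard ones. -/
theorem four_conj_std (a : ZMod (2 ^ k)) :
    ∃ s ∈ (S : Subgroup X), ((dfour D.pos a).map ι).map (MulAut.conj s).toMonoidHom = (dfour D.pos 0).map ι ∨
      ((dfour D.pos a).map ι).map (MulAut.conj s).toMonoidHom = (dfour D.pos 1).map ι := by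
  obtain ⟨c, rfl | rfl⟩ := dparity a
  · exact ⟨ι (r c), D.mem _, Or.inl (by rw [D.four_conj, sub_self])⟩
  · exact ⟨ι (r c), D.mem _, Or.inr (by rw [D.four_conj, add_sub_cancel_left])⟩

theorem centralizer_data [Finite X] :
    ∃ (T : Sylow 2 (Subgroup.centralizer ({ι (r (dh k))} : Set X)))
      (κ : DihedralGroup (2 ^ k) →* Subgroup.centralizer ({ι (r (dh k))} : Set X)),
      DData T k κ ∧ (T : Subgroup (Subgroup.centralizer ({ι (r (dh k))} : Set X))) =
        (S : Subgroup X).subgroupOf _ ∧ ∀ d, (κ d : X) = ι d := by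
  have hle : (S : Subgroup X) ≤ Subgroup.centralizer ({ι (r (dh k))} : Set X) :=
    fun x hx => Subgroup.mem_centralizer_singleton_iff.2 (D.z_comm hx)
  refine ⟨S.subtype hle, ι.codRestrict _ (fun d => hle (D.mem d)),
    ⟨D.pos, fun a b h => D.inj (congrArg Subtype.val h), ?_⟩, S.coe_subtype hle, fun d => rfl⟩
  rw [S.coe_subtype hle]
  ext x
  rw [Subgroup.mem_subgroupOf, ← D.range]
  exact ⟨fun ⟨d, hd⟩ => ⟨d, congrArg Subtype.val hd⟩, fun ⟨d, hd⟩ => ⟨d, Subtype.ext hd⟩⟩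

variable [Finite X]

theorem exists_conj_involution {t : X} (ht : orderOf t = 2) :
    IsConj t (ι (r (dh k))) ∨ ∃ a, IsConj t (ι (sr a)) := by
  obtain ⟨g, hg⟩ := exists_conj_mem_of_isPGroup S ⟨1, by rw [pow_one]; exact ht⟩
  have ho : orderOf (g * t * g⁻¹) = 2 := by rw [← MulAut.conj_apply, MulEquiv.orderOf_eq]; exact ht
  rcases D.involution_cases hg ho with h | ⟨a, h⟩
  · exact Or.inl (isConj_iff.2 ⟨g, h⟩)
  · exact Or.inr ⟨a, isConj_iff.2 ⟨g, h⟩⟩

/-- A reflection not fused to the central involution lies outside a subgroup of index two. -/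
theorem index_two_of_not_conj {a : ZMod (2 ^ k)} (ha : ¬ IsConj (ι (sr a)) (ι (r (dh k)))) :
    ∃ N : Subgroup X, N.Normal ∧ N.index = 2 ∧ ι (sr a) ∉ N := by
  let M := (Subgroup.zpowers (r 1 : DihedralGroup (2 ^ k))).map ι
  have hM : M.relIndex (S : Subgroup X) = 2 := by
    rw [← D.range, MonoidHom.range_eq_map, Subgroup.relIndex_map_map_of_injective _ _ D.inj,
      Subgroup.relIndex_top_right]
    have h := (Subgroup.zpowers (r 1 : DihedralGroup (2 ^ k))).card_mul_index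
    rw [Nat.card_zpowers, DihedralGroup.orderOf_r_one, DihedralGroup.nat_card, mul_comm 2] at h
    exact Nat.eq_of_mul_eq_mul_left (Nat.two_pow_pos k) h
  refine TwoTransfer.exists_index_two S M hM _ (D.mem _) (fun j g hj _ => ?_) fun g hg hgM => ?_
  · have h1 : ι (sr a) ^ (2 ^ j) = 1 := by
      obtain ⟨i, rfl⟩ : ∃ i, j = i + 1 := ⟨j - 1, by omega⟩
      have h3 := pow_orderOf_eq_one (ι (sr a))
      rw [D.sr_order] at h3
      rw [pow_succ', pow_mul, h3, one_pow]
    rw [h1, mul_one, inv_mul_cancel]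
    exact one_mem _
  · have ho : orderOf (g⁻¹ * ι (sr a) * g) = 2 := by
      have := MulEquiv.orderOf_eq (MulAut.conj g⁻¹) (ι (sr a))
      rw [MulAut.conj_apply, inv_inv, D.sr_order] at this
      exact this
    rcases D.involution_cases hg ho with h | ⟨b, h⟩
    · exact ha (isConj_iff.2 ⟨g⁻¹, by rw [inv_inv]; exact h⟩)
    · obtain ⟨d, hd, he⟩ := hgM
      rw [h] at he
      obtain ⟨i, rfl⟩ := Subgroup.mem_zpowers_iff.1 hd
      have := D.inj he
      rw [DihedralGroup.r_one_zpow] at this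
      exact DihedralGroup.noConfusion rfl (heq_of_eq this)

/-- If no reflection is fused to the central involution there is a normal 2-complement. -/
theorem complement_of_not_conj (h : ∀ a, ¬ IsConj (ι (sr a)) (ι (r (dh k)))) :
    Cfsg.HasNormalPComplement 2 X := by
  obtain ⟨N, hN, hNi, hN0⟩ := D.index_two_of_not_conj (h 0)
  obtain ⟨N', hN', hNi', hN1⟩ := D.index_two_of_not_conj (h 1)
  let K := N ⊓ N'
  have hKn : K.Normal := inferInstance
  obtain ⟨j, -, hj⟩ : ∃ j, j ≤ 2 ∧ K.index = 2 ^ j := by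
    have h0 : K.index ≠ 0 := Subgroup.index_ne_zero_of_finite
    have h4 : K.index ≤ 4 := by
      have := Subgroup.index_inf_le (H := N) (K := N')
      rw [hNi, hNi'] at this
      exact this
    have h2 : 2 ∣ K.index := hNi ▸ Subgroup.index_dvd_of_le inf_le_left
    rcases (by omega : K.index = 2 ∨ K.index = 4) with e | e
    exacts [⟨1, by omega, e.trans (pow_one 2).symm⟩, ⟨2, le_rfl, e⟩]
  have hrot : ∀ x ∈ (S : Subgroup X), x ∈ K → x ∈ (Subgroup.zpowers (r 1 : DihedralGroup (2 ^ k))).map ι := by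
    intro x hx hxK
    obtain ⟨d, rfl⟩ := D.exists_eq hx
    rcases d with i | i
    · exact ⟨r i, ⟨(i.val : ℤ), by
        show r 1 ^ (i.val : ℤ) = r i
        rw [zpow_natCast, r_one_pow, ZMod.natCast_zmod_val]⟩, rfl⟩
    exfalso
    have hsq : ∀ (H : Subgroup X), H.index = 2 → ∀ c : ZMod (2 ^ k), ι (r (2 * c)) ∈ H := by
      intro H hH c
      rw [two_mul, ← r_mul_r, map_mul]
      exact (Subgroup.mul_mem_iff_of_index_two hH).2 Iff.rfl
    obtain ⟨c, hc | hc⟩ := dparity i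
    · apply hN0
      have := N.mul_mem (Subgroup.mem_inf.1 hxK).1 (hsq N hNi (-c))
      rwa [← map_mul, sr_mul_r, hc, mul_neg, add_neg_cancel] at this
    · apply hN1
      have := N'.mul_mem (Subgroup.mem_inf.1 hxK).2 (hsq N' hNi' (-c))
      rwa [← map_mul, sr_mul_r, hc, mul_neg, add_neg_cancel_comm] at this
  refine complement_of_normal_two_power K hj ?_
  let P : Sylow 2 K := default
  obtain ⟨R, hR⟩ := (P.2.map K.subtype).exists_le_sylow
  obtain ⟨g, hg⟩ := MulAction.exists_smul_eq X R S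
  have hcyc : IsCyclic (P : Subgroup K) := by
    let f : (P : Subgroup K) →* (Subgroup.zpowers (r 1 : DihedralGroup (2 ^ k))).map ι :=
      ((MulAut.conj g).toMonoidHom.comp (K.subtype.comp (P : Subgroup K).subtype)).codRestrict _
        (fun x => hrot _ (by
          rw [← hg, Sylow.coe_subgroup_smul]
          exact ⟨(x : K), hR ⟨x, x.2, rfl⟩, rfl⟩) (hKn.conj_mem _ x.1.2 g))
    have : IsCyclic ((Subgroup.zpowers (r 1 : DihedralGroup (2 ^ k))).map ι) := by
      rw [MonoidHom.map_zpowers]; infer_instance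
    exact isCyclic_of_injective f fun a b e => Subtype.ext (Subtype.ext
      ((MulAut.conj g).injective (congrArg Subtype.val e)))
  exact HSub.hasNormalPComplement_of_cyclic P (fun q hq _ => hq.two_le) hcyc

/-- Four-subgroups of different parity are not conjugate. -/
theorem four_not_conj (hk : 2 ≤ k) (g : X) :
    ((dfour D.pos 0).map ι).map (MulAut.conj g).toMonoidHom ≠ (dfour D.pos 1).map ι := by
  intro hg
  set z := ι (r (dh k)) with hz
  have h0 := dh_ne D.pos
  -- it is enough to conjugate inside the centralizer of `z`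
  have hzmem : ∀ a, z ∈ (dfour D.pos a).map ι := fun a =>
    ⟨r (dh k), (mem_dfour_iff D.pos).2 (Or.inr (Or.inl rfl)), rfl⟩
  have htmem : ∀ a, ι (sr a) ∈ (dfour D.pos a).map ι := fun a =>
    ⟨sr a, (mem_dfour_iff D.pos).2 (Or.inr (Or.inr (Or.inl rfl))), rfl⟩
  have hcases : ∀ a, ∀ x ∈ (dfour D.pos a).map ι, x ≠ 1 → x ≠ z → x = ι (sr a) ∨ x = ι (sr (a + dh k)) := by
    rintro a _ ⟨d, hd, rfl⟩ h1 h2
    rcases (mem_dfour_iff D.pos).1 hd with rfl | rfl | rfl | rfl
    · exact absurd (by rw [← one_def, map_one]) h1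
    · exact absurd rfl h2
    · exact Or.inl rfl
    · exact Or.inr rfl
  set q := ι (r (2 ^ (k - 2) : ZMod (2 ^ k))) with hq
  have qsw : ∀ a, q * ι (sr a) * q⁻¹ = ι (sr (a + dh k)) ∧ q * ι (sr (a + dh k)) * q⁻¹ = ι (sr a) := by
    intro a
    rw [hq, ← map_inv, ← map_mul, ← map_mul, ← map_mul, ← map_mul, r_conj_sr D.pos, r_conj_sr D.pos, ← dh_even hk]
    exact ⟨congrArg ι (congrArg sr (by linear_combination -two_dh D.pos)),
      congrArg ι (congrArg sr (by ring))⟩
  have qnorm : ∀ a, ∀ x ∈ (dfour D.pos a).map ι, q * x * q⁻¹ ∈ (dfour D.pos a).map ι := by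
    intro a x hx
    have h := Subgroup.mem_map_of_mem (MulAut.conj q).toMonoidHom hx
    rw [hq, D.four_conj, ← dh_even hk] at h
    have e : (dfour D.pos (a - dh k)) = dfour D.pos a := by
      ext d
      rw [mem_dfour_iff, mem_dfour_iff, show a - dh k + dh k = a by ring,
        show a - dh k = a + dh k by linear_combination -two_dh D.pos]
      tauto
    rwa [e] at h
  have to1 : ∀ x ∈ (dfour D.pos 0).map ι, g * x * g⁻¹ ∈ (dfour D.pos 1).map ι := fun x hx =>
    hg ▸ Subgroup.mem_map_of_mem (MulAut.conj g).toMonoidHom hx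
  have to0 : ∀ x ∈ (dfour D.pos 1).map ι, g⁻¹ * x * g ∈ (dfour D.pos 0).map ι := by
    intro x hx
    rw [← hg] at hx
    obtain ⟨w, hw, rfl⟩ := hx
    simpa [mul_assoc] using hw
  obtain ⟨g', hg'z, hg'⟩ : ∃ g', g' * z * g'⁻¹ = z ∧
      ∀ x ∈ (dfour D.pos 0).map ι, g' * x * g'⁻¹ ∈ (dfour D.pos 1).map ι := by
    by_cases hgz : g * z * g⁻¹ = z
    · exact ⟨g, hgz, to1⟩
    have qz : q * z * q⁻¹ = z := by
      rw [hz, D.z_comm (by rw [hq]; exact D.mem _), mul_inv_cancel_right]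
    have hz1 : z ≠ 1 := fun e => by have := D.z_order; rw [← hz, e, orderOf_one] at this; omega
    set v := g⁻¹ * z * g with hv
    have hv0 : v ∈ (dfour D.pos 0).map ι := to0 z (hzmem 1)
    have hvz : v ≠ z := fun e => hgz (by
      calc g * z * g⁻¹ = g * v * g⁻¹ := by rw [e]
        _ = z := by rw [hv]; group)
    have hv1 : v ≠ 1 := fun e => hz1 (by simpa [hv, mul_assoc, mul_eq_one_iff_inv_eq] using e)
    -- a conjugate of `q` normalises the first four-subgroup and moves `z`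
    set n := g⁻¹ * q * g with hn
    have nv : n * v * n⁻¹ = v := by
      calc n * v * n⁻¹ = g⁻¹ * (q * z * q⁻¹) * g := by rw [hn, hv]; group
        _ = v := by rw [qz, hv]
    have nmem : ∀ x ∈ (dfour D.pos 0).map ι, n * x * n⁻¹ ∈ (dfour D.pos 0).map ι := by
      intro x hx
      rw [show n * x * n⁻¹ = g⁻¹ * (q * (g * x * g⁻¹) * q⁻¹) * g by rw [hn]; group]
      exact to0 _ (qnorm 1 _ (to1 x hx))
    have nz : n * z * n⁻¹ ≠ z := by
      intro e
      have e1 : q * (g * z * g⁻¹) * q⁻¹ = g * z * g⁻¹ := by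
        calc q * (g * z * g⁻¹) * q⁻¹ = g * (n * z * n⁻¹) * g⁻¹ := by rw [hn]; group
          _ = g * z * g⁻¹ := by rw [e]
      have hne : ∀ a : ZMod (2 ^ k), ι (sr (a + dh k)) ≠ ι (sr a) := fun a e =>
        h0 (by have := D.inj e; rwa [sr.injEq, add_eq_left] at this)
      rcases hcases 1 _ (to1 z (hzmem 0)) (fun e => hz1 (conj_eq_one_iff.1 e)) hgz with h | h <;> rw [h] at e1
      · rw [(qsw 1).1] at e1; exact hne 1 e1
      · rw [(qsw 1).2] at e1; exact hne 1 e1.symm
    have nz1 : n * z * n⁻¹ ≠ 1 := fun e => hz1 (conj_eq_one_iff.1 e)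
    have nzv : n * z * n⁻¹ ≠ v := fun e => hvz (by
      conv_rhs at e => rw [← nv]
      exact (mul_left_cancel (mul_right_cancel e)).symm)
    -- so the automiser is transitive
    obtain ⟨m, hm, hmz⟩ : ∃ m, (∀ x ∈ (dfour D.pos 0).map ι, m * x * m⁻¹ ∈ (dfour D.pos 0).map ι) ∧
        m * z * m⁻¹ = v := by
      refine ⟨q * n, fun x hx => ?_, ?_⟩
      · rw [show q * n * x * (q * n)⁻¹ = q * (n * x * n⁻¹) * q⁻¹ by group]
        exact qnorm 0 _ (nmem x hx)
      · rw [show q * n * z * (q * n)⁻¹ = q * (n * z * n⁻¹) * q⁻¹ by group]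
        rcases hcases 0 v hv0 hv1 hvz with hv' | hv' <;>
          rcases hcases 0 _ (nmem z (hzmem 0)) nz1 nz with h' | h'
        · exact absurd (h'.trans hv'.symm) nzv
        · rw [h', hv', (qsw 0).2]
        · rw [h', hv', (qsw 0).1]
        · exact absurd (h'.trans hv'.symm) nzv
    refine ⟨g * m, ?_, fun x hx => ?_⟩
    · calc g * m * z * (g * m)⁻¹ = g * (m * z * m⁻¹) * g⁻¹ := by group
        _ = z := by rw [hmz, hv]; group
    · rw [show g * m * x * (g * m)⁻¹ = g * (m * x * m⁻¹) * g⁻¹ by group]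
      exact to1 _ (hm x hx)
  -- the centralizer of `z` has a normal 2-complement
  obtain ⟨T, κ, DT, hT, hκ⟩ := D.centralizer_data
  have hzc : ∀ a, ¬ IsConj (κ (sr a)) (κ (r (dh k))) := by
    intro a h
    obtain ⟨c, hc⟩ := isConj_iff.1 h.symm
    have hcomm : c * κ (r (dh k)) = κ (r (dh k)) * c := Subtype.ext (by
      rw [Subgroup.coe_mul, Subgroup.coe_mul, hκ]
      exact Subgroup.mem_centralizer_singleton_iff.1 c.2)
    rw [hcomm, mul_inv_cancel_right] at hc
    exact DihedralGroup.noConfusion rfl (heq_of_eq (DT.inj hc))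
  have hc := DT.complement_of_not_conj hzc
  let c : Subgroup.centralizer ({ι (r (dh k))} : Set X) :=
    ⟨g', Subgroup.mem_centralizer_singleton_iff.2 (mul_inv_eq_iff_eq_mul.1 hg'z)⟩
  have himg : c * κ (sr 0) * c⁻¹ ∈ T := by
    show c * κ (sr 0) * c⁻¹ ∈ (T : Subgroup (Subgroup.centralizer ({ι (r (dh k))} : Set X)))
    rw [hT, Subgroup.mem_subgroupOf]
    show g' * (κ (sr 0) : X) * g'⁻¹ ∈ _
    rw [hκ]
    exact D.four_le 1 (hg' _ (htmem 0))
  obtain ⟨-, -, t, htT, -, ht⟩ := conj_in_sylow_of_complement T hc (DT.mem _) himg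
  obtain ⟨d, rfl⟩ := DT.exists_eq htT
  have h1 : ι (d * sr 0 * d⁻¹) = g' * ι (sr 0) * g'⁻¹ := by
    have h3 := congrArg Subtype.val ht
    simp only [Subgroup.coe_mul, Subgroup.coe_inv, hκ] at h3
    rw [map_mul, map_mul, map_inv]
    exact h3
  obtain ⟨e, he, hee⟩ := hg' _ (htmem 0)
  change ι e = g' * ι (sr 0) * g'⁻¹ at hee
  rw [← hee] at h1
  have h2 := D.inj h1
  obtain ⟨c', hpar⟩ : ∃ c', e = sr (2 * c') := by
    rcases d with i | i
    · exact ⟨-i, by rw [← h2, r_conj_sr D.pos]; congr 1; ring⟩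
    · exact ⟨i, by rw [← h2, inv_sr, sr_mul_sr, r_mul_sr]; congr 1; ring⟩
  rw [hpar] at he
  rcases (mem_dfour_iff D.pos).1 he with h | h | h | h
  · exact DihedralGroup.noConfusion rfl (heq_of_eq h)
  · exact DihedralGroup.noConfusion rfl (heq_of_eq h)
  · rw [sr.injEq] at h
    exact even_ne_odd' D.pos c' 0 (by rw [h, mul_zero, zero_add])
  · rw [sr.injEq, dh_even hk] at h
    exact even_ne_odd' D.pos c' (2 ^ (k - 2)) (by rw [h]; ring)

theorem exists_conj_le (W : Subgroup X) (hW : IsPGroup 2 W) :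
    ∃ g : X, W.map (MulAut.conj g).toMonoidHom ≤ (S : Subgroup X) := by
  have := D.pos
  obtain ⟨R, hR⟩ := hW.exists_le_sylow
  obtain ⟨g, hg⟩ := MulAction.exists_smul_eq X R S
  refine ⟨g, ?_⟩
  rw [← hg, Sylow.coe_subgroup_smul]
  exact Subgroup.map_mono hR

theorem exists_conj_le_centralizer (W : Subgroup X) (hW : IsPGroup 2 W)
    (hle : W ≤ Subgroup.centralizer ({ι (r (dh k))} : Set X)) :
    ∃ c : X, c * ι (r (dh k)) * c⁻¹ = ι (r (dh k)) ∧
      W.map (MulAut.conj c).toMonoidHom ≤ (S : Subgroup X) := by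
  obtain ⟨T, κ, DT, hT, -⟩ := D.centralizer_data
  obtain ⟨c, hc⟩ := DT.exists_conj_le (W.subgroupOf _)
    (hW.of_equiv (Subgroup.subgroupOfEquivOfLe hle).symm)
  refine ⟨c, mul_inv_eq_iff_eq_mul.2 (Subgroup.mem_centralizer_singleton_iff.1 c.2), ?_⟩
  rintro _ ⟨w, hw, rfl⟩
  have h : c * ⟨w, hle hw⟩ * c⁻¹ ∈ (T : Subgroup (Subgroup.centralizer ({ι (r (dh k))} : Set X))) :=
    hc ⟨⟨w, hle hw⟩, hw, rfl⟩
  rw [hT, Subgroup.mem_subgroupOf] at h
  exact h

/-- Conjugate standard four-subgroups are conjugate in `S`. -/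
theorem four_conj_in_sylow {a b : ZMod (2 ^ k)} {g : X}
    (hg : ((dfour D.pos a).map ι).map (MulAut.conj g).toMonoidHom = (dfour D.pos b).map ι) :
    ∃ c, ((dfour D.pos b).map ι).map (MulAut.conj (ι (r c))).toMonoidHom = (dfour D.pos a).map ι := by
  rcases Nat.lt_or_ge k 2 with hk | hk
  · have hS : Nat.card S = 4 := by
      rw [D.card_sylow, show k = 1 by have := D.pos; omega]; norm_num
    refine ⟨0, ?_⟩
    rw [D.four_conj]
    rw [Subgroup.eq_of_le_of_card_ge (D.four_le (b - 2 * 0)) (by rw [hS, D.four_card]),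
      Subgroup.eq_of_le_of_card_ge (D.four_le a) (by rw [hS, D.four_card])]
  have bad : ∀ (c c' : ZMod (2 ^ k)) (h : X),
      ((dfour D.pos (2 * c)).map ι).map (MulAut.conj h).toMonoidHom ≠ (dfour D.pos (2 * c' + 1)).map ι := by
    intro c c' h e
    apply D.four_not_conj hk (ι (r c') * h * ι (r (-c)))
    have h1 := D.four_conj 0 (-c)
    have h2 := D.four_conj (2 * c' + 1) c'
    rw [show 2 * c' + 1 - 2 * c' = 1 by ring] at h2
    rw [show 0 - 2 * -c = 2 * c by ring] at h1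
    rw [← h2, ← e, ← h1, Subgroup.map_map, Subgroup.map_map, Subgroup.map_map]
    congr 1
    ext x
    simp [mul_assoc]
  have hback : ((dfour D.pos b).map ι).map (MulAut.conj g⁻¹).toMonoidHom = (dfour D.pos a).map ι := by
    rw [← hg, Subgroup.map_map, Subgroup.map_map]
    congr 1
    ext x
    simp [mul_assoc]
  obtain ⟨c, rfl | rfl⟩ := dparity a <;> obtain ⟨c', rfl | rfl⟩ := dparity b
  · exact ⟨c' - c, by rw [D.four_conj]; ring_nf⟩
  · exact absurd hg (bad _ _ _)
  · exact absurd hback (bad _ _ _)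
  · exact ⟨c' - c, by rw [D.four_conj]; ring_nf⟩

end DData

theorem mem_normalizer_of_map_eq' [Finite X] {U : Subgroup X} {n : X}
    (h : U.map (MulAut.conj n).toMonoidHom = U) : n ∈ Subgroup.normalizer (U : Set X) := by
  refine Subgroup.mem_normalizer_iff.2 fun x => ⟨fun hx => h ▸ ⟨x, hx, rfl⟩, fun hx => ?_⟩
  rw [← h] at hx
  obtain ⟨y, hy, e⟩ := hx
  rwa [← (MulAut.conj n).injective (e.trans rfl)]

end Cfsg.Agent.Invol
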