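import Cfsg.Agent.Fusion.PGroup
import Mathlib.GroupTheory.SpecificGroups.Cyclic
import Mathlib.RingTheory.Int.Basic
import Mathlib.Tactic.LinearCombination
import Mathlib.Tactic.Ring

/-!
Finite 2-groups with a single involution: cyclic, or a cyclic subgroup of index two inverted
outside with every outside square equal to the involution.
-/

set_option autoImplicit false

namespace Cfsg.Agent.Invol

variable {P : Type*} [Group P]

/-- An abelian `2`-group with at most one involution is cyclic. -/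
theorem isCyclic_of_unique_involution [Finite P] [IsMulCommutative P] (hP : IsPGroup 2 P)
    (huniq : ∀ x y : P, orderOf x = 2 → orderOf y = 2 → x = y) : IsCyclic P := by
  classical
  have := Fintype.ofFinite P
  let _ : CommGroup P := { (inferInstance : Group P) with mul_comm := fun a b => (IsMulCommutative.is_comm.comm a b) }
  refine isCyclic_of_card_pow_eq_one_le fun n hn => ?_
  have key : ∀ i, (Finset.univ.filter fun x : P => x ^ 2 ^ i = 1).card ≤ 2 ^ i := by
    intro i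
    induction i with
    | zero =>
      refine (Finset.card_le_one.2 fun a ha b hb => ?_).trans (le_of_eq (pow_zero 2).symm)
      simp only [Finset.mem_filter, pow_zero, pow_one] at ha hb
      rw [ha.2, hb.2]
    | succ i ih =>
      have hmaps : ∀ x ∈ (Finset.univ.filter fun x : P => x ^ 2 ^ (i + 1) = 1),
          x ^ 2 ∈ (Finset.univ.filter fun x : P => x ^ 2 ^ i = 1) := fun x hx => by
        simp only [Finset.mem_filter, Finset.mem_univ, true_and] at hx ⊢
        rw [← pow_mul, ← pow_succ']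
        exact hx
      refine (Finset.card_le_mul_card_image_of_maps_to hmaps 2 fun y _ => ?_).trans
        (by rw [pow_succ']; exact Nat.mul_le_mul_left 2 ih)
      by_contra! h
      obtain ⟨a, ha, b, hb, c, hc, hab, hac, hbc⟩ := Finset.two_lt_card.1 h
      simp only [Finset.mem_filter] at ha hb hc
      have hord : ∀ u v : P, u ^ 2 = y → v ^ 2 = y → u ≠ v → orderOf (u * v⁻¹) = 2 := by
        intro u v hu hv hne
        exact orderOf_eq_prime (by rw [mul_pow, inv_pow, hu, hv, mul_inv_cancel])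
          (fun e => hne (mul_inv_eq_one.1 e))
      exact hbc (inv_injective (mul_left_cancel
        (huniq _ _ (hord a b ha.2 hb.2 hab) (hord a c ha.2 hc.2 hac))))
  obtain ⟨k, hk⟩ := IsPGroup.iff_card.1 hP
  obtain ⟨i, hi, he⟩ := (Nat.dvd_prime_pow Nat.prime_two).1
    (show n.gcd (2 ^ k) ∣ 2 ^ k from Nat.gcd_dvd_right _ _)
  refine le_trans (Finset.card_le_card fun x hx => ?_)
    ((key i).trans (Nat.le_of_dvd hn (he ▸ Nat.gcd_dvd_left _ _)))
  simp only [Finset.mem_filter, Finset.mem_univ, true_and] at hx ⊢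
  rw [← he, ← hk]
  exact pow_gcd_eq_one.2 ⟨hx, pow_card_eq_one'⟩

/-- The structure of a noncyclic 2-group with one involution. -/
theorem exists_cyclic_index_two [Finite P] (hP : IsPGroup 2 P)
    (huniq : ∀ x y : P, orderOf x = 2 → orderOf y = 2 → x = y) (hnc : ¬ IsCyclic P) :
    ∃ (a : P) (k : ℕ), 2 ≤ k ∧ orderOf a = 2 ^ k ∧ (Subgroup.zpowers a).index = 2 ∧
      ∀ x, x ∉ Subgroup.zpowers a → x * a * x⁻¹ = a⁻¹ ∧ x * x = a ^ 2 ^ (k - 1) := by
  obtain ⟨A, -, hAn, hAc, hmax⟩ :=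
    Fusion.exists_maximal_normal_abelian (⊥ : Subgroup P) inferInstance
  have hC := Fusion.centralizer_eq_of_maximal_normal_abelian hP A hAc hmax
  have hAcyc : IsCyclic A := isCyclic_of_unique_involution (hP.to_subgroup A) fun x y hx hy =>
    Subtype.ext (huniq _ _ (by rwa [Subgroup.orderOf_coe]) (by rwa [Subgroup.orderOf_coe]))
  obtain ⟨a₀, ha₀⟩ := hAcyc.exists_generator
  obtain ⟨a, haA, rfl⟩ : ∃ a : P, a ∈ A ∧ Subgroup.zpowers a = A := by
    refine ⟨a₀, a₀.2, le_antisymm (Subgroup.zpowers_le.2 a₀.2) fun x hx => ?_⟩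
    obtain ⟨i, hi⟩ := Subgroup.mem_zpowers_iff.1 (ha₀ ⟨x, hx⟩)
    exact ⟨i, by simpa using congrArg Subtype.val hi⟩
  have hcomm : ∀ x : P, x * a * x⁻¹ = a → x ∈ Subgroup.zpowers a := by
    intro x hx
    rw [← hC, Subgroup.mem_centralizer_iff]
    rintro b ⟨i, rfl⟩
    exact (Commute.zpow_left (mul_inv_eq_iff_eq_mul.1 hx).symm i).eq
  have hne : ∃ x : P, x ∉ Subgroup.zpowers a := by
    by_contra! h
    exact hnc ⟨⟨a, h⟩⟩
  obtain ⟨x₀, hx₀⟩ := hne
  obtain ⟨k, hk⟩ := IsPGroup.iff_orderOf.1 hP a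
  have hk0 : k ≠ 0 := by
    rintro rfl
    rw [pow_zero, orderOf_eq_one_iff] at hk
    exact hx₀ (hcomm x₀ (by simp [hk]))
  set z := a ^ 2 ^ (k - 1) with hz
  have hz2 : orderOf z = 2 := by
    rw [hz, orderOf_pow' _ (by positivity), hk,
      Nat.gcd_eq_right (pow_dvd_pow 2 (by omega : k - 1 ≤ k)), Nat.pow_div (by omega) two_pos,
      show k - (k - 1) = 1 by omega, pow_one]
  have hzpow : ∀ n : ℤ, z ^ n = a ^ (((2 : ℤ) ^ (k - 1)) * n) := fun n => by
    rw [zpow_mul, hz, ← zpow_natCast a (2 ^ (k - 1))]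
    push_cast; rfl
  have hz1 : z ≠ 1 := fun e => by rw [e, orderOf_one] at hz2; omega
  have hzsq : z * z = 1 := by rw [← pow_two, ← hz2, pow_orderOf_eq_one]
  have hsq : ∀ y : P, y * y = 1 → y = 1 ∨ y = z := fun y hy => by
    by_cases h : y = 1
    · exact Or.inl h
    · exact Or.inr (huniq _ _ (orderOf_eq_prime (by rwa [pow_two]) h) hz2)
  have hmod : ∀ i j : ℤ, a ^ i = a ^ j ↔ (2 : ℤ) ^ k ∣ j - i := by
    intro i j
    rw [zpow_eq_zpow_iff_modEq, hk, Int.modEq_iff_dvd]
    push_cast; rfl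
  have hact : ∀ x : P, ∃ r : ℤ, x * a * x⁻¹ = a ^ r := fun x => by
    obtain ⟨r, hr⟩ := Subgroup.mem_zpowers_iff.1 (hAn.conj_mem a haA x)
    exact ⟨r, hr.symm⟩
  have hactpow : ∀ (x : P) (r i : ℤ), x * a * x⁻¹ = a ^ r → x * a ^ i * x⁻¹ = a ^ (r * i) :=
    fun x r i h => by rw [← conj_zpow, h, zpow_mul]
  have hk2 : 2 ≤ k := by
    by_contra h
    have e : a = z := by rw [hz, show k = 1 by omega]; simp
    refine hx₀ (hcomm x₀ ?_)
    rw [e]
    exact huniq _ _ (by
      rw [← hz2]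
      exact orderOf_injective (MulAut.conj x₀).toMonoidHom (MulAut.conj x₀).injective z) hz2
  obtain ⟨H, hH⟩ : ∃ H : ℤ, H = 2 ^ (k - 1) := ⟨_, rfl⟩
  obtain ⟨Q, hQ⟩ : ∃ Q : ℤ, Q = 2 ^ (k - 2) := ⟨_, rfl⟩
  have h2H : (2 : ℤ) ^ k = 2 * H := by rw [hH, ← pow_succ', show k - 1 + 1 = k by omega]
  have hHQ : H = 2 * Q := by rw [hH, hQ, ← pow_succ', show k - 2 + 1 = k - 1 by omega]
  have hH0 : H ≠ 0 := by rw [hH]; positivity
  have hQ0 : Q ≠ 0 := by rw [hQ]; positivity
  have main : ∀ x : P, x ∉ Subgroup.zpowers a → x * x ∈ Subgroup.zpowers a →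
      x * a * x⁻¹ = a⁻¹ ∧ x * x = z := by
    intro x hx hxx
    obtain ⟨c, hc⟩ := Subgroup.mem_zpowers_iff.1 hxx
    have hfix : ∀ r : ℤ, x * a * x⁻¹ = a ^ r → (2 : ℤ) ^ k ∣ c - r * c := fun r hr => by
      refine (hmod _ _).1 ?_
      rw [← hactpow x r c hr, hc]; group
    have hsqi : ∀ r : ℤ, x * a * x⁻¹ = a ^ r → ∀ i : ℤ,
        (a ^ i * x) * (a ^ i * x) = a ^ (i + r * i + c) := fun r hr i => by
      rw [zpow_add, zpow_add, ← hactpow x r i hr, hc]
      group
    have notinv : ∀ i : ℤ, (a ^ i * x) * (a ^ i * x) ≠ 1 := by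
      intro i h
      rcases hsq _ h with e | e
      · exact hx (by rw [eq_inv_of_mul_eq_one_right e]; exact inv_mem ⟨i, rfl⟩)
      · refine hx ?_
        rw [show x = (a ^ i)⁻¹ * z by rw [← e, inv_mul_cancel_left]]
        exact mul_mem (inv_mem ⟨i, rfl⟩) (pow_mem haA _)
    have caseInv : x * a * x⁻¹ = a⁻¹ → x * a * x⁻¹ = a⁻¹ ∧ x * x = z := by
      intro hxa
      refine ⟨hxa, ?_⟩
      have h := hfix (-1) (by rw [hxa, zpow_neg_one])
      rcases hsq (a ^ c) (by
        rw [← zpow_add, ← zpow_zero a]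
        refine (hmod _ _).2 ?_
        rw [show (0 : ℤ) - (c + c) = -(c - -1 * c) by ring]
        exact dvd_neg.2 h) with e | e
      · exfalso
        refine notinv 0 ?_
        rw [zpow_zero, one_mul, ← hc, e]
      · rw [← hc, e]
    obtain ⟨r, hr⟩ := hact x
    have hr2 : (2 : ℤ) ^ k ∣ r * r - 1 := by
      refine (hmod 1 (r * r)).1 ?_
      rw [← hactpow x r r hr, ← hr, zpow_one]
      have h1 : Commute (x * x) a := by rw [← hc]; exact Commute.zpow_self a c
      have h2 : x * (x * a * x⁻¹) * x⁻¹ = x * x * a * (x * x)⁻¹ := by group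
      rw [h2, h1.eq, mul_inv_cancel_right]
    have hodd : Odd r := by
      have h2 : (2 : ℤ) ∣ r * r - 1 := (dvd_pow_self 2 hk0).trans hr2
      rcases Int.even_or_odd r with ⟨s, rfl⟩ | h
      · exfalso
        have h3 : (s + s) * (s + s) = 2 * (2 * (s * s)) := by ring
        omega
      · exact h
    obtain ⟨s, rfl⟩ := hodd
    have h4 : Q ∣ s * (s + 1) := by
      rw [h2H, hHQ, show (2 * s + 1) * (2 * s + 1) - 1 = 4 * (s * (s + 1)) by ring,
        show 2 * (2 * Q) = 4 * Q by ring] at hr2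
      exact (mul_dvd_mul_iff_left (by norm_num)).1 hr2
    have hs : H ∣ 2 * s ∨ H ∣ 2 * s + 2 := by
      rw [hHQ]
      rcases Int.even_or_odd s with he | ho
      · left
        have : IsCoprime Q (s + 1) := by
          rw [hQ]
          refine IsCoprime.pow_left ?_
          obtain ⟨t, rfl⟩ := he
          exact ⟨-t, 1, by ring⟩
        exact mul_dvd_mul_left 2 (this.dvd_of_dvd_mul_right h4)
      · right
        have : IsCoprime Q s := by
          rw [hQ]
          refine IsCoprime.pow_left ?_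
          obtain ⟨t, rfl⟩ := ho
          exact ⟨-t, 1, by ring⟩
        rw [show 2 * s + 2 = 2 * (s + 1) by ring]
        exact mul_dvd_mul_left 2 (this.dvd_of_dvd_mul_left h4)
    -- replace r by a residue modulo 2 ^ k
    have hrep : ∀ r' : ℤ, 2 * H ∣ r' - (2 * s + 1) → x * a * x⁻¹ = a ^ r' := fun r' h => by
      rw [hr, hmod, h2H]; exact h
    rcases hs with ⟨q, hq⟩ | ⟨q, hq⟩ <;> rcases Int.even_or_odd q with ⟨q', rfl⟩ | ⟨q', rfl⟩
    · refine absurd (hcomm x ?_) hx
      rw [hrep 1 ⟨-q', by linear_combination -hq⟩, zpow_one]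
    · -- x a x⁻¹ = a ^ (1 + H)
      have hA := hrep (1 + H) ⟨-q', by linear_combination -hq⟩
      by_cases hk3 : k = 2
      · refine caseInv ((hrep (-1) ⟨-(q' + 1), ?_⟩).trans (zpow_neg_one a))
        have : H = 2 := by rw [hH, hk3]; norm_num
        subst this
        omega
      · exfalso
        obtain ⟨d, hd⟩ := hfix _ hA
        obtain ⟨e, he⟩ : Even Q := by rw [hQ]; exact Int.even_pow.2 ⟨even_two, by omega⟩
        obtain ⟨j, rfl⟩ : ∃ j, c = 2 * j := by
          refine ⟨-d, mul_left_cancel₀ hH0 ?_⟩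
          rw [h2H] at hd
          linear_combination -hd
        rcases Int.even_or_odd j with ⟨t, ht⟩ | ⟨t, ht⟩
        · refine notinv (-j) ?_
          rw [hsqi _ hA, ← zpow_zero a, hmod, h2H, hHQ]
          exact ⟨t, by linear_combination 2 * Q * ht⟩
        · refine notinv (-j + Q) ?_
          rw [hsqi _ hA, ← zpow_zero a, hmod, h2H, hHQ]
          exact ⟨t - e, by linear_combination 2 * Q * ht - 2 * Q * he⟩
    · exact caseInv ((hrep (-1) ⟨-q', by linear_combination -hq⟩).trans (zpow_neg_one a))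
    · -- x a x⁻¹ = a ^ (-1 + H)
      have hA := hrep (-1 + H) ⟨-q', by linear_combination -hq⟩
      exfalso
      by_cases hk3 : k = 2
      · refine hx (hcomm x ?_)
        have : H = 2 := by rw [hH, hk3]; norm_num
        subst this
        rw [hrep 1 ⟨-q', by omega⟩, zpow_one]
      · obtain ⟨d, hd⟩ := hfix _ hA
        rw [h2H, hHQ] at hd
        obtain ⟨e, he⟩ : Even Q := by rw [hQ]; exact Int.even_pow.2 ⟨even_two, by omega⟩
        have h5 : c - Q * c = 2 * Q * d := mul_left_cancel₀ (two_ne_zero (α := ℤ))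
          (by linear_combination hd)
        obtain ⟨c₁, hc₁⟩ : Q ∣ c := ⟨c + 2 * d, by linear_combination h5⟩
        obtain ⟨d', hd'⟩ : (2 : ℤ) ∣ c₁ := by
          refine ⟨e * c₁ + d, mul_left_cancel₀ hQ0 ?_⟩
          rw [hc₁] at h5
          linear_combination h5 + Q * c₁ * he
        refine notinv (-d') ?_
        rw [hsqi _ hA, ← zpow_zero a, hmod, h2H]
        refine ⟨0, ?_⟩
        rw [hHQ, hc₁, hd']
        ring
  have hall : ∀ (n : ℕ) (x : P), x ^ 2 ^ n ∈ Subgroup.zpowers a → x ∉ Subgroup.zpowers a →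
      x * x ∈ Subgroup.zpowers a := by
    intro n
    induction n with
    | zero => intro x h h'; simp at h; exact absurd h h'
    | succ n ih =>
      intro x h _
      rw [pow_succ', pow_mul, pow_two] at h
      by_contra hxx
      obtain ⟨h1, -⟩ := main _ hxx (ih _ h hxx)
      obtain ⟨r, hr⟩ := hact x
      have h2 : a ^ (r * r) = a⁻¹ := by
        rw [← hactpow x r r hr, ← hr, ← h1]; group
      rw [← zpow_neg_one] at h2
      have h3 : (4 : ℤ) ∣ r * r + 1 := by
        have := (show ((2 : ℤ) ^ 2) ∣ 2 ^ k from pow_dvd_pow 2 hk2).trans ((hmod _ _).1 h2.symm)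
        simpa using this
      rcases Int.even_or_odd r with ⟨t, rfl⟩ | ⟨t, rfl⟩
      · rw [show (t + t) * (t + t) + 1 = 4 * (t * t) + 1 by ring] at h3; omega
      · rw [show (2 * t + 1) * (2 * t + 1) + 1 = 4 * (t * t + t) + 2 by ring] at h3; omega
  have hout : ∀ x : P, x ∉ Subgroup.zpowers a → x * a * x⁻¹ = a⁻¹ ∧ x * x = z := fun x hx => by
    obtain ⟨n, hn⟩ := hP x
    obtain ⟨h1, h2⟩ := main x hx (hall n x (hn ▸ one_mem _) hx)
    exact ⟨h1, h2⟩
  refine ⟨a, k, hk2, hk, Subgroup.index_eq_two_iff.2 ⟨x₀, fun y => ?_⟩, hout⟩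
  by_cases hy : y ∈ Subgroup.zpowers a
  · exact Or.inr ⟨hy, fun h => hx₀ ((Subgroup.mul_mem_cancel_left _ hy).1 h)⟩
  · refine Or.inl ⟨hcomm _ ?_, hy⟩
    calc y * x₀ * a * (y * x₀)⁻¹ = y * (x₀ * a * x₀⁻¹) * y⁻¹ := by group
      _ = (y * a * y⁻¹)⁻¹ := by rw [(hout x₀ hx₀).1]; group
      _ = a := by rw [(hout y hy).1, inv_inv]

end Cfsg.Agent.Invol
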