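import Mathlib.GroupTheory.Sylow
import Mathlib.GroupTheory.Nilpotent
import Mathlib.Data.Set.Card
import Mathlib.Data.Finite.Prod
import Cfsg.Agent.Invol.Pair

/-!
The Baer–Suzuki theorem.
-/

set_option autoImplicit false

namespace Cfsg.Agent.Invol

open Pointwise

variable {G : Type*} [Group G]

theorem mem_normalizer_of_conj_le [Finite G] {H : Subgroup G} {g : G}
    (h : H.map (MulAut.conj g).toMonoidHom ≤ H) : g ∈ Subgroup.normalizer (H : Set G) := by
  refine Subgroup.mem_normalizer_iff_map_conj_eq.2 (Subgroup.eq_of_le_of_card_ge h ?_)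
  rw [Subgroup.card_map_of_injective (MulAut.conj g).injective]

variable [Finite G] {p : ℕ} [Fact p.Prime]

/-- In a Sylow subgroup `P`, if `D` is a proper subset of a `P`-invariant set `S` of subgroups of `P`,
some member of `S` outside `D` normalises the join of `D`. -/
theorem exists_normalizing_outside (P : Sylow p G) {S D : Set (Subgroup G)}
    (hS : ∀ Y ∈ S, Y ≤ (P : Subgroup G))
    (hinv : ∀ Y ∈ S, ∀ x ∈ (P : Subgroup G), Y.map (MulAut.conj x).toMonoidHom ∈ S)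
    (hD : D ⊆ S) (hne : D ≠ S) :
    ∃ Y ∈ S, Y ∉ D ∧ Y ≤ Subgroup.normalizer ((sSup D : Subgroup G) : Set G) := by
  set U := sSup D with hU
  have hUP : U ≤ (P : Subgroup G) := sSup_le fun Y hY => hS Y (hD hY)
  obtain ⟨Y₀, hY₀S, hY₀D⟩ : ∃ Y, Y ∈ S ∧ Y ∉ D := by
    by_contra h
    push Not at h
    exact hne (Set.Subset.antisymm hD h)
  by_contra hcon
  push Not at hcon
  set T := (P : Subgroup G) ⊓ Subgroup.normalizer (U : Set G) with hT
  have hDT : ∀ Y ∈ D, Y ≤ T := fun Y hY =>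
    le_inf (hS Y (hD hY)) ((le_sSup hY).trans Subgroup.le_normalizer)
  have hTP : T < (P : Subgroup G) := by
    refine lt_of_le_of_ne inf_le_left fun h => hcon Y₀ hY₀S hY₀D ?_
    exact (hS Y₀ hY₀S).trans (inf_eq_left.1 h)
  have hnil : Group.IsNilpotent (P : Subgroup G) := P.2.isNilpotent
  have hlt : T.subgroupOf (P : Subgroup G) < ⊤ := by
    rw [lt_top_iff_ne_top, ne_eq, Subgroup.subgroupOf_eq_top]
    exact fun h => hTP.ne (le_antisymm hTP.le h)
  obtain ⟨x, hxN, hxT⟩ := SetLike.exists_of_lt (Group.normalizerCondition_of_isNilpotent _ hlt)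
  rw [← Subgroup.subgroupOf_normalizer_eq hTP.le, Subgroup.mem_subgroupOf] at hxN
  rw [Subgroup.mem_subgroupOf] at hxT
  have hxU : (x : G) ∈ Subgroup.normalizer (U : Set G) := by
    apply mem_normalizer_of_conj_le
    rw [Subgroup.map_le_iff_le_comap]
    refine sSup_le fun Y hY => ?_
    rw [← Subgroup.map_le_iff_le_comap]
    set Z := Y.map (MulAut.conj (x : G)).toMonoidHom
    have hZS : Z ∈ S := hinv Y (hD hY) x x.2
    have hZT : Z ≤ T := (Subgroup.map_mono (hDT Y hY)).trans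
      (Subgroup.mem_normalizer_iff_map_conj_eq.1 hxN).le
    by_cases hZD : Z ∈ D
    · exact le_sSup hZD
    · exact absurd (hZT.trans inf_le_right) (hcon Z hZS hZD)
  exact hxT ⟨x.2, hxU⟩

theorem isPGroup_sup_of_le_normalizer {H K : Subgroup G} (hH : IsPGroup p H) (hK : IsPGroup p K)
    (h : H ≤ Subgroup.normalizer (K : Set G)) : IsPGroup p ↥(H ⊔ K) :=
  hH.to_sup_of_normal_right' hK h

/-- **Baer–Suzuki**: if a `p`-subgroup generates a `p`-group with each of its conjugates, then it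
lies in a normal `p`-subgroup. -/
theorem baerSuzuki (X : Subgroup G) (hX : IsPGroup p X)
    (h : ∀ g : G, IsPGroup p ↥(X ⊔ X.map (MulAut.conj g).toMonoidHom)) :
    ∃ N : Subgroup G, N.Normal ∧ IsPGroup p N ∧ X ≤ N := by
  let 𝒳 : Set (Subgroup G) := Set.range fun g : G => X.map (MulAut.conj g).toMonoidHom
  have hcomp : ∀ a b : G, (X.map (MulAut.conj b).toMonoidHom).map (MulAut.conj a).toMonoidHom
      = X.map (MulAut.conj (a * b)).toMonoidHom := fun a b => by
    rw [Subgroup.map_map]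
    congr 1
    ext y
    simp [mul_assoc]
  have hclosed : ∀ Y ∈ 𝒳, ∀ a : G, Y.map (MulAut.conj a).toMonoidHom ∈ 𝒳 := by
    rintro _ ⟨b, rfl⟩ a
    exact ⟨a * b, (hcomp a b).symm⟩
  have hpair : ∀ Y ∈ 𝒳, ∀ Z ∈ 𝒳, IsPGroup p ↥(Y ⊔ Z) := by
    rintro _ ⟨a, rfl⟩ _ ⟨b, rfl⟩
    have h1 := (h (a⁻¹ * b)).map (MulAut.conj a).toMonoidHom
    rwa [Subgroup.map_sup, hcomp, mul_inv_cancel_left] at h1
  let S : Sylow p G → Set (Subgroup G) := fun P => {Y ∈ 𝒳 | Y ≤ (P : Subgroup G)}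
  have hinv : ∀ P : Sylow p G, ∀ Y ∈ S P, ∀ x ∈ (P : Subgroup G),
      Y.map (MulAut.conj x).toMonoidHom ∈ S P := by
    intro P Y hY x hx
    refine ⟨hclosed Y hY.1 x, ?_⟩
    rintro _ ⟨y, hy, rfl⟩
    exact mul_mem (mul_mem hx (hY.2 hy)) (inv_mem hx)
  have hcard : ∀ P Q : Sylow p G, (S P).ncard ≤ (S Q).ncard := by
    intro P Q
    obtain ⟨g, rfl⟩ := MulAction.exists_smul_eq G P Q
    refine Set.ncard_le_ncard_of_injOn (fun Y => Y.map (MulAut.conj g).toMonoidHom) ?_ ?_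
      (Set.toFinite _)
    · intro Y hY
      refine ⟨hclosed Y hY.1 g, ?_⟩
      rw [Sylow.coe_subgroup_smul]
      exact Subgroup.map_mono hY.2
    · intro Y _ Z _ he
      exact Subgroup.map_injective (MulAut.conj g).injective he
  have key : ∀ P Q : Sylow p G, S P = S Q := by
    by_contra hne
    push Not at hne
    obtain ⟨P₀, Q₀, hne₀⟩ := hne
    have : Nonempty {pq : Sylow p G × Sylow p G // S pq.1 ≠ S pq.2} := ⟨⟨(P₀, Q₀), hne₀⟩⟩
    obtain ⟨⟨⟨P, Q⟩, hPQ⟩, hmax⟩ :=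
      Finite.exists_max (fun pq : {pq : Sylow p G × Sylow p G // S pq.1 ≠ S pq.2} =>
        (S pq.1.1 ∩ S pq.1.2).ncard)
    set D := S P ∩ S Q with hD
    obtain ⟨Y, hYS, hYD, hYN⟩ := exists_normalizing_outside P (fun Y hY => hY.2) (hinv P)
      (D := D) Set.inter_subset_left (fun he => hPQ
        (Set.eq_of_subset_of_ncard_le (Set.inter_eq_left.1 he) (hcard Q P) (Set.toFinite _)))
    obtain ⟨Z, hZS, hZD, hZN⟩ := exists_normalizing_outside Q (fun Y hY => hY.2) (hinv Q)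
      (D := D) Set.inter_subset_right (fun he => hPQ
        (Set.eq_of_subset_of_ncard_le (Set.inter_eq_right.1 he) (hcard P Q) (Set.toFinite _)).symm)
    have hUp : IsPGroup p ↥(sSup D) := P.2.to_le (sSup_le fun W hW => hW.1.2)
    have hM : IsPGroup p ↥((Y ⊔ Z) ⊔ sSup D) :=
      isPGroup_sup_of_le_normalizer (hpair Y hYS.1 Z hZS.1) hUp (sup_le hYN hZN)
    obtain ⟨R, hR⟩ := hM.exists_le_sylow
    have hDR : D ⊆ S R := fun W hW => ⟨hW.1.1, ((le_sSup hW).trans le_sup_right).trans hR⟩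
    have hYR : Y ∈ S R := ⟨hYS.1, (le_sup_left.trans le_sup_left).trans hR⟩
    have hZR : Z ∈ S R := ⟨hZS.1, (le_sup_right.trans le_sup_left).trans hR⟩
    have hbigger : ∀ (A : Sylow p G) (W : Subgroup G), W ∉ D → W ∈ S A → W ∈ S R → D ⊆ S A →
        S A = S R := by
      intro A W hWD hWA hWR hDA
      by_contra hAR
      have h1 := hmax ⟨(A, R), hAR⟩
      have hlt : D.ncard < (S A ∩ S R).ncard :=
        Set.ncard_lt_ncard ⟨Set.subset_inter hDA hDR, fun hsub => hWD (hsub ⟨hWA, hWR⟩)⟩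
          (Set.toFinite _)
      exact absurd h1 (not_le.2 hlt)
    exact hPQ ((hbigger P Y hYD hYS hYR Set.inter_subset_left).trans
      (hbigger Q Z hZD hZS hZR Set.inter_subset_right).symm)
  obtain ⟨P, hP⟩ := hX.exists_le_sylow
  have hall : ∀ Y ∈ 𝒳, Y ≤ (P : Subgroup G) := by
    intro Y hY
    obtain ⟨g, rfl⟩ := hY
    obtain ⟨Q, hQ⟩ := (hX.map (MulAut.conj g).toMonoidHom).exists_le_sylow
    have : X.map (MulAut.conj g).toMonoidHom ∈ S Q := ⟨⟨g, rfl⟩, hQ⟩
    rw [key Q P] at this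
    exact this.2
  refine ⟨sSup 𝒳, ?_, P.2.to_le (sSup_le hall), le_sSup_of_le ⟨1, rfl⟩ ?_⟩
  · refine ⟨fun x hx g => ?_⟩
    have hle : sSup 𝒳 ≤ (sSup 𝒳).comap (MulAut.conj g).toMonoidHom := sSup_le fun Y hY => by
      rw [← Subgroup.map_le_iff_le_comap]
      exact le_sSup (hclosed Y hY g)
    exact hle hx
  · intro y hy
    exact ⟨y, hy, by simp⟩

omit [Fact p.Prime] in
/-- An involution outside all normal `2`-subgroups inverts a nontrivial element of odd order. -/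
theorem exists_inverted_odd [Fact (Nat.Prime 2)] {t : G} (ht : orderOf t = 2)
    (hO : ∀ N : Subgroup G, N.Normal → IsPGroup 2 N → t ∉ N) :
    ∃ (g h : G), h ≠ 1 ∧ Odd (orderOf h) ∧ t * h * t⁻¹ = h⁻¹ ∧
      h ∈ Subgroup.zpowers (t * (g * t * g⁻¹)) := by
  obtain ⟨g, hg⟩ : ∃ g : G, ∀ k : ℕ, orderOf (t * (g * t * g⁻¹)) ≠ 2 ^ k := by
    by_contra hcon
    push Not at hcon
    have hX : IsPGroup 2 (Subgroup.zpowers t) :=
      IsPGroup.of_card (n := 1) (by rw [Nat.card_zpowers, ht, pow_one])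
    obtain ⟨N, hN, hNp, hle⟩ := baerSuzuki (Subgroup.zpowers t) hX fun g => by
      obtain ⟨k, hk⟩ := hcon g
      have hv : orderOf (g * t * g⁻¹) = 2 := (orderOf_conj g t).trans ht
      refine IsPGroup.to_le ?_ (K := Subgroup.closure ({t, g * t * g⁻¹} : Set G)) ?_
      · intro w
        refine ⟨k + 1, ?_⟩
        apply Subtype.ext
        rw [SubmonoidClass.coe_pow, OneMemClass.coe_one]
        obtain ⟨j, hj | hj⟩ := closure_mem ht hv w.2
        · rw [hj, ← zpow_natCast, ← zpow_mul, mul_comm j, zpow_mul, zpow_natCast, pow_succ, pow_mul,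
            ← hk, pow_orderOf_eq_one, one_pow, one_zpow]
        · rw [hj, pow_succ', pow_mul, pow_two, sq_self_mul_zpow ht hv, one_pow]
      · rw [MonoidHom.map_zpowers, sup_le_iff, Subgroup.zpowers_le, Subgroup.zpowers_le]
        exact ⟨self_mem_closure, other_mem_closure⟩
    exact hO N hN hNp (hle (Subgroup.mem_zpowers t))
  set v := g * t * g⁻¹ with hv
  have hv2 : orderOf v = 2 := (orderOf_conj g t).trans ht
  obtain ⟨k, m, hm, hd⟩ := Nat.exists_eq_pow_mul_and_not_dvd (orderOf_pos (t * v)).ne' 2 (by decide)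
  refine ⟨g, (t * v) ^ 2 ^ k, ?_, ?_, ?_, Subgroup.npow_mem_zpowers _ _⟩
  · intro h1
    obtain ⟨i, -, hi⟩ := (Nat.dvd_prime_pow Nat.prime_two).1 (orderOf_dvd_of_pow_eq_one h1)
    exact hg i hi
  · rw [orderOf_pow_of_dvd (by positivity) ⟨m, hd⟩, hd, Nat.mul_div_cancel_left _ (by positivity)]
    exact Nat.odd_iff.2 (by omega)
  · rw [← zpow_natCast, conj_zpow_self ht hv2, zpow_neg]

end Cfsg.Agent.Invol
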