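import Cfsg.Agent.Char.Linear
import Cfsg.Agent.CharArith.Basic
import Cfsg.Agent.Invol.Isolated
import Mathlib.RingTheory.IntegralDomain

/-!
Inducing `1 - μ` from a subgroup whose section `{μ ≠ 1}` is a trivial-intersection set, small norm
decompositions, and the class multiplication identity at an isolated involution.
-/

set_option autoImplicit false

namespace Cfsg.Agent.Invol

open Cfsg.Agent
open scoped ComplexConjugate

universe u

variable {G : Type u} [Group G] [Fintype G]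

/-- `K` has index two in `N`, `N` acts on `μ` by inversion outside `K`, and conjugation mapping
a point of `{μ ≠ 1}` to another lies in `N`. -/
structure SectionData (K : Subgroup G) (μ : K →* ℂˣ) (N : Subgroup G) : Prop where
  le : K ≤ N
  card : Nat.card N = 2 * Nat.card K
  ti : ∀ (x : K), μ x ≠ 1 → ∀ (g : G) (h : g * (x : G) * g⁻¹ ∈ K), μ ⟨_, h⟩ ≠ 1 → g ∈ N
  act : ∀ g ∈ N, ∀ x : K, ∃ h : g * (x : G) * g⁻¹ ∈ K,
    (g ∈ K → μ ⟨_, h⟩ = μ x) ∧ (g ∉ K → μ ⟨_, h⟩ = (μ x)⁻¹)

/-- the induced function -/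
noncomputable def secInd (K : Subgroup G) (μ : K →* ℂˣ) : G → ℂ :=
  Cfsg.indFun K fun x => 1 - (μ x : ℂ)

theorem isGeneralized_secInd (K : Subgroup G) (μ : K →* ℂˣ) :
    Cfsg.IsGeneralizedCharacter G (secInd K μ) := by
  have : Fintype K := Fintype.ofFinite K
  exact Char.isGeneralized_indFun K ⟨_, _, Char.isCharacter_one, Char.isCharacter_hom μ, rfl⟩

theorem secInd_eq_zero (K : Subgroup G) (μ : K →* ℂˣ) {g : G}
    (h : ∀ (x : G) (hx : x * g * x⁻¹ ∈ K), μ ⟨_, hx⟩ = 1) : secInd K μ g = 0 := by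
  rw [secInd, Char.indFun_apply]
  refine mul_eq_zero_of_right _ (Finset.sum_eq_zero fun x _ => ?_)
  by_cases hx : x⁻¹ * g * x ∈ K
  · rw [Char.extendByZero_of_mem K _ hx]
    have h' := h x⁻¹ (by simpa using hx)
    simp only [inv_inv] at h'
    rw [h']
    simp
  · rw [Char.extendByZero_of_not_mem K _ hx]

theorem sum_hom_coe {K : Type*} [Group K] [Fintype K] (μ : K →* ℂˣ) (h : μ ≠ 1) :
    ∑ x, (μ x : ℂ) = 0 := by
  refine sum_hom_units_eq_zero ((Units.coeHom ℂ).comp μ) fun e => h ?_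
  ext x
  simpa using DFunLike.congr_fun e x

variable {K : Subgroup G} {μ : K →* ℂˣ} {N : Subgroup G}

theorem SectionData.secInd_eq (hd : SectionData K μ N) {x : K} (hx : μ x ≠ 1) :
    secInd K μ (x : G) = 2 - (μ x : ℂ) - (μ x : ℂ)⁻¹ := by
  classical
  have hterm : ∀ g : G, Cfsg.extendByZero K (fun y => 1 - (μ y : ℂ)) (g⁻¹ * (x : G) * g) =
      (if g ∈ K then 1 - (μ x : ℂ) else 0) +
        (if g ∈ N ∧ g ∉ K then 1 - (μ x : ℂ)⁻¹ else 0) := by
    intro g
    by_cases hgN : g ∈ N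
    · obtain ⟨h, h1, h2⟩ := hd.act g⁻¹ (inv_mem hgN) x
      simp only [inv_inv] at h h1 h2
      rw [Char.extendByZero_of_mem K _ h]
      by_cases hgK : g ∈ K
      · rw [h1 (inv_mem hgK)]; simp [hgK]
      · rw [h2 fun e => hgK (inv_mem_iff.1 e)]; simp [hgK, hgN]
    · have hgK : g ∉ K := fun e => hgN (hd.le e)
      simp only [hgN, hgK, false_and, if_false, add_zero]
      by_cases h : g⁻¹ * (x : G) * g ∈ K
      · rw [Char.extendByZero_of_mem K _ h]
        by_contra hne
        have h' : g⁻¹ * (x : G) * g⁻¹⁻¹ ∈ K := by rwa [inv_inv]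
        refine hgN (inv_mem_iff.1 (hd.ti x hx g⁻¹ h' fun e => hne ?_))
        simp only [inv_inv] at e
        rw [e]
        simp
      · exact Char.extendByZero_of_not_mem K _ h
  rw [secInd, Char.indFun_apply, Finset.sum_congr rfl fun g _ => hterm g, Finset.sum_add_distrib,
    Finset.sum_ite, Finset.sum_ite]
  simp only [Finset.sum_const, nsmul_eq_mul, mul_zero, add_zero]
  have c1 : (Finset.univ.filter fun g : G => g ∈ K).card = Nat.card K := by
    rw [Nat.card_eq_fintype_card, Fintype.card_subtype]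
  have c2 : (Finset.univ.filter fun g : G => g ∈ N ∧ g ∉ K).card = Nat.card K := by
    have : (Finset.univ.filter fun g : G => g ∈ N ∧ g ∉ K) =
        (Finset.univ.filter fun g : G => g ∈ N) \ (Finset.univ.filter fun g : G => g ∈ K) := by
      ext g; simp
    rw [this, Finset.card_sdiff_of_subset (fun g hg => by simp at hg ⊢; exact hd.le hg), c1]
    have e : (Finset.univ.filter fun g : G => g ∈ N).card = Nat.card N := by
      rw [Nat.card_eq_fintype_card, Fintype.card_subtype]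
    rw [e, hd.card]; omega
  rw [c1, c2]
  have h0 : (Nat.card K : ℂ) ≠ 0 := Nat.cast_ne_zero.2 Nat.card_pos.ne'
  field_simp
  ring

theorem classInner_secInd_one (hμ : μ ≠ 1) :
    Cfsg.classInner (secInd K μ) (fun _ => (1 : ℂ)) = 1 := by
  have : Fintype K := Fintype.ofFinite K
  rw [secInd, Char.classInner_indFun_left K _ (fun _ _ => rfl)]
  simp [Cfsg.classInner, Finset.sum_sub_distrib, sum_hom_coe μ hμ]

theorem SectionData.classInner_self (hd : SectionData K μ N) (hμ : μ ≠ 1) :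
    (μ * μ ≠ 1 → Cfsg.classInner (secInd K μ) (secInd K μ) = 3) ∧
      (μ * μ = 1 → Cfsg.classInner (secInd K μ) (secInd K μ) = 4) := by
  have : Fintype K := Fintype.ofFinite K
  have hconj : ∀ x : K, conj (μ x : ℂ) = (μ x : ℂ)⁻¹ := fun x => by
    have hc := Char.IsChar.inv_eq_conj (Char.isCharacter_hom μ) x
    simp only [map_inv, Units.val_inv_eq_inv_val] at hc
    exact hc.symm
  have key : ∀ x : K, (1 - (μ x : ℂ)) * conj (secInd K μ (x : G)) =
      3 - 3 * (μ x : ℂ) - ((μ⁻¹) x : ℂ) + ((μ * μ) x : ℂ) := by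
    intro x
    have h0 : (μ x : ℂ) ≠ 0 := Units.ne_zero _
    simp only [MonoidHom.inv_apply, MonoidHom.mul_apply, Units.val_inv_eq_inv_val, Units.val_mul]
    by_cases hx : μ x = 1
    · rw [hx]; simp
    · rw [hd.secInd_eq hx]
      simp only [map_sub, map_ofNat, map_inv₀, hconj, inv_inv]
      field_simp
      ring
  have hinv : μ⁻¹ ≠ 1 := fun e => hμ (MonoidHom.ext fun x => by simpa using DFunLike.congr_fun e x)
  have h1 : Cfsg.classInner (secInd K μ) (secInd K μ) =
      3 + (Nat.card K : ℂ)⁻¹ * ∑ x : K, ((μ * μ) x : ℂ) := by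
    conv_lhs => arg 1; rw [secInd]
    rw [Char.classInner_indFun_left K _ (χ := secInd K μ) (Char.isClassFunction_indFun K _),
      Cfsg.classInner]
    simp only [key]
    simp only [Finset.sum_add_distrib, Finset.sum_sub_distrib, ← Finset.mul_sum, sum_hom_coe μ hμ,
      sum_hom_coe _ hinv, mul_zero, sub_zero, Finset.sum_const, Finset.card_univ, nsmul_eq_mul,
      ← Nat.card_eq_fintype_card]
    rw [mul_add, inv_mul_cancel_left₀ (Nat.cast_ne_zero.2 Nat.card_pos.ne')]
  refine ⟨fun h => ?_, fun h => ?_⟩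
  · rw [h1, sum_hom_coe _ h, mul_zero, add_zero]
  · rw [h1, h]
    simp only [MonoidHom.one_apply, Units.val_one, Finset.sum_const, Finset.card_univ,
      nsmul_eq_mul, mul_one, ← Nat.card_eq_fintype_card]
    rw [inv_mul_cancel₀ (Nat.cast_ne_zero.2 Nat.card_pos.ne')]
    norm_num

/-- A generalized character of small norm with multiplicity one at the trivial character. -/
theorem exists_signed_support {F : G → ℂ} (hF : Cfsg.IsGeneralizedCharacter G F) {n : ℕ}
    (hn : n ≤ 4) (h1 : Cfsg.classInner F (fun _ => (1 : ℂ)) = 1)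
    (hnorm : Cfsg.classInner F F = (n : ℂ)) :
    ∃ (S : Finset (Cfsg.IrrCharacter G)) (s : Cfsg.IrrCharacter G → ℂ), S.card + 1 = n ∧
      (∀ χ ∈ S, (χ : G → ℂ) ≠ (fun _ => 1) ∧ (s χ = 1 ∨ s χ = -1)) ∧
      (∀ χ : Cfsg.IrrCharacter G, (χ : G → ℂ) ≠ (fun _ => 1) → χ ∉ S →
        Cfsg.classInner F (χ : G → ℂ) = 0) ∧
      (∀ χ ∈ S, Cfsg.classInner F (χ : G → ℂ) = s χ) ∧
      ∀ f : Cfsg.IrrCharacter G → ℂ,
        ∑ χ : Cfsg.IrrCharacter G, Cfsg.classInner F (χ : G → ℂ) * f χ =
          f ⟨fun _ => 1, Char.isIrrCharacter_one⟩ + ∑ χ ∈ S, s χ * f χ := by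
  classical
  obtain ⟨m, hm, -, hsum⟩ := Char.IsGen.exists_mult hF
  let o : Cfsg.IrrCharacter G := ⟨fun _ => 1, Char.isIrrCharacter_one⟩
  have ho : m o = 1 := by
    have := hm o
    rw [h1] at this
    exact_mod_cast this.symm
  rw [hnorm] at hsum
  have hs : (∑ ψ, m ψ ^ 2) = (n : ℤ) := by exact_mod_cast hsum.symm
  rw [← Finset.add_sum_erase _ _ (Finset.mem_univ o), ho] at hs
  set R := (Finset.univ : Finset (Cfsg.IrrCharacter G)).erase o with hR
  have hab : ∀ χ ∈ R, m χ = 0 ∨ m χ = 1 ∨ m χ = -1 := by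
    intro χ hχ
    have h2 := Finset.single_le_sum (f := fun i => m i ^ 2) (fun i _ => sq_nonneg _) hχ
    have h3 : m χ ^ 2 ≤ 3 := by omega
    rcases lt_trichotomy (m χ) 0 with h | h | h
    · right; right
      by_contra hne
      have h4 : 2 * 2 ≤ (-m χ) * (-m χ) :=
        mul_le_mul (by omega) (by omega) (by norm_num) (by omega)
      rw [neg_mul_neg] at h4
      rw [pow_two] at h3
      omega
    · exact Or.inl h
    · right; left
      by_contra hne
      have h4 : 2 * 2 ≤ m χ * m χ :=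
        mul_le_mul (by omega) (by omega) (by norm_num) (by omega)
      rw [pow_two] at h3
      omega
  refine ⟨R.filter fun χ => m χ ≠ 0, fun χ => (m χ : ℂ), ?_, ?_, ?_, fun χ _ => hm χ, fun f => ?_⟩
  · have : ∀ χ ∈ R, m χ ^ 2 = if m χ ≠ 0 then 1 else 0 := fun χ hχ => by
      rcases hab χ hχ with h | h | h <;> simp [h]
    rw [Finset.sum_congr rfl this, Finset.sum_boole] at hs
    omega
  · intro χ hχ
    obtain ⟨h, h'⟩ := Finset.mem_filter.1 hχ
    refine ⟨fun e => (Finset.mem_erase.1 h).1 (Subtype.ext e), ?_⟩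
    rcases hab χ h with h2 | h2 | h2
    · exact absurd h2 h'
    · left; simp [h2]
    · right; simp [h2]
  · intro χ hne hχ
    rw [hm]
    have : χ ∈ R := Finset.mem_erase.2 ⟨fun e => hne (by rw [e]), Finset.mem_univ _⟩
    simp only [Finset.mem_filter, this, true_and, not_not] at hχ
    simp [hχ]
  · simp only [hm]
    rw [← Finset.add_sum_erase _ _ (Finset.mem_univ o), ho, Int.cast_one, one_mul]
    congr 1
    refine (Finset.sum_subset (Finset.filter_subset _ _) fun χ hχ hn' => ?_).symm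
    simp only [Finset.mem_filter, hχ, true_and, not_not] at hn'
    simp [hn']

/-- A class function is recovered from its multiplicities. -/
theorem apply_eq_sum {F : G → ℂ} (hF : Cfsg.IsClassFunction G F) (g : G) :
    ∑ χ : Cfsg.IrrCharacter G, Cfsg.classInner F (χ : G → ℂ) * (χ : G → ℂ) g = F g := by
  conv_rhs => rw [Char.classFun_expansion hF]
  simp [Finset.sum_apply]

/-- A class function vanishing at elements of odd order is orthogonal to
`χ ↦ χ(z)² / χ(1)` for an isolated involution `z`. -/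
theorem sum_mult_sq_eq_zero {F : G → ℂ} (hF : Cfsg.IsClassFunction G F)
    (h0 : ∀ g, Odd (orderOf g) → F g = 0) {z : G} (hz : Cfsg.IsIsolatedInvolution z) :
    ∑ χ : Cfsg.IrrCharacter G,
      Cfsg.classInner F (χ : G → ℂ) * ((χ : G → ℂ) z ^ 2 / (χ : G → ℂ) 1) = 0 := by
  have hG : (Nat.card G : ℂ) ≠ 0 := Char.card_ne_zero
  have e : ∀ χ : Cfsg.IrrCharacter G, (χ : G → ℂ) z ^ 2 / (χ : G → ℂ) 1 =
      (Nat.card G : ℂ)⁻¹ * ∑ a, (χ : G → ℂ) (a * z * a⁻¹ * z) := by
    intro χ
    have h := CharArith.classMult χ.2 z z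
    have h1 := Char.IsIrr.one_ne_zero χ.2
    field_simp
    linear_combination -h
  simp only [e, Finset.mul_sum]
  rw [Finset.sum_comm]
  refine Finset.sum_eq_zero fun a _ => ?_
  simp only [← mul_assoc, mul_comm _ (Nat.card G : ℂ)⁻¹]
  simp only [mul_assoc _ (Cfsg.classInner F _), ← Finset.mul_sum]
  rw [apply_eq_sum hF, h0 _ ?_, mul_zero]
  exact isolated_odd_orderOf_mul hz (isConj_iff.2 ⟨a, rfl⟩) (IsConj.refl z)

end Cfsg.Agent.Invol
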