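import Mathlib.GroupTheory.Sylow
import Mathlib.GroupTheory.Index
import Mathlib.GroupTheory.Perm.Cycle.Type
import Cfsg.Agent.HSub.Basic
import Cfsg.Agent.Invol.Pair

/-!
Automisers of order two or six, and conjugation of commutative subgroups that are unique in the
Sylow subgroup.
-/

set_option autoImplicit false

namespace Cfsg.Agent.Invol

open Subgroup

universe u

variable {G : Type u} [Group G] [Finite G]

/-- An odd order element fixing a 2-subgroup `Z` pointwise and every coset of it fixes everything. -/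
theorem odd_fix_of_series {n : G} (hn : ¬ 2 ∣ orderOf n) {Z : Subgroup G} (hZ : IsPGroup 2 Z)
    (hfix : ∀ c ∈ Z, n * c = c * n) {v : G} (hv : v⁻¹ * (n * v * n⁻¹) ∈ Z) : n * v = v * n := by
  set α := v⁻¹ * (n * v * n⁻¹) with hα
  have hα' : n * v * n⁻¹ = v * α := by rw [hα, mul_inv_cancel_left]
  have hiter : ∀ j : ℕ, n ^ j * v * (n ^ j)⁻¹ = v * α ^ j := by
    intro j
    induction j with
    | zero => simp
    | succ j ih =>
      have hc := hfix _ (pow_mem hv j)
      calc n ^ (j + 1) * v * (n ^ (j + 1))⁻¹ = n * (n ^ j * v * (n ^ j)⁻¹) * n⁻¹ := by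
            rw [pow_succ' n j]; group
        _ = n * v * n⁻¹ * (n * α ^ j * n⁻¹) := by rw [ih]; group
        _ = v * α * α ^ j := by rw [hc, mul_inv_cancel_right, hα']
        _ = v * α ^ (j + 1) := by rw [mul_assoc, ← pow_succ']
  have h1 := hiter (orderOf n)
  rw [pow_orderOf_eq_one, one_mul, inv_one, mul_one, left_eq_mul] at h1
  obtain ⟨j, hj⟩ := IsPGroup.iff_orderOf.1 hZ ⟨α, hv⟩
  rw [Subgroup.orderOf_mk] at hj
  rcases Nat.eq_zero_or_pos j with rfl | hpos
  · have hα1 : α = 1 := orderOf_eq_one_iff.1 (hj.trans (pow_zero 2))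
    rw [hα1, mul_one] at hα'
    exact mul_inv_eq_iff_eq_mul.1 hα'
  · exact absurd (((dvd_pow_self 2 hpos.ne').trans hj.symm.dvd).trans (orderOf_dvd_of_pow_eq_one h1)) hn

/-- An odd order element normalising a cyclic 2-group centralises it. -/
theorem odd_fix_cyclic {n : G} (hn : ¬ 2 ∣ orderOf n) {Z : Subgroup G} (hZ : IsPGroup 2 Z)
    (hc : IsCyclic Z) (hN : n ∈ normalizer (Z : Set G)) : ∀ c ∈ Z, n * c = c * n := fun c hcZ => by
  have : Fact (Nat.Prime 2) := ⟨Nat.prime_two⟩
  exact (mem_centralizer_iff.1 (HSub.centralizes_cyclic (p := 2)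
    ⟨((Nat.Prime.coprime_iff_not_dvd Nat.prime_two).2 hn).symm, Nat.coprime_one_right _⟩ hZ hc hN) c hcZ).symm

/-- A subgroup with an automiser of order two or six, according to the stabiliser of `C₁`. -/
theorem automiser_cases (V C₁ : Subgroup G) (hV : IsPGroup 2 V) (hCV : C₁ ≤ V)
    (hVC : V ≤ normalizer (C₁ : Set G))
    (hodd : ∀ n ∈ normalizer (V : Set G), n ∈ normalizer (C₁ : Set G) → ¬ 2 ∣ orderOf n →
      n ∈ centralizer (V : Set G))
    (hs : ∃ s ∈ normalizer (V : Set G), s ∈ normalizer (C₁ : Set G) ∧ s ∉ V ⊔ centralizer (V : Set G))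
    (hR : ∀ R : Subgroup G, IsPGroup 2 R → V ≤ R → R ≤ normalizer (V : Set G) →
      Nat.card R ≤ 2 * Nat.card V)
    (horb : ∃ T : Finset (Subgroup G), T.card ≤ 3 ∧
      ∀ n ∈ normalizer (V : Set G), C₁.map (MulAut.conj n).toMonoidHom ∈ T) :
    ((V ⊔ centralizer (V : Set G)).relIndex (normalizer (V : Set G)) = 2 ∧
        normalizer (V : Set G) ≤ normalizer (C₁ : Set G)) ∨
      ((V ⊔ centralizer (V : Set G)).relIndex (normalizer (V : Set G)) = 6 ∧
        ∃ n ∈ normalizer (V : Set G), ¬ 2 ∣ orderOf n ∧ n ∉ normalizer (C₁ : Set G)) := by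
  have : Fact (Nat.Prime 2) := ⟨Nat.prime_two⟩
  set N := normalizer (V : Set G) with hN
  set K := V ⊔ centralizer (V : Set G) with hK
  set N₁ := N ⊓ normalizer (C₁ : Set G) with hN₁
  have hCN : centralizer (V : Set G) ≤ normalizer (C₁ : Set G) :=
    (centralizer_le hCV).trans (centralizer_le_normalizer _)
  have hVN : V ≤ N := le_normalizer
  have hKN₁ : K ≤ N₁ := sup_le (le_inf hVN hVC) (le_inf (centralizer_le_normalizer _) hCN)
  have hN₁N : N₁ ≤ N := inf_le_left
  have hKN : K ≤ N := hKN₁.trans hN₁N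
  have hmul : K.relIndex N₁ * N₁.relIndex N = K.relIndex N := relIndex_mul_relIndex _ _ _ hKN₁ hN₁N
  -- the 2-part of the index
  have h4 : ¬ 4 ∣ K.relIndex N := by
    obtain ⟨R, hR'⟩ := (hV.comap_subtype (K := N)).exists_le_sylow
    have hVR : V ≤ (R : Subgroup N).map N.subtype := fun v hv => ⟨⟨v, hVN hv⟩, hR' hv, rfl⟩
    have hcR := hR _ (R.2.map _) hVR (map_subtype_le _)
    rw [card_map_of_injective N.subtype_injective] at hcR
    intro h4
    have h1 : 4 ∣ V.relIndex N := h4.trans (relIndex_dvd_of_le_left N (le_sup_left : V ≤ K))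
    have h2 : Nat.card V * V.relIndex N = Nat.card N := by
      rw [← relIndex_bot_left, relIndex_mul_relIndex _ _ _ bot_le hVN, relIndex_bot_left]
    obtain ⟨a, ha⟩ := IsPGroup.iff_card.1 hV
    obtain ⟨b, hb⟩ := IsPGroup.iff_card.1 R.2
    have h3 : 2 ^ (a + 2) ∣ Nat.card N := by
      rw [← h2, ha, pow_add]; exact Nat.mul_dvd_mul_left _ h1
    have h5 : 2 ^ (a + 2) ∣ Nat.card R := by
      rw [R.card_eq_multiplicity]
      exact Nat.pow_dvd_pow 2 ((Nat.prime_two.pow_dvd_iff_le_factorization Nat.card_pos.ne').1 h3)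
    have h6 := Nat.le_of_dvd Nat.card_pos h5
    rw [ha] at hcR
    rw [hb] at hcR h6
    rw [pow_add] at h6
    have := Nat.two_pow_pos a
    omega
  -- the index in the stabiliser
  have hK₁ : K.relIndex N₁ = 2 := by
    have hne : K.relIndex N₁ ≠ 1 := fun e => by
      obtain ⟨s, hsN, hsC, hsK⟩ := hs
      exact hsK (relIndex_eq_one.1 e ⟨hsN, hsC⟩)
    have hprime : ∀ q : ℕ, q.Prime → q ∣ K.relIndex N₁ → q = 2 := by
      intro q hq hqd
      by_contra hq2
      have := Fact.mk hq
      let P : Sylow q N₁ := default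
      refine P.not_dvd_index (hqd.trans (index_dvd_of_le fun t ht => ?_))
      refine mem_subgroupOf.2 (mem_sup_right (hodd t t.2.1 t.2.2 fun h2 => hq2 ?_))
      obtain ⟨j, hj⟩ := IsPGroup.iff_orderOf.1 P.2 ⟨t, ht⟩
      rw [Subgroup.orderOf_mk, ← Subgroup.orderOf_coe] at hj
      rw [hj] at h2
      exact ((Nat.prime_dvd_prime_iff_eq Nat.prime_two hq).1 (Nat.prime_two.dvd_of_dvd_pow h2)).symm
    have hne0 : K.relIndex N₁ ≠ 0 := index_ne_zero_of_finite
    obtain ⟨j, hj⟩ : ∃ j, K.relIndex N₁ = 2 ^ j :=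
      ⟨_, Nat.eq_prime_pow_of_unique_prime_dvd hne0 fun {d} hd hdd => hprime d hd hdd⟩
    rcases j with _ | _ | j
    · exact absurd hj hne
    · exact hj
    · exfalso
      exact h4 (hmul ▸ (Dvd.intro (2 ^ j) (by rw [hj]; ring)).mul_right _)
  have horb3 : N₁.relIndex N ≤ 3 := by
    obtain ⟨T, hT, hTm⟩ := horb
    let f : N ⧸ N₁.subgroupOf N → T := Quotient.lift
      (fun n : N => (⟨C₁.map (MulAut.conj (n : G)).toMonoidHom, hTm n n.2⟩ : T)) (fun a b hab => by
        have h := QuotientGroup.leftRel_apply.1 hab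
        rw [mem_subgroupOf] at h
        have h' := mem_normalizer_iff_map_conj_eq.1 h.2
        apply Subtype.ext
        show C₁.map (MulAut.conj (a : G)).toMonoidHom = C₁.map (MulAut.conj (b : G)).toMonoidHom
        conv_lhs => rw [← h']
        rw [Subgroup.map_map]
        congr 1
        ext x
        simp [mul_assoc])
    have hf : Function.Injective f := by
      intro p q
      induction p using QuotientGroup.induction_on with | H a => ?_
      induction q using QuotientGroup.induction_on with | H b => ?_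
      intro e
      have e : C₁.map (MulAut.conj (a : G)).toMonoidHom = C₁.map (MulAut.conj (b : G)).toMonoidHom :=
        congrArg Subtype.val e
      refine QuotientGroup.eq.2 (mem_subgroupOf.2 ⟨(a⁻¹ * b).2, mem_normalizer_iff_map_conj_eq.2 ?_⟩)
      calc C₁.map (MulAut.conj ((a⁻¹ * b : N) : G)).toMonoidHom
          = (C₁.map (MulAut.conj (b : G)).toMonoidHom).map (MulAut.conj ((a : G))⁻¹).toMonoidHom := by
            rw [Subgroup.map_map]; congr 1; ext x; simp [mul_assoc]
        _ = C₁ := by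
            rw [← e, Subgroup.map_map]
            conv_rhs => rw [← Subgroup.map_id C₁]
            congr 1; ext x; simp [mul_assoc]
    calc N₁.relIndex N = Nat.card (N ⧸ N₁.subgroupOf N) := rfl
      _ ≤ Nat.card T := Nat.card_le_card_of_injective f hf
      _ ≤ 3 := by rw [Nat.card_eq_fintype_card, Fintype.card_coe]; exact hT
  rw [hK₁] at hmul
  have hne : N₁.relIndex N ≠ 0 := index_ne_zero_of_finite
  have hcase : N₁.relIndex N = 1 ∨ N₁.relIndex N = 3 := by
    rcases (by omega : N₁.relIndex N = 1 ∨ N₁.relIndex N = 2 ∨ N₁.relIndex N = 3) with e | e | e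
    · exact Or.inl e
    · exact absurd ⟨1, by omega⟩ h4
    · exact Or.inr e
  rcases hcase with e | e
  · exact Or.inl ⟨by omega, (relIndex_eq_one.1 e).trans inf_le_right⟩
  · refine Or.inr ⟨by omega, ?_⟩
    have := Fact.mk Nat.prime_three
    by_contra hcon
    push Not at hcon
    let P : Sylow 3 N := default
    refine P.not_dvd_index (dvd_trans (by rw [← e]; exact dvd_refl _) (index_dvd_of_le fun t ht => ?_))
    refine mem_subgroupOf.2 ⟨t.2, hcon t t.2 fun h2 => ?_⟩
    obtain ⟨j, hj⟩ := IsPGroup.iff_orderOf.1 P.2 ⟨t, ht⟩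
    rw [Subgroup.orderOf_mk, ← Subgroup.orderOf_coe] at hj
    rw [hj] at h2
    have := (Nat.prime_dvd_prime_iff_eq Nat.prime_two Nat.prime_three).1 (Nat.prime_two.dvd_of_dvd_pow h2)
    omega

end Cfsg.Agent.Invol
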