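import Cfsg.Agent.Invol.QD
import Mathlib.GroupTheory.SpecificGroups.KleinFour
import Mathlib.GroupTheory.SpecificGroups.Quaternion
import Mathlib.GroupTheory.SpecificGroups.Dihedral

/-!
Klein four-subgroups, quaternion subgroups and maximal subgroups of a quasi-dihedral group.
-/

set_option autoImplicit false

namespace Cfsg.Agent.Invol

variable {S : Type*} [Group S] {x y : S} {n : ℕ}

namespace QDGen

variable (hh : QDGen x y n)
include hh

theorem finite : Finite S := Nat.finite_of_card_ne_zero (by rw [hh.card]; positivity)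

/-- Conjugation moving `c i y` to `c (i + 2 m) y`. -/
theorem conj_shift (i m : ZMod (2 ^ n)) :
    ∃ j, qc x n j * (qc x n i * y) * (qc x n j)⁻¹ = qc x n (i + 2 * m) * y :=
  ⟨m * (1 + qq n), by rw [hh.c_conj_cy, hh.solve]⟩

theorem isConj_odd (m : ZMod (2 ^ n)) : IsConj (qc x n 1 * y) (qc x n (2 * m + 1) * y) := by
  obtain ⟨j, hj⟩ := hh.conj_shift 1 m
  exact isConj_iff.2 ⟨_, by rw [hj, add_comm]⟩

theorem isConj_even (m : ZMod (2 ^ n)) : IsConj y (qc x n (2 * m) * y) := by
  obtain ⟨j, hj⟩ := hh.conj_shift 0 m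
  rw [c_zero, one_mul, zero_add] at hj
  exact isConj_iff.2 ⟨_, hj⟩

theorem mem_of_orderOf_two_mul {E : Subgroup S} (hE : IsKleinFour E) {a : S} (ha : a ∈ E) :
    a * a = 1 := by
  have := Monoid.pow_exponent_eq_one (⟨a, ha⟩ : E)
  rw [hE.exponent_two, pow_two] at this
  exact congrArg Subtype.val this

/-- A Klein four-subgroup is `{1, c h, c i y, c (h + i) y}` with `i` even. -/
theorem klein_eq {E : Subgroup S} (hE : IsKleinFour E) : ∃ m : ZMod (2 ^ n), ∀ s, s ∈ E ↔
    s = 1 ∨ s = qc x n (qh n) ∨ s = qc x n (2 * m) * y ∨ s = qc x n (qh n + 2 * m) * y := by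
  have := hh.finite
  classical
  have hsq : ∀ a ∈ E, a = 1 ∨ a = qc x n (qh n) ∨ ∃ m, a = qc x n (2 * m) * y := fun a ha => by
    by_cases ha1 : a = 1
    · exact Or.inl ha1
    · exact Or.inr (hh.order_two.1 (orderOf_eq_prime
        (by rw [pow_two]; exact mem_of_orderOf_two_mul hh hE ha) ha1))
  obtain ⟨m, hm⟩ : ∃ m, qc x n (2 * m) * y ∈ E := by
    by_contra! hall
    have hle : E ≤ Subgroup.zpowers (qc x n (qh n)) := fun a ha => by
      rcases hsq a ha with rfl | rfl | ⟨m, rfl⟩
      · exact one_mem _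
      · exact Subgroup.mem_zpowers _
      · exact absurd ha (hall m)
    have := Subgroup.card_le_of_le hle
    rw [hE.card_four, Nat.card_zpowers, hh.order_two.2 (Or.inl rfl)] at this
    omega
  have hh' : qc x n (qh n) ∈ E := by
    by_contra hnot
    have hone : ∀ a ∈ E, a = 1 ∨ a = qc x n (2 * m) * y := fun a ha => by
      rcases hsq a ha with rfl | rfl | ⟨l, rfl⟩
      · exact Or.inl rfl
      · exact absurd ha hnot
      · have hp := mul_mem ha hm
        rcases hsq _ hp with e | e | ⟨k, e⟩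
        · rw [mul_eq_one_iff_eq_inv] at e
          have : (qc x n (2 * m) * y)⁻¹ = qc x n (2 * m) * y :=
            inv_eq_of_mul_eq_one_right (mem_of_orderOf_two_mul hh hE hm)
          exact Or.inr (e.trans this)
        · exact absurd (e ▸ hp) hnot
        · rw [hh.cy_mul_cy] at e
          exact absurd e (hh.c_ne _ _)
    have hle : E ≤ Subgroup.zpowers (qc x n (2 * m) * y) := fun a ha => by
      rcases hone a ha with rfl | rfl
      · exact one_mem _
      · exact Subgroup.mem_zpowers _
    have := Subgroup.card_le_of_le hle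
    rw [hE.card_four, Nat.card_zpowers, hh.order_two.2 (Or.inr ⟨m, rfl⟩)] at this
    omega
  refine ⟨m, fun s => ⟨fun hs => ?_, ?_⟩⟩
  · rcases hsq s hs with rfl | rfl | ⟨l, rfl⟩
    · exact Or.inl rfl
    · exact Or.inr (Or.inl rfl)
    · have hp := mul_mem hs hm
      rcases hsq _ hp with e | e | ⟨k, e⟩
      · rw [hh.cy_mul_cy, hh.c_eq_one] at e
        refine Or.inr (Or.inr (Or.inl ?_))
        congr 2
        linear_combination e - m * hh.two_h
      · rw [hh.cy_mul_cy] at e
        refine Or.inr (Or.inr (Or.inr ?_))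
        congr 2
        linear_combination hh.c_inj e - m * hh.two_h
      · rw [hh.cy_mul_cy] at e
        exact absurd e (hh.c_ne _ _)
  · rintro (rfl | rfl | rfl | rfl)
    · exact one_mem _
    · exact hh'
    · exact hm
    · rw [← hh.c_mul_cy]; exact mul_mem hh' hm

/-- Centraliser of a Klein four-subgroup. -/
theorem klein_centralizer {E : Subgroup S} (hE : IsKleinFour E) :
    Subgroup.centralizer (E : Set S) = E := by
  obtain ⟨m, hm⟩ := hh.klein_eq hE
  refine le_antisymm (fun s hs => ?_) (fun s hs => ?_)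
  · have h := (Subgroup.mem_centralizer_iff.1 hs) _ ((hm _).2 (Or.inr (Or.inr (Or.inl rfl))))
    rw [hm]
    rcases hh.cases s with ⟨j, rfl⟩ | ⟨j, rfl⟩
    · rw [hh.cy_mul_c, hh.c_mul_cy] at h
      have := hh.cy_inj h
      rcases hh.two_mul_eq_zero (hh.cancel_two_sub (j := j) (by linear_combination -this)) with e | e <;>
        rw [e]
      · exact Or.inl c_zero
      · exact Or.inr (Or.inl rfl)
    · rw [hh.cy_mul_cy, hh.cy_mul_cy] at h
      have := hh.c_inj h
      rcases hh.two_mul_eq_zero (hh.cancel_two_sub (j := 2 * m - j) (by linear_combination this))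
        with e | e
      · exact Or.inr (Or.inr (Or.inl (by rw [show j = 2 * m by linear_combination -e])))
      · exact Or.inr (Or.inr (Or.inr (by
          rw [show j = qh n + 2 * m by linear_combination -e - hh.two_h])))
  · have hcomm : ∀ a ∈ E, ∀ b ∈ E, a * b = b * a := fun a ha b hb => by
      have h1 := mem_of_orderOf_two_mul hh hE ha
      have h2 := mem_of_orderOf_two_mul hh hE hb
      have h3 := mem_of_orderOf_two_mul hh hE (mul_mem ha hb)
      calc a * b = (a * b) * ((b * b) * ((a * a))) := by rw [h1, h2]; simp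
        _ = ((a * b) * (a * b)) * (a * b) * ((b * b) * (a * a)) := by rw [h3, one_mul]
        _ = b * a := by
            rw [h3, one_mul]
            calc a * b * (b * b * (a * a)) = a * b := by rw [h1, h2]; simp
              _ = (b * a) * ((a * b) * (a * b)) := by
                  calc a * b = (b * b) * (a * b) := by rw [h2, one_mul]
                    _ = b * ((a * a) * b) * (a * b) := by rw [h1, one_mul]
                    _ = (b * a) * ((a * b) * (a * b)) := by group
              _ = b * a := by rw [h3, mul_one]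
    exact Subgroup.mem_centralizer_iff.2 fun t ht => hcomm t ht s hs

theorem klein_conj {E : Subgroup S} (hE : IsKleinFour E) {m : ZMod (2 ^ n)}
    (hm : ∀ s, s ∈ E ↔ s = 1 ∨ s = qc x n (qh n) ∨ s = qc x n (2 * m) * y ∨
      s = qc x n (qh n + 2 * m) * y) {F : Subgroup S} (hF : IsKleinFour F) :
    ∃ s : S, E.map (MulAut.conj s).toMonoidHom = F := by
  have := hh.finite
  obtain ⟨l, hl⟩ := hh.klein_eq hF
  obtain ⟨j, hj⟩ := hh.conj_shift (2 * m) (l - m)
  rw [show 2 * m + 2 * (l - m) = 2 * l by ring] at hj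
  refine ⟨qc x n j, Subgroup.eq_of_le_of_card_ge ?_ ?_⟩
  · rintro _ ⟨a, ha, rfl⟩
    show qc x n j * a * (qc x n j)⁻¹ ∈ F
    have hch : qc x n j * qc x n (qh n) * (qc x n j)⁻¹ = qc x n (qh n) := by
      rw [← hh.c_add, add_comm, hh.c_add, mul_inv_cancel_right]
    rw [hl]
    rcases (hm a).1 ha with rfl | rfl | rfl | rfl
    · exact Or.inl (by group)
    · exact Or.inr (Or.inl hch)
    · exact Or.inr (Or.inr (Or.inl hj))
    · refine Or.inr (Or.inr (Or.inr ?_))
      rw [← hh.c_mul_cy, ← hh.c_mul_cy]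
      calc qc x n j * (qc x n (qh n) * (qc x n (2 * m) * y)) * (qc x n j)⁻¹
          = (qc x n j * qc x n (qh n) * (qc x n j)⁻¹) *
            (qc x n j * (qc x n (2 * m) * y) * (qc x n j)⁻¹) := by group
        _ = _ := by rw [hch, hj]
  · rw [Subgroup.card_map_of_injective (MulAut.conj _).injective, hE.card_four, hF.card_four]

theorem klein_relIndex {E : Subgroup S} (hE : IsKleinFour E) :
    E.relIndex (Subgroup.normalizer (E : Set S)) = 2 := by
  have := hh.finite
  obtain ⟨m, hm⟩ := hh.klein_eq hE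
  have hN : ∀ s, s ∈ Subgroup.normalizer (E : Set S) ↔
      s * (qc x n (2 * m) * y) * s⁻¹ ∈ E := fun s => by
    refine ⟨fun h => (Subgroup.mem_normalizer_iff.1 h _).1 ((hm _).2 (Or.inr (Or.inr (Or.inl rfl)))),
      fun h => ?_⟩
    refine Subgroup.mem_normalizer_iff_map_conj_eq.2 (Subgroup.eq_of_le_of_card_ge ?_ ?_)
    · rintro _ ⟨a, ha, rfl⟩
      show s * a * s⁻¹ ∈ E
      have hc : s * qc x n (qh n) * s⁻¹ = qc x n (qh n) := by
        rw [Subgroup.mem_center_iff.1 hh.h_mem_center s, mul_inv_cancel_right]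
      rcases (hm a).1 ha with rfl | rfl | rfl | rfl
      · simp
      · rw [hc]; exact (hm _).2 (Or.inr (Or.inl rfl))
      · exact h
      · rw [← hh.c_mul_cy]
        rw [show s * (qc x n (qh n) * (qc x n (2 * m) * y)) * s⁻¹ =
          (s * qc x n (qh n) * s⁻¹) * (s * (qc x n (2 * m) * y) * s⁻¹) by group, hc]
        exact mul_mem ((hm _).2 (Or.inr (Or.inl rfl))) h
    · rw [Subgroup.card_map_of_injective (MulAut.conj _).injective]
  have hqN : qc x n (qq n) ∈ Subgroup.normalizer (E : Set S) := by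
    rw [hN, hh.c_conj_cy, hm]
    refine Or.inr (Or.inr (Or.inr ?_))
    congr 2
    linear_combination hh.two_q - qh n * hh.q_even - 2 ^ (n - 3) * hh.two_h
  have hqE : qc x n (qq n) ∉ E := by
    rw [hm]
    rintro (h | h | h | h)
    · exact hh.q_ne (hh.c_eq_one.1 h)
    · have := hh.c_inj h
      exact hh.h_ne (by linear_combination -hh.two_q + 2 * this + hh.two_h)
    · exact hh.c_ne _ _ h
    · exact hh.c_ne _ _ h
  have hmem : ∀ j, (2 - qh n) * j = 0 ∨ (2 - qh n) * j = qh n →
      qc x n j ∈ E ∨ qc x n j * qc x n (qq n) ∈ E := by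
    intro j hj
    rw [← hh.c_add]
    rcases hj with h | h
    · left
      rcases hh.two_mul_eq_zero (hh.cancel_two_sub h) with e | e <;> rw [e]
      · rw [c_zero]; exact one_mem _
      · exact (hm _).2 (Or.inr (Or.inl rfl))
    · right
      have h2 : 2 * (j + qq n) = 0 := hh.cancel_two_sub (j := j + qq n) (by
        linear_combination h + hh.two_q + hh.two_h - qh n * hh.q_even - 2 ^ (n - 3) * hh.two_h)
      rcases hh.two_mul_eq_zero h2 with e | e <;> rw [e]
      · rw [c_zero]; exact one_mem _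
      · exact (hm _).2 (Or.inr (Or.inl rfl))
  rw [Subgroup.relIndex, Subgroup.index_eq_two_iff]
  refine ⟨⟨qc x n (qq n), hqN⟩, fun b => ?_⟩
  simp only [Subgroup.mem_subgroupOf, Subgroup.coe_mul]
  -- write `b` as a power of `x` times an element of `E`
  obtain ⟨j, e, he, hbe⟩ : ∃ j, ∃ e ∈ E, (b : S) = e * qc x n j := by
    rcases hh.cases (b : S) with ⟨j, hj⟩ | ⟨j, hj⟩
    · exact ⟨j, 1, one_mem _, by rw [one_mul, hj]⟩
    · have hy2 : qc x n (2 * m) * y ∈ E := (hm _).2 (Or.inr (Or.inr (Or.inl rfl)))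
      refine ⟨(qh n * (j - 2 * m) - (j - 2 * m)), _, hy2, ?_⟩
      rw [hj, hh.cy_mul_c]
      congr 2
      linear_combination -(j - 2 * m) * hh.h_sq + (j - 2 * m) * hh.two_h
  have hjN : qc x n j ∈ Subgroup.normalizer (E : Set S) := by
    have h1 := mul_mem (inv_mem (Subgroup.le_normalizer he)) b.2
    rwa [hbe, inv_mul_cancel_left] at h1
  have hor : qc x n j ∈ E ∨ qc x n j * qc x n (qq n) ∈ E := by
    refine hmem j ?_
    have h1 := (hN _).1 hjN
    rw [hh.c_conj_cy, hm] at h1
    rcases h1 with h1 | h1 | h1 | h1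
    · exact absurd h1.symm (fun h => hh.cy_ne_one _ h.symm)
    · exact absurd h1.symm (hh.c_ne _ _)
    · left; linear_combination hh.cy_inj h1
    · right; linear_combination hh.cy_inj h1
  rw [hbe, mul_assoc, E.mul_mem_cancel_left he, E.mul_mem_cancel_left he]
  rcases hor with h | h
  · exact Or.inr ⟨h, fun h2 => hqE ((E.mul_mem_cancel_left h).1 h2)⟩
  · exact Or.inl ⟨h, fun h2 => hqE ((E.mul_mem_cancel_left h2).1 h)⟩

end QDGen

end Cfsg.Agent.Invol
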