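import Cfsg.Agent.Invol.WRTransfer

/-!
Fusion of involutions in a group with a wreathed Sylow 2-subgroup, by the automisers of `U` and `V`.
-/

set_option autoImplicit false

namespace Cfsg.Agent.Invol

open Subgroup

universe u

variable {G : Type u} [Group G]

theorem card_classes_eq (k : ℕ) (T : Finset (ConjClasses G))
    (h : ∀ t : G, orderOf t = k → ConjClasses.mk t ∈ T)
    (h' : ∀ C ∈ T, ∃ t : G, orderOf t = k ∧ ConjClasses.mk t = C) :
    Nat.card {C : ConjClasses G // ∃ t : G, orderOf t = k ∧ ConjClasses.mk t = C} = T.card := by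
  rw [← Nat.card_eq_finsetCard T]
  exact Nat.card_congr (Equiv.subtypeEquivRight fun C =>
    ⟨fun ⟨t, ht, e⟩ => e ▸ h t ht, h' C⟩)

theorem odd_mem_of_index_two {N : Subgroup G} [hN : N.Normal] (hi : N.index = 2) {m : G}
    (hm : ¬ 2 ∣ orderOf m) : m ∈ N := by
  have h1 := orderOf_map_dvd (QuotientGroup.mk' N) m
  have h2 : orderOf (QuotientGroup.mk' N m) ∣ 2 := hi ▸ orderOf_dvd_natCard _
  rw [← QuotientGroup.eq_one_iff, ← QuotientGroup.mk'_apply, ← orderOf_eq_one_iff]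
  exact Nat.eq_one_of_dvd_coprimes ((Nat.Prime.coprime_iff_not_dvd Nat.prime_two).2 hm).symm h1 h2

theorem index_two_mul {H : Subgroup G} (hH : H.index = 2) {a b : G} (ha : a ∉ H) (hb : b ∉ H) :
    a * b ∈ H :=
  (Subgroup.mul_mem_iff_of_index_two hH).2 (iff_of_false ha hb)

variable {S : Sylow 2 G} {x y z : (S : Subgroup G)} {n : ℕ}

namespace WRGen

theorem setup [Finite G] (hS : Cfsg.IsWreathed (S : Subgroup G)) {n : ℕ} (hn : Nat.card S = 2 ^ (2 * n + 1))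
    {U : Subgroup G} (hUS : U ≤ S) (hUab : IsMulCommutative U) (hUcard : Nat.card U = 2 ^ (2 * n))
    {Q : Subgroup G} (hQS : Q ≤ S) (eQ : Q ≃* QuaternionGroup 2) :
    ∃ (x y z : (S : Subgroup G)) (hh : WRGen x y z n), U = hh.uG ∧
      Q ⊔ (center (S : Subgroup G)).map (S : Subgroup G).subtype = hh.vG := by
  obtain ⟨x, y, z, hh⟩ := wrgen_exists' hS hn
  obtain ⟨z', hh', e⟩ := hh.exists_adapted Q hQS eQ
  exact ⟨x, y, z', hh', hh'.uG_unique hUS
    (fun a ha b hb => congrArg Subtype.val (hUab.is_comm.comm ⟨a, ha⟩ ⟨b, hb⟩)) hUcard, e⟩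

variable (hh : WRGen x y z n)
include hh

theorem involution_isConj [Finite G] {t : G} (ht : orderOf t = 2) :
    IsConj (wu x y n (wh n) (wh n)) t ∨ IsConj (wu x y n 0 (wh n)) t ∨ IsConj (wo x y z n 0 0) t := by
  have : Fact (Nat.Prime 2) := ⟨Nat.prime_two⟩
  obtain ⟨d, hd⟩ := exists_conj_mem_of_isPGroup S (x := t) ⟨1, by rw [ht, pow_one]⟩
  have hc : IsConj t (d * t * d⁻¹) := isConj_iff.2 ⟨d, rfl⟩
  rcases hh.involution_cases hd ((Cfsg.Agent.Invol.orderOf_conj d t).trans ht) with e | e | e | ⟨i, e⟩ <;>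
    rw [e] at hc
  · exact Or.inl hc.symm
  · exact Or.inr (Or.inl ((hh.isConj_swap _ _).symm.trans hc.symm))
  · exact Or.inr (Or.inl hc.symm)
  · exact Or.inr (Or.inr ((hh.isConj_outer i).trans hc.symm))

variable [Finite G]

theorem z0_not_conj (h2 : hh.U2) {v : G} (hv : v ∈ (S : Subgroup G))
    (hne : v ≠ wu x y n (wh n) (wh n)) : ¬ IsConj (wu x y n (wh n) (wh n)) v := fun hc => by
  obtain ⟨g, hg⟩ := isConj_iff.1 hc
  exact hne (hg.symm.trans ((hh.isolated_of_U2 h2).2 g (by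
    show _ * _ = _ * _
    rw [hg, hh.scalar_comm hv]; )))

theorem u0h_ne : wu x y n 0 (wh n) ≠ wu x y n (wh n) (wh n) :=
  hh.u_ne_scalar (Ne.symm hh.h_ne) _

theorem u0h_not_conj_outer (h : ¬ hh.V6) {v : G} (hv : v ∈ hh.uG) : ¬ IsConj (wo x y z n 0 0) v :=
  fun hc => h (hh.V6_of_fuses hv hc)

theorem count_U2_V2 (h2 : hh.U2) (h : ¬ hh.V6) :
    Nat.card {C : ConjClasses G // ∃ t : G, orderOf t = 2 ∧ ConjClasses.mk t = C} = 3 := by
  classical
  rw [card_classes_eq 2 {ConjClasses.mk (wu x y n (wh n) (wh n)), ConjClasses.mk (wu x y n 0 (wh n)),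
      ConjClasses.mk (wo x y z n 0 0)} (fun t ht => ?_) (fun C hC => ?_)]
  · refine Finset.card_eq_three.2 ⟨_, _, _, ?_, ?_, ?_, rfl⟩ <;> rw [ne_eq, ConjClasses.mk_eq_mk_iff_isConj]
    · exact hh.z0_not_conj h2 (wu_mem _ _) hh.u0h_ne
    · exact hh.z0_not_conj h2 (wo_mem _ _) (Ne.symm (hh.u_ne_o _ _ _ _))
    · exact fun hc => hh.u0h_not_conj_outer h (hh.wu_mem_uG _ _) hc.symm
  · simp only [Finset.mem_insert, Finset.mem_singleton, ConjClasses.mk_eq_mk_iff_isConj]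
    rcases hh.involution_isConj ht with e | e | e
    exacts [Or.inl e.symm, Or.inr (Or.inl e.symm), Or.inr (Or.inr e.symm)]
  · simp only [Finset.mem_insert, Finset.mem_singleton] at hC
    rcases hC with rfl | rfl | rfl
    exacts [⟨_, hh.z0_order, rfl⟩, ⟨_, hh.u_0h_order, rfl⟩, ⟨_, hh.o_order, rfl⟩]

theorem count_U2_V6 (h2 : hh.U2) (h : hh.V6) :
    Nat.card {C : ConjClasses G // ∃ t : G, orderOf t = 2 ∧ ConjClasses.mk t = C} = 2 := by
  classical
  rw [card_classes_eq 2 {ConjClasses.mk (wu x y n (wh n) (wh n)), ConjClasses.mk (wu x y n 0 (wh n))}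
    (fun t ht => ?_) (fun C hC => ?_)]
  · refine Finset.card_pair ?_
    rw [ne_eq, ConjClasses.mk_eq_mk_iff_isConj]
    exact hh.z0_not_conj h2 (wu_mem _ _) hh.u0h_ne
  · simp only [Finset.mem_insert, Finset.mem_singleton, ConjClasses.mk_eq_mk_iff_isConj]
    rcases hh.involution_isConj ht with e | e | e
    exacts [Or.inl e.symm, Or.inr e.symm, Or.inr ((hh.fuses_of_V6 h).trans e).symm]
  · simp only [Finset.mem_insert, Finset.mem_singleton] at hC
    rcases hC with rfl | rfl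
    exacts [⟨_, hh.z0_order, rfl⟩, ⟨_, hh.u_0h_order, rfl⟩]

theorem count_U6_V2 (h6 : hh.U6) (h : ¬ hh.V6) :
    Nat.card {C : ConjClasses G // ∃ t : G, orderOf t = 2 ∧ ConjClasses.mk t = C} = 2 := by
  classical
  rw [card_classes_eq 2 {ConjClasses.mk (wu x y n (wh n) (wh n)), ConjClasses.mk (wo x y z n 0 0)}
    (fun t ht => ?_) (fun C hC => ?_)]
  · refine Finset.card_pair ?_
    rw [ne_eq, ConjClasses.mk_eq_mk_iff_isConj]
    exact fun hc => hh.u0h_not_conj_outer h (hh.wu_mem_uG _ _) hc.symm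
  · simp only [Finset.mem_insert, Finset.mem_singleton, ConjClasses.mk_eq_mk_iff_isConj]
    rcases hh.involution_isConj ht with e | e | e
    exacts [Or.inl e.symm,
      Or.inl ((hh.isConj_z0_of_U6 h6 (hh.wu_mem_uG _ _) hh.u_0h_order).trans e).symm, Or.inr e.symm]
  · simp only [Finset.mem_insert, Finset.mem_singleton] at hC
    rcases hC with rfl | rfl
    exacts [⟨_, hh.z0_order, rfl⟩, ⟨_, hh.o_order, rfl⟩]

theorem all_conj_of_U6_V6 (h6 : hh.U6) (h : hh.V6) {t : G} (ht : orderOf t = 2) :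
    IsConj (wu x y n (wh n) (wh n)) t := by
  have e1 := hh.isConj_z0_of_U6 h6 (hh.wu_mem_uG 0 (wh n)) hh.u_0h_order
  rcases hh.involution_isConj ht with e | e | e
  exacts [e, e1.trans e, e1.trans ((hh.fuses_of_V6 h).trans e)]

theorem count_U6_V6 (h6 : hh.U6) (h : hh.V6) :
    Nat.card {C : ConjClasses G // ∃ t : G, orderOf t = 2 ∧ ConjClasses.mk t = C} = 1 := by
  classical
  rw [card_classes_eq 2 {ConjClasses.mk (wu x y n (wh n) (wh n))} (fun t ht => ?_) (fun C hC => ?_)]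
  · rfl
  · rw [Finset.mem_singleton, ConjClasses.mk_eq_mk_iff_isConj]
    exact (hh.all_conj_of_U6_V6 h6 h ht).symm
  · rw [Finset.mem_singleton] at hC
    exact ⟨_, hh.z0_order, hC.symm⟩

theorem relIndex_uG : hh.uG.relIndex (S : Subgroup G) = 2 := by
  have h : Nat.card hh.uG * hh.uG.relIndex (S : Subgroup G) = Nat.card S := by
    rw [← relIndex_bot_left hh.uG, relIndex_mul_relIndex _ _ _ bot_le hh.uG_le, relIndex_bot_left]
  rw [hh.uG_card, hh.card, pow_succ] at h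
  exact Nat.eq_of_mul_eq_mul_left (Nat.two_pow_pos _) h

/-- An outer involution not fused into `U` lies outside a subgroup of index two. -/
theorem index_two_of_not_fused (h : ¬ hh.V6) :
    ∃ N : Subgroup G, N.Normal ∧ N.index = 2 ∧ wo x y z n 0 0 ∉ N := by
  refine TwoTransfer.exists_index_two S hh.uG hh.relIndex_uG _ (wo_mem _ _) (fun k g hk _ => ?_)
    fun g _ hg => hh.u0h_not_conj_outer h hg (isConj_iff.2 ⟨g⁻¹, by rw [inv_inv]⟩)
  have h1 : wo x y z n 0 0 ^ (2 ^ k) = 1 := by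
    obtain ⟨i, rfl⟩ : ∃ i, k = i + 1 := ⟨k - 1, by omega⟩
    have h3 := pow_orderOf_eq_one (wo x y z n 0 0)
    rw [hh.o_order] at h3
    rw [pow_succ', pow_mul, h3, one_pow]
  rw [h1, mul_one, inv_mul_cancel]
  exact one_mem _

theorem U6_moves (h6 : hh.U6) : ∃ m ∈ normalizer (hh.uG : Set G), ¬ 2 ∣ orderOf m ∧
    m * wu x y n (wh n) (wh n) * m⁻¹ ≠ wu x y n (wh n) (wh n) := by
  rcases hh.U_auto with ⟨h, -⟩ | ⟨-, h⟩
  · rw [WRGen.U6, h] at h6; omega
  · exact h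

theorem uG_le_of_index_two (h6 : hh.U6) {H : Subgroup G} (hH : H.index = 2) : hh.uG ≤ H := by
  obtain ⟨m, hm, hmo, hmz⟩ := hh.U6_moves h6
  have := Subgroup.normal_of_index_eq_two hH
  exact hh.U_le_of_invariant (fun a _ b _ ha hb => index_two_mul hH ha hb) hm hmo hmz
    fun a _ ha => Subgroup.Normal.conj_mem this a ha m

theorem no_index_two_of_U6_V6 (h6 : hh.U6) (h : hh.V6) (H : Subgroup G) : H.index ≠ 2 := by
  have : Fact (Nat.Prime 2) := ⟨Nat.prime_two⟩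
  intro hH
  have hn := Subgroup.normal_of_index_eq_two hH
  have hU := hh.uG_le_of_index_two h6 hH
  obtain ⟨g, hg⟩ := isConj_iff.1 (hh.fuses_of_V6 h)
  have ho : wo x y z n 0 0 ∈ H := hg ▸ hn.conj_mem _ (hU (hh.wu_mem_uG _ _)) g
  refine index_ne_of_sylow_le S (fun s hs => ?_) hH
  rcases hh.casesG hs with ⟨i, j, rfl⟩ | ⟨i, j, rfl⟩
  · exact hU (hh.wu_mem_uG _ _)
  · rw [show wo x y z n i j = wu x y n i j * wo x y z n 0 0 by rw [hh.u_mul_o, add_zero, add_zero]]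
    exact H.mul_mem (hU (hh.wu_mem_uG _ _)) ho

theorem abelian_case (h6 : hh.U6) (h : ¬ hh.V6) :
    ∃ K : Subgroup G, K.Normal ∧ K.index = 2 ∧ hh.uG ≤ K ∧ ∀ H : Subgroup K, H.index ≠ 2 := by
  have : Fact (Nat.Prime 2) := ⟨Nat.prime_two⟩
  obtain ⟨N, hN, hNi, ho⟩ := hh.index_two_of_not_fused h
  have hUN := hh.uG_le_of_index_two h6 hNi
  refine ⟨N, hN, hNi, hUN, fun H hH => ?_⟩
  obtain ⟨m, hm, hmo, hmz⟩ := hh.U6_moves h6
  have hmN : m ∈ N := odd_mem_of_index_two hNi hmo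
  have hHn := Subgroup.normal_of_index_eq_two hH
  have hUH : hh.uG ≤ H.map N.subtype := by
    refine hh.U_le_of_invariant (fun a ha b hb na nb => ?_) hm hmo hmz fun a ha hW => ?_
    · refine ⟨⟨a, hUN ha⟩ * ⟨b, hUN hb⟩, index_two_mul hH ?_ ?_, rfl⟩
      exacts [fun h => na ⟨_, h, rfl⟩, fun h => nb ⟨_, h, rfl⟩]
    · obtain ⟨v, hv, rfl⟩ := hW
      exact ⟨⟨m, hmN⟩ * v * ⟨m, hmN⟩⁻¹, hHn.conj_mem v hv _, rfl⟩
  obtain ⟨P, hP⟩ := exists_sylow_eq_inf S N
  refine index_ne_of_sylow_le P (fun v hv => ?_) hH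
  rw [hP] at hv
  obtain ⟨hvS, hvN⟩ : (v : G) ∈ (S : Subgroup G) ∧ (v : G) ∈ N := hv
  rcases hh.casesG hvS with ⟨i, j, e⟩ | ⟨i, j, e⟩
  · obtain ⟨w, hw, hwe⟩ := hUH (hh.wu_mem_uG i j)
    rwa [show v = w from Subtype.ext (e.trans hwe.symm)]
  · exfalso
    apply ho
    rw [e, show wo x y z n i j = wu x y n i j * wo x y z n 0 0 by rw [hh.u_mul_o, add_zero, add_zero]] at hvN
    exact (N.mul_mem_cancel_left (hUN (hh.wu_mem_uG _ _))).1 hvN

theorem nilpotent_case (h2 : hh.U2) (h : ¬ hh.V6) : Cfsg.HasNormalPComplement 2 G := by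
  have : Fact (Nat.Prime 2) := ⟨Nat.prime_two⟩
  obtain ⟨N, hN, hNi, ho⟩ := hh.index_two_of_not_fused h
  obtain ⟨K, hKn, hKi, hK⟩ := hh.exists_kernel h2
  obtain ⟨j, hj⟩ : ∃ j, (K ⊓ N).index = 2 ^ j := by
    have hd : N.relIndex K ∣ 2 := hNi ▸ Subgroup.relIndex_dvd_index_of_normal N K
    have h := relIndex_mul_index (inf_le_left : K ⊓ N ≤ K)
    rw [inf_relIndex_left, hKi] at h
    rcases (Nat.dvd_prime Nat.prime_two).1 hd with e | e <;> rw [e] at h
    · exact ⟨n, by rw [← h, one_mul]⟩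
    · exact ⟨n + 1, by rw [← h, pow_succ']⟩
  refine complement_of_normal_two_power _ hj ?_
  let P : Sylow 2 ↥(K ⊓ N) := default
  obtain ⟨e⟩ := sylow_equiv_inf S (K ⊓ N) P
  have hle : (S : Subgroup G) ⊓ (K ⊓ N) ≤ zpowers (wu x y n 1 (-1)) := by
    rintro s ⟨hsS, hsK, hsN⟩
    have hpow : ∀ k : ZMod (2 ^ n), wu x y n k (-k) ∈ zpowers (wu x y n 1 (-1)) := fun k => by
      have h := pow_mem (mem_zpowers (wu x y n 1 (-1))) k.val
      rwa [hh.u_pow, ZMod.natCast_zmod_val, mul_one, mul_neg_one] at h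
    obtain ⟨k, rfl | rfl⟩ := (hK s hsS).1 hsK
    · exact hpow k
    · exfalso
      have hh0 : wu x y n (wh n) 0 ∈ N := by
        have h := (Subgroup.mul_mem_iff_of_index_two hNi).2
          (Iff.refl (wu x y n (wq n) 0 ∈ N))
        rwa [hh.u_mul_u, ← two_mul, hh.two_q, add_zero] at h
      rw [show wo x y z n (wh n - k) k = wu x y n (wh n) 0 * wo x y z n (-k) k by
        rw [hh.u_mul_o, zero_add, sub_eq_add_neg]] at hsN
      have h1 := (N.mul_mem_cancel_left hh0).1 hsN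
      obtain ⟨g, hg⟩ := isConj_iff.1 (hh.isConj_outer (-k))
      rw [neg_neg] at hg
      apply ho
      have h3 := hN.conj_mem _ h1 g⁻¹
      rwa [← hg, show g⁻¹ * (g * wo x y z n 0 0 * g⁻¹) * g⁻¹⁻¹ = wo x y z n 0 0 by group] at h3
  have hcyc : IsCyclic ↥((S : Subgroup G) ⊓ (K ⊓ N)) := isCyclic_of_injective (Subgroup.inclusion hle)
    (Subgroup.inclusion_injective hle)
  exact HSub.hasNormalPComplement_of_cyclic P (fun q hq _ => hq.two_le)
    (isCyclic_of_surjective e.symm e.symm.surjective)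

end WRGen

end Cfsg.Agent.Invol
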