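import Cfsg.Agent.Invol.QDMax
import Cfsg.Agent.Invol.QDSub
import Cfsg.Agent.Invol.Automiser
import Cfsg.Agent.Invol.WRTables

/-!
Fusion in a group with a quasi-dihedral Sylow 2-subgroup.
-/

set_option autoImplicit false

namespace Cfsg.Agent.Invol

open Subgroup

universe u

variable {G : Type u} [Group G]

theorem relIndex_map_conj (H K : Subgroup G) (g : G) :
    (H.map (MulAut.conj g).toMonoidHom).relIndex (K.map (MulAut.conj g).toMonoidHom) = H.relIndex K :=
  relIndex_map_map_of_injective _ _ (MulAut.conj g).injective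

theorem normalizer_map_conj (H : Subgroup G) (g : G) :
    normalizer ((H.map (MulAut.conj g).toMonoidHom : Subgroup G) : Set G) =
      (normalizer (H : Set G)).map (MulAut.conj g).toMonoidHom :=
  (H.map_equiv_normalizer_eq (MulAut.conj g)).symm

theorem centralizer_map_conj (H : Subgroup G) (g : G) :
    centralizer ((H.map (MulAut.conj g).toMonoidHom : Subgroup G) : Set G) =
      (centralizer (H : Set G)).map (MulAut.conj g).toMonoidHom := by
  ext v
  constructor
  · intro hv
    refine ⟨g⁻¹ * v * g, mem_centralizer_iff.2 fun w hw => ?_, by simp [mul_assoc]⟩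
    have h := mem_centralizer_iff.1 hv _ ⟨w, hw, rfl⟩
    change g * w * g⁻¹ * v = v * (g * w * g⁻¹) at h
    calc w * (g⁻¹ * v * g) = g⁻¹ * (g * w * g⁻¹ * v) * g := by group
      _ = g⁻¹ * v * g * w := by rw [h]; group
  · rintro ⟨c, hc, rfl⟩
    refine mem_centralizer_iff.2 ?_
    rintro _ ⟨w, hw, rfl⟩
    rw [← map_mul, ← map_mul, mem_centralizer_iff.1 hc w hw]

theorem relIndex_normal_inf_dvd {K N : Subgroup G} [N.Normal] {a : ℕ} (hK : K.index = 2 ^ a)
    (hN : N.index = 2) : ∃ j, (K ⊓ N).index = 2 ^ j := by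
  have hd : N.relIndex K ∣ 2 := hN ▸ Subgroup.relIndex_dvd_index_of_normal N K
  have h := relIndex_mul_index (inf_le_left : K ⊓ N ≤ K)
  rw [inf_relIndex_left, hK] at h
  rcases (Nat.dvd_prime Nat.prime_two).1 hd with e | e <;> rw [e] at h
  · exact ⟨a, by rw [← h, one_mul]⟩
  · exact ⟨a + 1, by rw [← h, pow_succ']⟩

/-- Powers of `x`, in the group. -/
def qu {S : Sylow 2 G} (x : (S : Subgroup G)) (n : ℕ) (i : ZMod (2 ^ n)) : G :=
  ((qc x n i : (S : Subgroup G)) : G)

/-- Elements outside `⟨x⟩`, in the group. -/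
def qv {S : Sylow 2 G} (x y : (S : Subgroup G)) (n : ℕ) (i : ZMod (2 ^ n)) : G :=
  ((qc x n i * y : (S : Subgroup G)) : G)

variable {S : Sylow 2 G} {x y : (S : Subgroup G)} {n : ℕ}

/-- The standard four-group, in the group. -/
def QDGen.tG (hh : QDGen x y n) : Subgroup G where
  carrier := {g | g = 1 ∨ g = qu x n (qh n) ∨ g = qv x y n 0 ∨ g = qv x y n (qh n)}
  one_mem' := Or.inl rfl
  mul_mem' := by
    have hzz : qu x n (qh n) * qu x n (qh n) = (1 : G) :=
      congrArg Subtype.val (show qc x n (qh n) * qc x n (qh n) = 1 by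
        rw [← hh.c_add, ← two_mul, hh.two_h, QDGen.c_zero])
    have h0 : ∀ a b : ZMod (2 ^ n), a = b → qu x n a = qu x n b := fun a b h => h ▸ rfl
    have huv : ∀ a b, qu x n a * qv x y n b = qv x y n (a + b) :=
      fun a b => congrArg Subtype.val (hh.c_mul_cy a b)
    have hvu : ∀ a b, qv x y n a * qu x n b = qv x y n (a + (qh n * b - b)) :=
      fun a b => congrArg Subtype.val (hh.cy_mul_c a b)
    have hvv : ∀ a b, qv x y n a * qv x y n b = qu x n (a + (qh n * b - b)) :=
      fun a b => congrArg Subtype.val (hh.cy_mul_cy a b)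
    have hu1 : qu x n 0 = (1 : G) := congrArg Subtype.val QDGen.c_zero
    have hm : -qh n = qh n := by linear_combination -hh.two_h
    rintro _ _ (rfl | rfl | rfl | rfl) (rfl | rfl | rfl | rfl) <;>
      simp only [Set.mem_setOf_eq, one_mul, mul_one, hzz, huv, hvu, hvv, hh.h_sq, mul_zero, sub_zero,
        zero_sub, add_zero, zero_add, hm, add_neg_cancel, neg_add_cancel, ← two_mul, hh.two_h, hu1,
        true_or, or_true]
  inv_mem' := by
    rintro _ (rfl | rfl | rfl | rfl)
    · exact Or.inl inv_one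
    · exact Or.inr (Or.inl (inv_eq_of_mul_eq_one_right (congrArg Subtype.val
        (show qc x n (qh n) * qc x n (qh n) = 1 by rw [← hh.c_add, ← two_mul, hh.two_h, QDGen.c_zero]))))
    · exact Or.inr (Or.inr (Or.inl (inv_eq_of_mul_eq_one_right (congrArg Subtype.val
        (show qc x n 0 * y * (qc x n 0 * y) = 1 by rw [hh.cy_sq, mul_zero, QDGen.c_zero])))))
    · exact Or.inr (Or.inr (Or.inr (inv_eq_of_mul_eq_one_right (congrArg Subtype.val
        (show qc x n (qh n) * y * (qc x n (qh n) * y) = 1 by rw [hh.cy_sq, hh.h_sq, QDGen.c_zero])))))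

/-- The standard quaternion subgroup, in the group. -/
def QDGen.qG (hh : QDGen x y n) : Subgroup G where
  carrier := {g | ∃ i, 4 * i = 0 ∧ (g = qu x n i ∨ g = qv x y n (1 + i))}
  one_mem' := ⟨0, mul_zero _, Or.inl (congrArg Subtype.val (QDGen.c_zero (x := x) (n := n))).symm⟩
  mul_mem' := by
    have h4 : ∀ i : ZMod (2 ^ n), 4 * (qh n * i) = 0 := fun i => by linear_combination 2 * i * hh.two_h
    have h4h : 4 * qh n = 0 := by linear_combination 2 * hh.two_h
    rintro _ _ ⟨i, hi, rfl | rfl⟩ ⟨j, hj, rfl | rfl⟩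
    · exact ⟨i + j, by rw [mul_add, hi, hj, add_zero], Or.inl (congrArg Subtype.val (hh.c_add i j)).symm⟩
    · exact ⟨i + j, by rw [mul_add, hi, hj, add_zero], Or.inr ((congrArg Subtype.val (hh.c_mul_cy i (1 + j))).trans
        (by show qv x y n _ = _; congr 1; ring))⟩
    · exact ⟨i + (qh n * j - j), by linear_combination hi + h4 j - hj,
        Or.inr ((congrArg Subtype.val (hh.cy_mul_c (1 + i) j)).trans (by show qv x y n _ = _; congr 1; ring))⟩
    · exact ⟨i + qh n + (qh n * j - j), by linear_combination hi + h4h + h4 j - hj,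
        Or.inl ((congrArg Subtype.val (hh.cy_mul_cy (1 + i) (1 + j))).trans (by show qu x n _ = _; congr 1; ring))⟩
  inv_mem' := by
    have h4 : ∀ i : ZMod (2 ^ n), 4 * (qh n * i) = 0 := fun i => by linear_combination 2 * i * hh.two_h
    rintro _ ⟨i, hi, rfl | rfl⟩
    · exact ⟨-i, by rw [mul_neg, hi, neg_zero], Or.inl (congrArg Subtype.val (hh.c_neg i)).symm⟩
    · refine ⟨i + qh n + qh n * i, by linear_combination hi + h4 i + 2 * hh.two_h, Or.inr
        (inv_eq_of_mul_eq_one_right (congrArg Subtype.val (?_ : qc x n (1 + i) * y *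
          (qc x n (1 + (i + qh n + qh n * i)) * y) = 1)))⟩
      rw [hh.cy_mul_cy, hh.c_eq_one]
      linear_combination (1 + i) * hh.h_sq

namespace QDGen

variable (hh : QDGen x y n)
include hh

omit hh in
theorem qu_mem (i : ZMod (2 ^ n)) : qu x n i ∈ (S : Subgroup G) := (qc x n i : (S : Subgroup G)).2

omit hh in
theorem qv_mem (i : ZMod (2 ^ n)) : qv x y n i ∈ (S : Subgroup G) := (qc x n i * y : (S : Subgroup G)).2

theorem casesG {g : G} (hg : g ∈ (S : Subgroup G)) : (∃ i, g = qu x n i) ∨ ∃ i, g = qv x y n i := by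
  rcases hh.cases ⟨g, hg⟩ with ⟨i, h⟩ | ⟨i, h⟩
  · exact Or.inl ⟨i, congrArg Subtype.val h⟩
  · exact Or.inr ⟨i, congrArg Subtype.val h⟩

theorem qu_inj {i j : ZMod (2 ^ n)} (h : qu x n i = qu x n j) : i = j := hh.c_inj (Subtype.ext h)

theorem qv_inj {i j : ZMod (2 ^ n)} (h : qv x y n i = qv x y n j) : i = j := hh.cy_inj (Subtype.ext h)

theorem qu_ne_qv (i j : ZMod (2 ^ n)) : qu x n i ≠ qv x y n j := fun h => hh.c_ne i j (Subtype.ext h)

omit hh in
theorem qu_zero : qu x n 0 = (1 : G) := congrArg Subtype.val QDGen.c_zero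

theorem qu_mul_qu (i j : ZMod (2 ^ n)) : qu x n i * qu x n j = qu x n (i + j) :=
  (congrArg Subtype.val (hh.c_add i j)).symm

theorem qu_mul_qv (i j : ZMod (2 ^ n)) : qu x n i * qv x y n j = qv x y n (i + j) :=
  congrArg Subtype.val (hh.c_mul_cy i j)

theorem qv_mul_qu (i j : ZMod (2 ^ n)) : qv x y n i * qu x n j = qv x y n (i + (qh n * j - j)) :=
  congrArg Subtype.val (hh.cy_mul_c i j)

theorem qv_mul_qv (i j : ZMod (2 ^ n)) : qv x y n i * qv x y n j = qu x n (i + (qh n * j - j)) :=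
  congrArg Subtype.val (hh.cy_mul_cy i j)

theorem qu_inv (i : ZMod (2 ^ n)) : (qu x n i)⁻¹ = qu x n (-i) :=
  (congrArg Subtype.val (hh.c_neg i)).symm

theorem qu_conj_qv (j i : ZMod (2 ^ n)) :
    qu x n j * qv x y n i * (qu x n j)⁻¹ = qv x y n (i + (2 - qh n) * j) :=
  congrArg Subtype.val (hh.c_conj_cy j i)

theorem qv_conj_qu (j i : ZMod (2 ^ n)) :
    qv x y n j * qu x n i * (qv x y n j)⁻¹ = qu x n (qh n * i - i) := by
  rw [hh.qv_mul_qu, mul_inv_eq_iff_eq_mul, hh.qu_mul_qv]
  congr 1; ring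

theorem z_comm {g : G} (hg : g ∈ (S : Subgroup G)) : g * qu x n (qh n) = qu x n (qh n) * g :=
  congrArg Subtype.val (Subgroup.mem_center_iff.1 hh.h_mem_center ⟨g, hg⟩)

theorem z_order : orderOf (qu x n (qh n)) = 2 :=
  (Subgroup.orderOf_coe _).trans (hh.order_two.2 (Or.inl rfl))

theorem y_order : orderOf (qv x y n 0) = 2 :=
  (Subgroup.orderOf_coe _).trans (hh.order_two.2 (Or.inr ⟨0, by rw [mul_zero]⟩))

theorem q_order : orderOf (qu x n (qq n)) = 4 :=
  (Subgroup.orderOf_coe _).trans (hh.order_four.2 (Or.inl (Or.inl rfl)))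

theorem v_order : orderOf (qv x y n 1) = 4 :=
  (Subgroup.orderOf_coe _).trans (hh.order_four.2 (Or.inr ⟨0, by rw [mul_zero, zero_add]⟩))

theorem involution_cases {g : G} (hg : g ∈ (S : Subgroup G)) (h : orderOf g = 2) :
    g = qu x n (qh n) ∨ ∃ m, g = qv x y n (2 * m) := by
  rcases hh.order_two.1 (show orderOf (⟨g, hg⟩ : (S : Subgroup G)) = 2 by rwa [Subgroup.orderOf_mk]) with
    e | ⟨m, e⟩
  · exact Or.inl (congrArg Subtype.val e)
  · exact Or.inr ⟨m, congrArg Subtype.val e⟩

theorem four_cases {g : G} (hg : g ∈ (S : Subgroup G)) (h : orderOf g = 4) :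
    (g = qu x n (qq n) ∨ g = qu x n (-qq n)) ∨ ∃ m, g = qv x y n (2 * m + 1) := by
  rcases hh.order_four.1 (show orderOf (⟨g, hg⟩ : (S : Subgroup G)) = 4 by rwa [Subgroup.orderOf_mk]) with
    (e | e) | ⟨m, e⟩
  · exact Or.inl (Or.inl (congrArg Subtype.val e))
  · exact Or.inl (Or.inr (congrArg Subtype.val e))
  · exact Or.inr ⟨m, congrArg Subtype.val e⟩

theorem h_q : qh n * qq n = 0 := by rw [hh.q_even]; exact hh.h_mul_even _

theorem isConj_even' (m : ZMod (2 ^ n)) : IsConj (qv x y n 0) (qv x y n (2 * m)) :=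
  isConj_iff.2 ⟨qu x n (m * (1 + qq n)), by rw [hh.qu_conj_qv, hh.solve, zero_add]⟩

theorem isConj_odd' (m : ZMod (2 ^ n)) : IsConj (qv x y n 1) (qv x y n (2 * m + 1)) :=
  isConj_iff.2 ⟨qu x n (m * (1 + qq n)), by rw [hh.qu_conj_qv, hh.solve, add_comm]⟩

theorem isConj_neg_q : IsConj (qu x n (qq n)) (qu x n (-qq n)) :=
  isConj_iff.2 ⟨qv x y n 0, by rw [hh.qv_conj_qu, hh.h_q, zero_sub]⟩

theorem mem_tG {g : G} :
    g ∈ hh.tG ↔ g = 1 ∨ g = qu x n (qh n) ∨ g = qv x y n 0 ∨ g = qv x y n (qh n) := Iff.rfl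

theorem mem_qG {g : G} :
    g ∈ hh.qG ↔ ∃ i, 4 * i = 0 ∧ (g = qu x n i ∨ g = qv x y n (1 + i)) := Iff.rfl

theorem tG_le : hh.tG ≤ (S : Subgroup G) := by
  rintro _ (rfl | rfl | rfl | rfl)
  exacts [one_mem _, qu_mem _, qv_mem _, qv_mem _]

theorem qG_le : hh.qG ≤ (S : Subgroup G) := by
  rintro _ ⟨i, -, rfl | rfl⟩
  exacts [qu_mem _, qv_mem _]

theorem tG_klein : IsKleinFour hh.tG := by
  classical
  have h1 : qu x n (qh n) ≠ (1 : G) := fun h => by
    have := hh.z_order; rw [h, orderOf_one] at this; omega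
  have h2 : qv x y n 0 ≠ (1 : G) := fun h => by
    have := hh.y_order; rw [h, orderOf_one] at this; omega
  have h3 : qv x y n (qh n) ≠ (1 : G) := fun h => hh.qu_ne_qv 0 (qh n) (qu_zero.trans h.symm)
  refine ⟨?_, ?_⟩
  · rw [show Nat.card hh.tG = Set.ncard (hh.tG : Set G) from rfl,
      show (hh.tG : Set G) = ↑({1, qu x n (qh n), qv x y n 0, qv x y n (qh n)} : Finset G) by
        ext g; simp [mem_tG],
      Set.ncard_coe_finset]
    refine Finset.card_eq_succ.2 ⟨1, {qu x n (qh n), qv x y n 0, qv x y n (qh n)}, ?_, rfl, ?_⟩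
    · simp [h1.symm, h2.symm, h3.symm]
    · exact Finset.card_eq_three.2 ⟨_, _, _, hh.qu_ne_qv _ _, hh.qu_ne_qv _ _,
        fun h => hh.h_ne (hh.qv_inj h).symm, rfl⟩
  · have : Nontrivial hh.tG := ⟨⟨⟨_, Or.inr (Or.inl rfl)⟩, 1, fun h => h1 (congrArg Subtype.val h)⟩⟩
    refine (Monoid.exponent_eq_prime_iff Nat.prime_two).2 ?_
    rintro ⟨g, hg⟩ hne
    rw [Subgroup.orderOf_mk]
    rcases hg with rfl | rfl | rfl | rfl
    · exact absurd rfl hne
    · exact hh.z_order
    · exact hh.y_order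
    · refine orderOf_eq_prime ?_ h3
      rw [pow_two, hh.qv_mul_qv, hh.h_sq, zero_sub, add_neg_cancel, qu_zero]

theorem exists_qG_iso : Nonempty (hh.qG ≃* QuaternionGroup 2) := by
  classical
  let m : ℤ →+ ZMod (2 ^ n) := zmultiplesHom _ (qq n)
  have hm4 : m (2 * 2 : ℕ) = 0 := by
    show ((2 * 2 : ℕ) : ℤ) • qq n = 0
    rw [zsmul_eq_mul]; push_cast
    linear_combination 2 * hh.two_q + hh.two_h
  set φ : ZMod (2 * 2) →+ ZMod (2 ^ n) := ZMod.lift (2 * 2) ⟨m, hm4⟩ with hφdef
  have hφv : ∀ k : ℤ, φ (k : ZMod (2 * 2)) = k * qq n := fun k => by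
    rw [hφdef, ZMod.lift_coe]; exact zsmul_eq_mul _ _
  have hφ : φ ((2 : ℕ) : ZMod (2 * 2)) = qh n := by
    rw [show ((2 : ℕ) : ZMod (2 * 2)) = ((2 : ℤ) : ZMod (2 * 2)) from rfl, hφv]
    push_cast; exact hh.two_q
  have hinj : Function.Injective φ := by
    rw [injective_iff_map_eq_zero]
    intro i hi
    by_contra hne
    have hh' : φ ((2 : ℕ) : ZMod (2 * 2)) = 0 := by
      rcases (by decide : ∀ i : ZMod (2 * 2), i ≠ 0 → i = 2 ∨ i + i = 2) i hne with h | h
      · rw [← hi, h]; rfl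
      · rw [show ((2 : ℕ) : ZMod (2 * 2)) = i + i from h.symm, map_add, hi, add_zero]
    exact hh.h_ne (hφ.symm.trans hh')
  have hzero : ∀ i, qh n * φ i = 0 := fun i => by
    obtain ⟨k, rfl⟩ := ZMod.intCast_surjective i
    rw [hφv, mul_left_comm, hh.h_q, mul_zero]
  let F : QuaternionGroup 2 →* G := MonoidHom.mk' (fun q => match q with
      | .a i => qu x n (φ i)
      | .xa i => qv x y n (1 - φ i)) (by
    rintro (i | i) (j | j)
    · rw [QuaternionGroup.a_mul_a]; show qu x n _ = qu x n _ * qu x n _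
      rw [hh.qu_mul_qu, map_add]
    · rw [QuaternionGroup.a_mul_xa]; show qv x y n _ = qu x n _ * qv x y n _
      rw [hh.qu_mul_qv, map_sub]; congr 1; ring
    · rw [QuaternionGroup.xa_mul_a]; show qv x y n _ = qv x y n _ * qu x n _
      rw [hh.qv_mul_qu, map_add]; congr 1; linear_combination -hzero j
    · rw [QuaternionGroup.xa_mul_xa]; show qu x n _ = qv x y n _ * qv x y n _
      rw [hh.qv_mul_qv, map_sub, map_add, hφ]; congr 1; linear_combination hzero j)
  have hF : Function.Injective F := by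
    rintro (i | i) (j | j) e
    · exact congrArg _ (hinj (hh.qu_inj e))
    · exact absurd e (hh.qu_ne_qv _ _)
    · exact absurd e.symm (hh.qu_ne_qv _ _)
    · exact congrArg _ (hinj (sub_right_injective (hh.qv_inj e)))
  have h4 : ∀ i, 4 * φ i = 0 := fun i => by
    obtain ⟨k, rfl⟩ := ZMod.intCast_surjective i
    rw [hφv]
    linear_combination 2 * (k : ZMod (2 ^ n)) * hh.two_q + (k : ZMod (2 ^ n)) * hh.two_h
  have hsurj : ∀ i : ZMod (2 ^ n), 4 * i = 0 → ∃ j, φ j = i := fun i hi => by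
    rcases hh.four_mul_eq_zero hi with rfl | rfl | rfl | rfl
    · exact ⟨0, map_zero φ⟩
    · exact ⟨_, hφ⟩
    · exact ⟨((1 : ℤ) : ZMod (2 * 2)), by rw [hφv, Int.cast_one, one_mul]⟩
    · exact ⟨((-1 : ℤ) : ZMod (2 * 2)), by rw [hφv, Int.cast_neg, Int.cast_one, neg_one_mul]⟩
  have hrange : F.range = hh.qG := by
    ext g
    constructor
    · rintro ⟨i | i, rfl⟩
      · exact ⟨φ i, h4 i, Or.inl rfl⟩
      · exact ⟨-φ i, by rw [mul_neg, h4, neg_zero], Or.inr (by show qv x y n _ = _; rw [sub_eq_add_neg])⟩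
    · rintro ⟨i, hi, rfl | rfl⟩
      · obtain ⟨j, hj⟩ := hsurj i hi
        exact ⟨.a j, by show qu x n _ = _; rw [hj]⟩
      · obtain ⟨j, hj⟩ := hsurj (-i) (by rw [mul_neg, hi, neg_zero])
        exact ⟨.xa j, by show qv x y n _ = _; rw [hj, sub_neg_eq_add]⟩
  exact ⟨(MulEquiv.subgroupCongr hrange.symm).trans (MonoidHom.ofInjective hF).symm⟩

theorem h_even : qh n = 2 * qq n := hh.two_q.symm

theorem qv_h_conj : qu x n (qq n) * qv x y n 0 * (qu x n (qq n))⁻¹ = qv x y n (qh n) := by
  rw [hh.qu_conj_qv]; congr 1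
  linear_combination hh.two_q - hh.h_q

theorem mem_zpowers_q {g : G} (hg : g ∈ zpowers (qu x n (qq n))) : ∃ i, 4 * i = 0 ∧ g = qu x n i := by
  obtain ⟨k, rfl⟩ := (IsOfFinOrder.mem_powers_iff_mem_zpowers
    (orderOf_pos_iff.1 (by rw [hh.q_order]; norm_num))).2 hg
  refine ⟨k * qq n, by linear_combination 2 * (k : ZMod (2 ^ n)) * hh.two_q + (k : ZMod (2 ^ n)) * hh.two_h, ?_⟩
  exact (SubmonoidClass.coe_pow _ k).symm.trans (congrArg Subtype.val (hh.c_pow _ k))

theorem qu_mem_zpowers_q {i : ZMod (2 ^ n)} (hi : 4 * i = 0) : qu x n i ∈ zpowers (qu x n (qq n)) := by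
  rcases hh.four_mul_eq_zero hi with rfl | rfl | rfl | rfl
  · rw [qu_zero]; exact one_mem _
  · rw [← hh.two_q, two_mul (qq n), ← hh.qu_mul_qu]; exact mul_mem (mem_zpowers _) (mem_zpowers _)
  · exact mem_zpowers _
  · rw [← hh.qu_inv]; exact inv_mem (mem_zpowers _)

variable [Finite G]

theorem sylow_le_normalizer_q : (S : Subgroup G) ≤ normalizer ((zpowers (qu x n (qq n)) : Subgroup G) : Set G) := by
  intro g hg
  refine mem_normalizer_of_forall fun a ha => ?_
  obtain ⟨i, hi, rfl⟩ := hh.mem_zpowers_q ha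
  rcases hh.casesG hg with ⟨j, rfl⟩ | ⟨j, rfl⟩
  · rw [hh.qu_mul_qu, hh.qu_inv, hh.qu_mul_qu, add_neg_cancel_comm]; exact hh.qu_mem_zpowers_q hi
  · rw [hh.qv_conj_qu]
    exact hh.qu_mem_zpowers_q (by linear_combination 2 * i * hh.two_h - hi)

theorem normalizer_z_iff {m : G} :
    m ∈ normalizer ((zpowers (qu x n (qh n)) : Subgroup G) : Set G) ↔
      m * qu x n (qh n) * m⁻¹ = qu x n (qh n) := by
  classical
  constructor
  · intro hm
    have h1 := (mem_normalizer_iff.1 hm _).1 (mem_zpowers (qu x n (qh n)))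
    obtain ⟨k, hk, e⟩ := Finset.mem_image.1 (mem_zpowers_iff_mem_range_orderOf.1 h1)
    rw [hh.z_order, Finset.mem_range] at hk
    have : k = 0 ∨ k = 1 := by omega
    rcases this with rfl | rfl
    · rw [pow_zero, eq_comm, conj_eq_one_iff] at e
      exact absurd (hh.z_order.symm.trans (orderOf_eq_one_iff.2 e)) (by norm_num)
    · rw [pow_one] at e; exact e.symm
  · intro hm
    refine mem_normalizer_of_map_eq' ?_
    rw [MonoidHom.map_zpowers]
    exact congrArg zpowers hm

theorem T_auto :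
    ((centralizer (hh.tG : Set G)).relIndex (normalizer (hh.tG : Set G)) = 2 ∧
      ∀ m ∈ normalizer (hh.tG : Set G), m * qu x n (qh n) * m⁻¹ = qu x n (qh n)) ∨
    ((centralizer (hh.tG : Set G)).relIndex (normalizer (hh.tG : Set G)) = 6 ∧
      ∃ m ∈ normalizer (hh.tG : Set G), ¬ 2 ∣ orderOf m ∧ m * qu x n (qh n) * m⁻¹ ≠ qu x n (qh n)) := by
  classical
  set z := qu x n (qh n) with hz
  have hcomm : ∀ a ∈ hh.tG, ∀ b ∈ hh.tG, a * b = b * a := fun a ha b hb =>
    congrArg Subtype.val (mul_comm_of_exponent_two hh.tG_klein.exponent_two (⟨a, ha⟩ : hh.tG) ⟨b, hb⟩)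
  have hcent : hh.tG ⊔ centralizer (hh.tG : Set G) = centralizer (hh.tG : Set G) :=
    sup_eq_right.2 fun a ha => mem_centralizer_iff.2 fun b hb => hcomm b hb a ha
  have hzp : IsPGroup 2 ↥(zpowers z) := IsPGroup.of_card (n := 1) (by rw [Nat.card_zpowers, hh.z_order, pow_one])
  have hle : zpowers z ≤ hh.tG := zpowers_le.2 (Or.inr (Or.inl rfl))
  have horb : ∀ m ∈ normalizer (hh.tG : Set G),
      m * z * m⁻¹ = z ∨ m * z * m⁻¹ = qv x y n 0 ∨ m * z * m⁻¹ = qv x y n (qh n) := by
    intro m hm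
    rcases (mem_normalizer_iff.1 hm z).1 (Or.inr (Or.inl rfl)) with e | e
    · exact absurd (hh.z_order.symm.trans (orderOf_eq_one_iff.2 (conj_eq_one_iff.1 e))) (by norm_num)
    · exact e
  rcases automiser_cases hh.tG (zpowers z) (S.2.to_le hh.tG_le) hle
      (fun a ha => hh.normalizer_z_iff.2 (by rw [hh.z_comm (hh.tG_le ha), mul_inv_cancel_right]))
      (by
        intro m hm hm0 hmo
        have hmz : m * z = z * m := mul_inv_eq_iff_eq_mul.1 (hh.normalizer_z_iff.1 hm0)
        have hfz : ∀ c ∈ zpowers z, m * c = c * m := fun c hc => by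
          obtain ⟨i, rfl⟩ := mem_zpowers_iff.1 hc
          exact Commute.zpow_right hmz i
        have hy : m * qv x y n 0 = qv x y n 0 * m := by
          refine odd_fix_of_series hmo hzp hfz ?_
          rcases (mem_normalizer_iff.1 hm _).1 (show qv x y n 0 ∈ hh.tG from Or.inr (Or.inr (Or.inl rfl)))
            with e | e | e | e
          · exact absurd (hh.y_order.symm.trans (orderOf_eq_one_iff.2 (conj_eq_one_iff.1 e))) (by norm_num)
          · exfalso
            have h : m * qv x y n 0 * m⁻¹ = m * z * m⁻¹ := by rw [e, hmz, mul_inv_cancel_right]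
            exact hh.qu_ne_qv _ _ (mul_left_cancel (mul_right_cancel h)).symm
          · rw [e, inv_mul_cancel]; exact one_mem _
          · rw [e, show (qv x y n 0)⁻¹ * qv x y n (qh n) = z from ?_]
            · exact mem_zpowers _
            · rw [inv_mul_eq_iff_eq_mul, hh.qv_mul_qu, hh.h_sq, zero_add, zero_sub]
              congr 1; linear_combination hh.two_h
        refine mem_centralizer_iff.2 ?_
        rintro _ (rfl | rfl | rfl | rfl)
        · rw [one_mul, mul_one]
        · exact hmz.symm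
        · exact hy.symm
        · rw [show qv x y n (qh n) = z * qv x y n 0 by rw [hz, hh.qu_mul_qv, add_zero]]
          exact (Commute.mul_right hmz hy).symm)
      ⟨qu x n (qq n), mem_normalizer_of_forall (by
          rintro _ (rfl | rfl | rfl | rfl)
          · rw [mul_one, mul_inv_cancel]; exact one_mem _
          · rw [hh.z_comm (qu_mem _), mul_inv_cancel_right]; exact hle (mem_zpowers _)
          · rw [hh.qv_h_conj]; exact Or.inr (Or.inr (Or.inr rfl))
          · rw [hh.qu_conj_qv]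
            refine Or.inr (Or.inr (Or.inl ?_))
            congr 1; linear_combination hh.two_h + hh.two_q - hh.h_q),
        hh.normalizer_z_iff.2 (by rw [hh.z_comm (qu_mem _), mul_inv_cancel_right]), by
          rw [hcent]
          intro h
          have h1 := mem_centralizer_iff.1 h _ (show qv x y n 0 ∈ hh.tG from Or.inr (Or.inr (Or.inl rfl)))
          have h2 := hh.qv_h_conj
          rw [← h1, mul_inv_cancel_right] at h2
          exact hh.h_ne (hh.qv_inj h2).symm⟩
      (by
        intro R hR hVR hRN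
        obtain ⟨c, hc⟩ := sylow_conj_le S hR
        set V' := hh.tG.map (MulAut.conj c).toMonoidHom with hV'
        have hV'S : V' ≤ (S : Subgroup G) := (Subgroup.map_mono hVR).trans hc
        set E := V'.subgroupOf (S : Subgroup G) with hE
        have hEK : IsKleinFour E := by
          have := hh.tG_klein
          let e : E ≃* hh.tG := (subgroupOfEquivOfLe hV'S).trans
            (equivMapOfInjective hh.tG (MulAut.conj c).toMonoidHom (MulAut.conj c).injective).symm
          exact ⟨(Nat.card_congr e.toEquiv).trans this.card_four,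
            (Monoid.exponent_eq_of_mulEquiv e).trans this.exponent_two⟩
        have hRn : (R.map (MulAut.conj c).toMonoidHom).subgroupOf (S : Subgroup G) ≤ normalizer (E : Set (S : Subgroup G)) := by
          intro r hr
          have h := (Subgroup.map_mono hRN).trans (le_normalizer_map _) (mem_subgroupOf.1 hr)
          exact mem_normalizer_iff.2 fun v => (mem_normalizer_iff.1 h (v : G))
        have h1 := card_le_of_le hRn
        have h2 : Nat.card E * E.relIndex (normalizer (E : Set (S : Subgroup G))) =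
            Nat.card (normalizer (E : Set (S : Subgroup G))) := by
          rw [← relIndex_bot_left E, relIndex_mul_relIndex _ _ _ bot_le le_normalizer, relIndex_bot_left]
        rw [hh.klein_relIndex hEK, hEK.card_four] at h2
        rw [Nat.card_congr (subgroupOfEquivOfLe hc).toEquiv,
          card_map_of_injective (MulAut.conj c).injective] at h1
        rw [hh.tG_klein.card_four]
        omega)
      ⟨{zpowers z, zpowers (qv x y n 0), zpowers (qv x y n (qh n))}, Finset.card_le_three, fun m hm => by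
        rw [MonoidHom.map_zpowers, show (MulAut.conj m).toMonoidHom z = m * z * m⁻¹ from rfl]
        rcases horb m hm with e | e | e <;> (rw [e]; simp)⟩ with ⟨h1, h2⟩ | ⟨h1, m, hm, hmo, hm1⟩
  · exact Or.inl ⟨by rwa [hcent] at h1, fun m hm => hh.normalizer_z_iff.1 (h2 hm)⟩
  · exact Or.inr ⟨by rwa [hcent] at h1, m, hm, hmo, fun e => hm1 (hh.normalizer_z_iff.2 e)⟩

theorem Q_auto :
    ((hh.qG ⊔ centralizer (hh.qG : Set G)).relIndex (normalizer (hh.qG : Set G)) = 2 ∧
      normalizer (hh.qG : Set G) ≤ normalizer ((zpowers (qu x n (qq n)) : Subgroup G) : Set G)) ∨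
    ((hh.qG ⊔ centralizer (hh.qG : Set G)).relIndex (normalizer (hh.qG : Set G)) = 6 ∧
      ∃ m ∈ normalizer (hh.qG : Set G), ¬ 2 ∣ orderOf m ∧
        m ∉ normalizer ((zpowers (qu x n (qq n)) : Subgroup G) : Set G)) := by
  classical
  obtain ⟨eQ⟩ := hh.exists_qG_iso
  set A := qu x n (qq n) with hA
  have hAQ : A ∈ hh.qG := ⟨qq n, by linear_combination 2 * hh.two_q + hh.two_h, Or.inl rfl⟩
  have hle : zpowers A ≤ hh.qG := zpowers_le.2 hAQ
  have hAp : IsPGroup 2 ↥(zpowers A) := S.2.to_le (zpowers_le.2 (qu_mem _))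
  refine automiser_cases hh.qG (zpowers A) (S.2.to_le hh.qG_le) hle
    (fun a ha => hh.sylow_le_normalizer_q (hh.qG_le ha)) ?_ ?_ ?_ ?_
  · intro m hm hmC hmo
    have hfA := odd_fix_cyclic hmo hAp inferInstance hmC
    refine mem_centralizer_iff.2 fun v hv => ?_
    obtain ⟨i, hi, rfl | rfl⟩ := hv
    · exact (hfA _ (hh.qu_mem_zpowers_q hi)).symm
    · refine (odd_fix_of_series hmo hAp hfA ?_).symm
      obtain ⟨j, hj, e | e⟩ := (mem_normalizer_iff.1 hm _).1
        (show qv x y n (1 + i) ∈ hh.qG from ⟨i, hi, Or.inr rfl⟩)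
      · exfalso
        have h := (mem_normalizer_iff.1 hmC (qv x y n (1 + i))).2 (e ▸ hh.qu_mem_zpowers_q hj)
        obtain ⟨k, -, hk⟩ := hh.mem_zpowers_q h
        exact hh.qu_ne_qv _ _ hk.symm
      · rw [e]
        have hinv : (qv x y n (1 + i))⁻¹ * qv x y n (1 + j) =
            qu x n (qh n * (j - i) - (j - i)) := by
          rw [inv_mul_eq_iff_eq_mul, hh.qv_mul_qu]; congr 1
          linear_combination -(j - i) * hh.h_sq + (j - i) * hh.two_h
        rw [hinv]
        exact hh.qu_mem_zpowers_q (by linear_combination 2 * (j - i) * hh.two_h - hj + hi)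
  · set s := 2 ^ (n - 3) * (1 + qq n) with hs
    have hsq : (2 - qh n) * s = qq n := by rw [hs, hh.solve, ← hh.q_even]
    refine ⟨qu x n s, mem_normalizer_of_forall ?_, hh.sylow_le_normalizer_q (qu_mem _), fun h => ?_⟩
    · rintro _ ⟨i, hi, rfl | rfl⟩
      · rw [hh.qu_mul_qu, hh.qu_inv, hh.qu_mul_qu, add_neg_cancel_comm]; exact ⟨i, hi, Or.inl rfl⟩
      · rw [hh.qu_conj_qv, hsq]
        exact ⟨i + qq n, by linear_combination hi + 2 * hh.two_q + hh.two_h, Or.inr (by rw [add_assoc])⟩
    · rw [← SetLike.mem_coe, coe_mul_of_right_le_normalizer_left _ _ (centralizer_le_normalizer _)] at h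
      obtain ⟨v, hv, c, hc, e⟩ := h
      have e : v * c = qu x n s := e
      have hcS : c ∈ (S : Subgroup G) := by
        have := (S : Subgroup G).mul_mem ((S : Subgroup G).inv_mem (hh.qG_le hv)) (qu_mem s (x := x))
        rwa [← e, inv_mul_cancel_left] at this
      have hcQ : (⟨c, hcS⟩ : (S : Subgroup G)) ∈ hh.qG.subgroupOf (S : Subgroup G) := by
        have h := hh.q8_centralizer ((subgroupOfEquivOfLe hh.qG_le).trans eQ)
        have hmem : (⟨c, hcS⟩ : (S : Subgroup G)) ∈
            centralizer ((hh.qG.subgroupOf (S : Subgroup G) : Subgroup (S : Subgroup G)) : Set (S : Subgroup G)) :=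
          mem_centralizer_iff.2 fun w hw => Subtype.ext (mem_centralizer_iff.1 hc (w : G) hw)
        rw [h] at hmem
        exact map_subtype_le _ hmem
      obtain ⟨i, hi, h2 | h2⟩ := hh.mem_qG.1 (e ▸ hh.qG.mul_mem hv hcQ)
      · refine hh.h_ne ?_
        rw [← hh.two_q, ← hsq, hh.qu_inj h2]
        linear_combination hi - i * hh.two_h
      · exact hh.qu_ne_qv _ _ h2
  · intro R hR hVR hRN
    obtain ⟨c, hc⟩ := sylow_conj_le S hR
    set V' := hh.qG.map (MulAut.conj c).toMonoidHom with hV'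
    have hV'S : V' ≤ (S : Subgroup G) := (Subgroup.map_mono hVR).trans hc
    set E := V'.subgroupOf (S : Subgroup G) with hE
    let e : E ≃* QuaternionGroup 2 := ((subgroupOfEquivOfLe hV'S).trans
      (equivMapOfInjective hh.qG (MulAut.conj c).toMonoidHom (MulAut.conj c).injective).symm).trans eQ
    have hRn : (R.map (MulAut.conj c).toMonoidHom).subgroupOf (S : Subgroup G) ≤ normalizer (E : Set (S : Subgroup G)) := by
      intro r hr
      have h := (Subgroup.map_mono hRN).trans (le_normalizer_map _) (mem_subgroupOf.1 hr)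
      exact mem_normalizer_iff.2 fun v => (mem_normalizer_iff.1 h (v : G))
    have h1 := card_le_of_le hRn
    have h2 : Nat.card E * E.relIndex (normalizer (E : Set (S : Subgroup G))) =
        Nat.card (normalizer (E : Set (S : Subgroup G))) := by
      rw [← relIndex_bot_left E, relIndex_mul_relIndex _ _ _ bot_le le_normalizer, relIndex_bot_left]
    rw [hh.q8_relIndex e, Nat.card_congr e.toEquiv] at h2
    rw [Nat.card_congr (subgroupOfEquivOfLe hc).toEquiv,
      card_map_of_injective (MulAut.conj c).injective] at h1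
    rw [Nat.card_congr eQ.toEquiv]
    omega
  · refine ⟨{zpowers A, zpowers (qv x y n 1), zpowers (qv x y n (1 + qq n))}, Finset.card_le_three,
      fun m hm => ?_⟩
    rw [MonoidHom.map_zpowers, show (MulAut.conj m).toMonoidHom A = m * A * m⁻¹ from rfl]
    have ho : orderOf (m * A * m⁻¹) = 4 := (Cfsg.Agent.Invol.orderOf_conj m _).trans hh.q_order
    obtain ⟨i, hi, e | e⟩ := (mem_normalizer_iff.1 hm _).1 hAQ
    · have hAi : zpowers (qu x n i) = zpowers A := by
        refine eq_of_le_of_card_ge (zpowers_le.2 (hh.qu_mem_zpowers_q hi)) ?_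
        rw [Nat.card_zpowers, Nat.card_zpowers, ← e, ho, hh.q_order]
      rw [e, hAi]; simp
    · have hinv : ∀ j, qh n * j = 0 → (qv x y n (1 + j))⁻¹ = qv x y n (1 + (j + qh n)) := fun j hj => by
        refine inv_eq_of_mul_eq_one_right ?_
        rw [hh.qv_mul_qv, show (1 + j) + (qh n * (1 + (j + qh n)) - (1 + (j + qh n))) = (0 : ZMod (2 ^ n)) by
          linear_combination hj + hh.h_sq, qu_zero]
      rcases hh.four_mul_eq_zero hi with rfl | rfl | rfl | rfl
      · rw [e, add_zero]; simp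
      · have h := hinv 0 (mul_zero _)
        rw [zero_add, add_zero] at h
        rw [e, ← h, zpowers_inv]; simp
      · rw [e]; simp
      · have h := hinv (qq n) hh.h_q
        rw [show qq n + qh n = -qq n by linear_combination hh.two_q + hh.two_h] at h
        rw [e, ← h, zpowers_inv]; simp

end QDGen

end Cfsg.Agent.Invol
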