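import Mathlib.GroupTheory.Transfer
import Mathlib.GroupTheory.Abelianization.Defs
import Mathlib.Tactic

/-!
Small consequences of the transfer: central elements in derived subgroups.
-/

set_option autoImplicit false

namespace Cfsg.Agent.Invol

variable {G : Type*} [Group G]

open scoped IsMulCommutative in
/-- The transfer to an abelian group `A`, evaluated at a central element of `H`. -/
theorem map_pow_index_eq_one_of_mem_commutator {H : Subgroup G} [H.FiniteIndex] {A : Type*}
    [CommGroup A] (f : H →* A) (z : H) (hz : (z : G) ∈ Subgroup.center G)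
    (hz' : (z : G) ∈ commutator G) : f z ^ H.index = 1 := by
  have key : ∀ (k : ℕ) (g₀ : G), g₀⁻¹ * (z : G) ^ k * g₀ ∈ H →
      g₀⁻¹ * (z : G) ^ k * g₀ = (z : G) ^ k := fun k g₀ _ => by
    rw [mul_assoc, ← Subgroup.mem_center_iff.1 (pow_mem hz k) g₀, inv_mul_cancel_left]
  have h1 : MonoidHom.transfer f (z : G) = 1 :=
    Abelianization.commutator_subset_ker (MonoidHom.transfer f) hz'
  rw [MonoidHom.transfer_eq_pow f (z : G) key] at h1
  rw [← map_pow]
  exact h1

open scoped IsMulCommutative in
/-- An abelian subgroup of order prime to its index meets `G' ∩ Z(G)` trivially. -/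
theorem eq_one_of_mem_abelian_hall [Finite G] (H : Subgroup G) [IsMulCommutative H]
    (hHall : Nat.Coprime (Nat.card H) H.index) {z : G} (hzH : z ∈ H)
    (hzG : z ∈ commutator G) (hzZ : z ∈ Subgroup.center G) : z = 1 := by
  have h := map_pow_index_eq_one_of_mem_commutator (MonoidHom.id H) ⟨z, hzH⟩ hzZ hzG
  have := (Nat.Coprime.pow_left_bijective hHall).1 (a₁ := (⟨z, hzH⟩ : H)) (a₂ := 1) (by simpa using h)
  exact Subtype.ext_iff.1 this

theorem sylow_hall [Finite G] {p : ℕ} [Fact p.Prime] (P : Sylow p G) :
    Nat.Coprime (Nat.card (P : Subgroup G)) (P : Subgroup G).index :=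
  P.card_coprime_index

end Cfsg.Agent.Invol
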