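import Cfsg.Agent.Invol.ZStar

/-!
Elements of a Sylow 2-subgroup with no further conjugates are central modulo the odd core.
-/

set_option autoImplicit false

namespace Cfsg.Agent.Invol

open Cfsg.Agent

universe u

variable {G : Type u} [Group G] [Finite G]

/-- Modulo a central subgroup of order two the odd core stays trivial. -/
theorem oddCore_quotient_eq_bot_of_central (hO : Cfsg.oddCore G = ⊥) {c : G}
    (hc : c ∈ Subgroup.center G) (hc2 : orderOf c = 2) [(Subgroup.zpowers c).Normal] :
    Cfsg.oddCore (G ⧸ Subgroup.zpowers c) = ⊥ := by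
  set Z := Subgroup.zpowers c with hZ
  have hZc : Z ≤ Subgroup.center G := Subgroup.zpowers_le.2 hc
  have hZcard : Nat.card Z = 2 := by rw [hZ, Nat.card_zpowers, hc2]
  set f := QuotientGroup.mk' Z with hf
  set K := (Cfsg.pPrimeCore 2 (G ⧸ Z)).comap f with hK
  have : K.Normal := Subgroup.Normal.comap inferInstance f
  have hZK : Z ≤ K := fun x hx => by
    rw [hK, Subgroup.mem_comap, hf, QuotientGroup.mk'_apply, (QuotientGroup.eq_one_iff x).2 hx]
    exact one_mem _
  have hKcard : Nat.card K = 2 * Nat.card (Cfsg.pPrimeCore 2 (G ⧸ Z)) := by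
    have h1 := Subgroup.card_mul_index K
    rw [hK, Subgroup.index_comap_of_surjective _ (QuotientGroup.mk'_surjective Z),
      Subgroup.card_eq_card_quotient_mul_card_subgroup Z, hZcard,
      ← Subgroup.card_mul_index (Cfsg.pPrimeCore 2 (G ⧸ Z))] at h1
    refine Nat.eq_of_mul_eq_mul_right (Nat.pos_of_ne_zero Subgroup.index_ne_zero_of_finite)
      (h1.trans ?_)
    ring
  have hodd : ¬ 2 ∣ Nat.card (Cfsg.pPrimeCore 2 (G ⧸ Z)) := Core.not_dvd_card_pPrimeCore
  have hcardP : Nat.card (Z.subgroupOf K) = 2 ^ (Nat.card K).factorization 2 := by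
    rw [Nat.card_congr (Subgroup.subgroupOfEquivOfLe hZK).toEquiv, hZcard, hKcard,
      Nat.factorization_mul two_ne_zero Nat.card_pos.ne', Finsupp.add_apply,
      Nat.Prime.factorization_self Nat.prime_two, Nat.factorization_eq_zero_of_not_dvd hodd]
    norm_num
  set P : Sylow 2 K := Sylow.ofCard (Z.subgroupOf K) hcardP with hPdef
  have hP : Subgroup.normalizer ((P : Subgroup K) : Set K) ≤
      Subgroup.centralizer ((P : Subgroup K) : Set K) := fun x _ => by
    refine Subgroup.mem_centralizer_iff.2 fun y hy => Subtype.ext ?_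
    have hy' : (y : G) ∈ Z := by
      rw [hPdef, Sylow.coe_ofCard] at hy
      exact hy
    exact (Subgroup.mem_center_iff.1 (hZc hy') x).symm
  have hR : (MonoidHom.transferSylow P hP).ker ≤ Cfsg.pPrimeCore 2 K :=
    Core.le_pPrimeCore ((Nat.prime_two.coprime_iff_not_dvd.2
      (MonoidHom.not_dvd_card_ker_transferSylow P hP)).symm)
  refine (Subgroup.eq_bot_iff_forall _).2 fun q hq => ?_
  obtain ⟨v, rfl⟩ := QuotientGroup.mk_surjective q
  have hvK : v ∈ K := hq
  -- the odd part of `v` has the same image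
  obtain ⟨r, hr, p, hp, he⟩ := (show ∃ r ∈ (MonoidHom.transferSylow P hP).ker, ∃ p ∈ (P : Subgroup K),
      (⟨v, hvK⟩ : K) = r * p from by
    have hcompl : Subgroup.IsComplement' (MonoidHom.transferSylow P hP).ker (P : Subgroup K) :=
      MonoidHom.ker_transferSylow_isComplement' P hP
    obtain ⟨⟨r, p⟩, hrp⟩ := hcompl.2 (⟨v, hvK⟩ : K)
    exact ⟨r, r.2, p, p.2, hrp.symm⟩)
  have hr1 := Subgroup.mem_map_of_mem K.subtype (hR hr)
  rw [Core.map_pPrimeCore_normal, show Cfsg.pPrimeCore 2 G = ⊥ from hO, bot_inf_eq,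
    Subgroup.mem_bot] at hr1
  rw [hPdef, Sylow.coe_ofCard] at hp
  refine (QuotientGroup.eq_one_iff v).2 ?_
  have h2 := congrArg Subtype.val he
  simp only [Subgroup.coe_mul, Subgroup.subtype_apply] at h2 hr1
  rw [h2, hr1, one_mul]
  exact hp

theorem zstar_elt_aux : ∀ (n : ℕ) (G : Type u) [Group G] [Finite G], Nat.card G < n →
    ∀ (P : Sylow 2 G) (x : G), x ∈ P →
      (∀ y ∈ Subgroup.zpowers x, ∀ g : G, g * y * g⁻¹ ∈ P → g * y * g⁻¹ = y) →
      ∀ g : G, x * g * x⁻¹ * g⁻¹ ∈ Cfsg.oddCore G := by
  intro n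
  induction n with
  | zero => intro G _ _ h; omega
  | succ n ih =>
    intro G _ _ hlt P x hx hiso g
    by_cases hO : Cfsg.oddCore G = ⊥
    · suffices hcen : x ∈ Subgroup.center G by
        rw [← Subgroup.mem_center_iff.1 hcen g, mul_inv_cancel_right, mul_inv_cancel]
        exact one_mem _
      by_cases hx1 : x = 1
      · rw [hx1]; exact one_mem _
      obtain ⟨k, hk⟩ := IsPGroup.iff_orderOf.1 P.2 ⟨x, hx⟩
      rw [Subgroup.orderOf_mk] at hk
      have hk0 : k ≠ 0 := by rintro rfl; exact hx1 (orderOf_eq_one_iff.1 (by rw [hk, pow_zero]))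
      set z := x ^ 2 ^ (k - 1) with hz
      have hz2 : orderOf z = 2 := by
        rw [hz, orderOf_pow_of_dvd (by positivity) (by rw [hk]; exact pow_dvd_pow 2 (by omega)), hk,
          Nat.pow_div (by omega) two_pos, show k - (k - 1) = 1 by omega, pow_one]
      have hzx : z ∈ Subgroup.zpowers x := Subgroup.npow_mem_zpowers x _
      have hzP : z ∈ P := (Subgroup.zpowers_le.2 hx) hzx
      have hzi := isolated_of_sylow P hz2 (hiso z hzx)
      have hzc : z ∈ Subgroup.center G := Subgroup.mem_center_iff.2 fun h => by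
        have := zstar hzi h
        rw [hO, Subgroup.mem_bot, mul_inv_eq_one, mul_inv_eq_iff_eq_mul] at this
        exact this.symm
      have hZc : Subgroup.zpowers z ≤ Subgroup.center G := Subgroup.zpowers_le.2 hzc
      haveI : (Subgroup.zpowers z).Normal := ⟨fun m hm h => by
        rw [Subgroup.mem_center_iff.1 (hZc hm) h, mul_inv_cancel_right]; exact hm⟩
      have hlt' : Nat.card (G ⧸ Subgroup.zpowers z) < n := by
        have := Core.card_quotient_lt (N := Subgroup.zpowers z) fun e => by
          have hc := Nat.card_zpowers z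
          rw [e, Subgroup.card_bot, hz2] at hc
          omega
        omega
      have hs := QuotientGroup.mk'_surjective (Subgroup.zpowers z)
      have hback : ∀ w : G, QuotientGroup.mk' (Subgroup.zpowers z) w ∈ P.mapSurjective hs → w ∈ P := by
        intro w hw
        obtain ⟨p, hp, hpw⟩ := hw
        have hd := QuotientGroup.eq.1 hpw
        have := mul_mem (show p ∈ (P : Subgroup G) from hp) ((Subgroup.zpowers_le.2 hzP) hd)
        rwa [mul_inv_cancel_left] at this
      have hrec : ∀ h : G, x * h * x⁻¹ * h⁻¹ ∈ Subgroup.zpowers z := by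
        intro h
        have := ih (G ⧸ Subgroup.zpowers z) hlt' (P.mapSurjective hs)
          (QuotientGroup.mk' (Subgroup.zpowers z) x) ⟨x, hx, rfl⟩ (fun y hy q hq => by
            obtain ⟨i, rfl⟩ := Subgroup.mem_zpowers_iff.1 hy
            obtain ⟨q, rfl⟩ := hs q
            rw [← map_zpow, ← map_inv, ← map_mul, ← map_mul] at hq ⊢
            rw [hiso _ (Subgroup.zpow_mem_zpowers x i) q (hback _ hq)])
          (QuotientGroup.mk' (Subgroup.zpowers z) h)
        rw [oddCore_quotient_eq_bot_of_central hO hzc hz2, Subgroup.mem_bot, ← map_inv, ← map_inv,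
          ← map_mul, ← map_mul, ← map_mul] at this
        exact (QuotientGroup.eq_one_iff _).1 this
      refine Subgroup.mem_center_iff.2 fun h => mul_inv_eq_iff_eq_mul.1
        (hiso x (Subgroup.mem_zpowers x) h ?_)
      show h * x * h⁻¹ ∈ (P : Subgroup G)
      have := mul_mem (inv_mem ((Subgroup.zpowers_le.2 hzP) (hrec h))) hx
      simpa [mul_assoc] using this
    · set O := Cfsg.oddCore G with hOdef
      have hs := QuotientGroup.mk'_surjective O
      have hlt' : Nat.card (G ⧸ O) < n := by
        have := Core.card_quotient_lt hO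
        omega
      have h := ih (G ⧸ O) hlt' (P.mapSurjective hs) (QuotientGroup.mk' O x) ⟨x, hx, rfl⟩
        (fun y hy q hq => by
          obtain ⟨i, rfl⟩ := Subgroup.mem_zpowers_iff.1 hy
          obtain ⟨q, rfl⟩ := hs q
          rw [← map_zpow, ← map_inv, ← map_mul, ← map_mul] at hq ⊢
          set y := x ^ i with hy'
          have hyx : y ∈ Subgroup.zpowers x := Subgroup.zpow_mem_zpowers x i
          have hyP : y ∈ P := (Subgroup.zpowers_le.2 hx) hyx
          obtain ⟨p, hp, hpw⟩ := hq
          have hPH : (P : Subgroup G) ≤ (P : Subgroup G) ⊔ O := le_sup_left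
          have hy'H : q * y * q⁻¹ ∈ (P : Subgroup G) ⊔ O := by
            have hd := QuotientGroup.eq.1 hpw
            have := mul_mem (Subgroup.mem_sup_left (T := O) (show p ∈ (P : Subgroup G) from hp))
              (Subgroup.mem_sup_right (S := (P : Subgroup G)) hd)
            rwa [mul_inv_cancel_left] at this
          have hpg : IsPGroup 2 (Subgroup.zpowers (⟨_, hy'H⟩ : ↥((P : Subgroup G) ⊔ O))) := by
            obtain ⟨j, hj⟩ := IsPGroup.iff_orderOf.1 P.2 ⟨y, hyP⟩
            exact IsPGroup.of_card (n := j) (by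
              rw [Nat.card_zpowers, Subgroup.orderOf_mk, orderOf_conj, ← hj, Subgroup.orderOf_mk])
          obtain ⟨Q, hQ⟩ := hpg.exists_le_sylow
          obtain ⟨d, hd⟩ := MulAction.exists_smul_eq ↥((P : Subgroup G) ⊔ O) Q (P.subtype hPH)
          have hmem : (d : G) * (q * y * q⁻¹) * (d : G)⁻¹ ∈ P := by
            have h2 : d * ⟨_, hy'H⟩ * d⁻¹ ∈ ((d • Q : Sylow 2 _) : Subgroup _) := by
              rw [Sylow.coe_subgroup_smul]
              exact ⟨_, hQ (Subgroup.mem_zpowers _), rfl⟩
            rw [hd] at h2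
            exact h2
          have he := hiso y hyx ((d : G) * q) (by simpa [mul_assoc] using hmem)
          have hd' : ∃ p' ∈ (P : Subgroup G), ∃ o ∈ O, p' * o = (d : G) := Subgroup.mem_sup_of_normal_right.1 d.2
          obtain ⟨p', hp', o, ho, hpo⟩ := hd'
          have hco : p' * y = y * p' := mul_inv_eq_iff_eq_mul.1
            (hiso y hyx p' (mul_mem (mul_mem hp' hyP) (inv_mem hp')))
          have ho1 : QuotientGroup.mk' O o = 1 := (QuotientGroup.eq_one_iff o).2 ho
          have hqd : QuotientGroup.mk' O (q * y * q⁻¹) = QuotientGroup.mk' O (p'⁻¹ * y * p') := by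
            have e1 : q * y * q⁻¹ = o⁻¹ * (p'⁻¹ * y * p') * o := by
              rw [← hpo] at he
              calc q * y * q⁻¹ = o⁻¹ * (p'⁻¹ * ((p' * o * q) * y * (p' * o * q)⁻¹) * p') * o := by group
                _ = _ := by rw [he]
            rw [e1, map_mul, map_mul _ o⁻¹, map_inv, ho1, inv_one, one_mul, mul_one]
          rw [hqd, mul_assoc p'⁻¹, ← hco, inv_mul_cancel_left])
        (QuotientGroup.mk' O g)
      rw [show Cfsg.oddCore (G ⧸ O) = ⊥ from Core.pPrimeCore_quotient_eq_bot,
        Subgroup.mem_bot, ← map_inv, ← map_inv, ← map_mul, ← map_mul, ← map_mul] at h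
      exact (QuotientGroup.eq_one_iff _).1 h

/-- An element all of whose powers have no other conjugate in the Sylow subgroup is central
modulo the odd core. -/
theorem zstar_elt (P : Sylow 2 G) {x : G} (hx : x ∈ P)
    (hiso : ∀ y ∈ Subgroup.zpowers x, ∀ g : G, g * y * g⁻¹ ∈ P → g * y * g⁻¹ = y) (g : G) :
    x * g * x⁻¹ * g⁻¹ ∈ Cfsg.oddCore G :=
  zstar_elt_aux _ G (Nat.lt_succ_self _) P x hx hiso g

end Cfsg.Agent.Invol
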