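import Cfsg.Prelude.Def_CaseTheorems
import Mathlib.Data.ZMod.Basic
import Mathlib.GroupTheory.Index
import Mathlib.GroupTheory.OrderOfElement
import Mathlib.Tactic.Ring
import Mathlib.Tactic.LinearCombination

/-!
Normal form in a quasi-dihedral group of order `2 ^ (n + 1)`.
-/

set_option autoImplicit false

namespace Cfsg.Agent.Invol

variable {S : Type*} [Group S]

/-- Quasi-dihedral generators: `x` of order `2 ^ n` and an involution `y`. -/
structure QDGen (x y : S) (n : ℕ) : Prop where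
  three_le : 3 ≤ n
  ordx : orderOf x = 2 ^ n
  ordy : orderOf y = 2
  rel : y * x * y⁻¹ = x ^ (2 ^ (n - 1) - 1)
  card : Nat.card S = 2 ^ (n + 1)

theorem qdgen_exists (hS : Cfsg.IsQuasiDihedral S) : ∃ (x y : S) (n : ℕ), QDGen x y n := by
  obtain ⟨n, hn, hc, x, y, hx, hy, h⟩ := hS
  exact ⟨x, y, n, hn, hx, hy, h, hc⟩

theorem qdgen_exists' (hS : Cfsg.IsQuasiDihedral S) {n : ℕ} (hn : Nat.card S = 2 ^ (n + 1)) :
    ∃ x y : S, QDGen x y n := by
  obtain ⟨x, y, m, h⟩ := qdgen_exists hS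
  obtain rfl : m = n := by
    have := Nat.pow_right_injective le_rfl (h.card.symm.trans hn)
    omega
  exact ⟨x, y, h⟩

/-- Powers of `x` indexed by residues. -/
def qc (x : S) (n : ℕ) (i : ZMod (2 ^ n)) : S := x ^ i.val

/-- half of the modulus -/
def qh (n : ℕ) : ZMod (2 ^ n) := 2 ^ (n - 1)

/-- quarter of the modulus -/
def qq (n : ℕ) : ZMod (2 ^ n) := 2 ^ (n - 2)

theorem two_pow_eq_zero {n m : ℕ} (h : n ≤ m) : (2 : ZMod (2 ^ n)) ^ m = 0 := by
  rw [show m = n + (m - n) by omega, pow_add,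
    show (2 : ZMod (2 ^ n)) ^ n = ((2 ^ n : ℕ) : ZMod (2 ^ n)) by push_cast; ring,
    ZMod.natCast_self, zero_mul]

variable {x y : S} {n : ℕ}

namespace QDGen

variable (hh : QDGen x y n)
include hh

theorem two_h : 2 * qh n = 0 := by
  have := hh.three_le
  rw [qh, ← pow_succ']
  exact two_pow_eq_zero (by omega)

theorem two_q : 2 * qq n = qh n := by
  have := hh.three_le
  rw [qq, qh, ← pow_succ']
  congr 1
  omega

theorem two_qq : 2 * (qq n * qq n) = 0 := by
  have := hh.three_le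
  rw [qq, ← pow_add, ← pow_succ']
  exact two_pow_eq_zero (by omega)

theorem h_sq : qh n * qh n = 0 := by
  have := hh.three_le
  rw [qh, ← pow_add]
  exact two_pow_eq_zero (by omega)

theorem q_even : qq n = 2 * 2 ^ (n - 3) := by
  have := hh.three_le
  rw [qq, ← pow_succ']
  congr 1
  omega

theorem h_ne : qh n ≠ 0 := by
  have := hh.three_le
  rw [qh, show (2 : ZMod (2 ^ n)) ^ (n - 1) = ((2 ^ (n - 1) : ℕ) : ZMod (2 ^ n)) by push_cast; ring,
    ne_eq, ZMod.natCast_eq_zero_iff]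
  intro h
  have h2 := Nat.le_of_dvd (by positivity) h
  have : 2 ^ n = 2 * 2 ^ (n - 1) := by rw [← pow_succ', show n - 1 + 1 = n by omega]
  have := Nat.two_pow_pos (n - 1)
  omega

theorem q_ne : qq n ≠ 0 := fun h => hh.h_ne (by rw [← hh.two_q, h, mul_zero])

theorem q_ne_neg : qq n ≠ -qq n := fun h => hh.h_ne (by rw [← hh.two_q]; linear_combination h)

theorem c_add (i j : ZMod (2 ^ n)) : qc x n (i + j) = qc x n i * qc x n j := by
  have h := pow_mod_orderOf x (i.val + j.val)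
  rw [hh.ordx] at h
  rw [qc, qc, qc, ← pow_add, ZMod.val_add, h]

omit hh in
theorem c_zero : qc x n 0 = 1 := by simp [qc]

theorem c_natCast (k : ℕ) : qc x n (k : ZMod (2 ^ n)) = x ^ k := by
  have h := pow_mod_orderOf x k
  rw [hh.ordx] at h
  rw [qc, ZMod.val_natCast, h]

theorem c_one : qc x n 1 = x := by
  rw [← Nat.cast_one, hh.c_natCast, pow_one]

theorem c_neg (i : ZMod (2 ^ n)) : qc x n (-i) = (qc x n i)⁻¹ :=
  eq_inv_of_mul_eq_one_left (by rw [← hh.c_add, neg_add_cancel, c_zero])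

theorem c_inj {i j : ZMod (2 ^ n)} (h : qc x n i = qc x n j) : i = j := by
  have hlt : ∀ a : ZMod (2 ^ n), a.val < orderOf x := fun a => lt_of_lt_of_eq a.val_lt hh.ordx.symm
  exact ZMod.val_injective _ (pow_injOn_Iio_orderOf (hlt i) (hlt j) h)

theorem c_eq_one {i : ZMod (2 ^ n)} : qc x n i = 1 ↔ i = 0 :=
  ⟨fun h => hh.c_inj (h.trans c_zero.symm), fun h => h ▸ c_zero⟩

theorem c_pow (i : ZMod (2 ^ n)) (k : ℕ) : qc x n i ^ k = qc x n (k * i) := by
  induction k with
  | zero => simp [c_zero]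
  | succ k ih => rw [pow_succ, ih, ← hh.c_add]; push_cast; congr 1; ring

theorem y_sq : y * y = 1 := by
  rw [← pow_two, ← hh.ordy, pow_orderOf_eq_one]

theorem y_inv : y⁻¹ = y := inv_eq_of_mul_eq_one_right hh.y_sq

theorem y_mul (i : ZMod (2 ^ n)) : y * qc x n i = qc x n (qh n * i - i) * y := by
  have h1 : y * qc x n i * y⁻¹ = qc x n (qh n * i - i) := by
    have hk : qh n * i - i = (((2 ^ (n - 1) - 1) * i.val : ℕ) : ZMod (2 ^ n)) := by
      rw [Nat.cast_mul, Nat.cast_sub Nat.one_le_two_pow, ZMod.natCast_zmod_val]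
      push_cast
      rw [qh]
      ring
    rw [hk, hh.c_natCast, pow_mul, qc, ← conj_pow, hh.rel]
  rw [← h1, inv_mul_cancel_right]

theorem y_notMem : y ∉ Subgroup.zpowers x := by
  intro h
  obtain ⟨i, rfl⟩ := Subgroup.mem_zpowers_iff.1 h
  have h1 := hh.rel
  rw [((Commute.refl x).zpow_left i).eq, mul_inv_cancel_right] at h1
  nth_rewrite 1 [← hh.c_one] at h1
  rw [← hh.c_natCast] at h1
  have h2 := hh.c_inj h1
  rw [Nat.cast_sub Nat.one_le_two_pow, Nat.cast_pow] at h2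
  push_cast at h2
  refine hh.h_ne ?_
  have e : qh n = 2 * (1 : ZMod (2 ^ n)) := by rw [qh]; linear_combination -h2
  have h4 : (2 : ZMod (2 ^ n)) * 2 = 0 := by linear_combination hh.two_h - 2 * e
  have hn := hh.three_le
  rw [qh, show n - 1 = 2 + (n - 3) by omega, pow_add, pow_two, h4, zero_mul]

theorem c_ne (i j : ZMod (2 ^ n)) : qc x n i ≠ qc x n j * y := by
  intro h
  refine hh.y_notMem ?_
  rw [show y = (qc x n j)⁻¹ * qc x n i by rw [h, inv_mul_cancel_left]]
  exact mul_mem (inv_mem (Subgroup.npow_mem_zpowers x _)) (Subgroup.npow_mem_zpowers x _)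

theorem cy_ne_one (i : ZMod (2 ^ n)) : qc x n i * y ≠ 1 := fun h =>
  hh.c_ne 0 i (by rw [h, c_zero])

theorem cy_inj {i j : ZMod (2 ^ n)} (h : qc x n i * y = qc x n j * y) : i = j :=
  hh.c_inj (mul_right_cancel h)

theorem index_x : (Subgroup.zpowers x).index = 2 := by
  have h := (Subgroup.zpowers x).card_mul_index
  rw [Nat.card_zpowers, hh.ordx, hh.card, pow_succ] at h
  exact Nat.eq_of_mul_eq_mul_left (Nat.two_pow_pos n) h

theorem cases (s : S) : (∃ i, s = qc x n i) ∨ ∃ i, s = qc x n i * y := by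
  have : Finite S := Nat.finite_of_card_ne_zero (by rw [hh.card]; positivity)
  have hz : ∀ z ∈ Subgroup.zpowers x, ∃ i, z = qc x n i := fun z hz => by
    obtain ⟨k, rfl⟩ := (mem_powers_iff_mem_zpowers.2 hz : z ∈ Submonoid.powers x)
    exact ⟨k, (hh.c_natCast k).symm⟩
  by_cases hs : s ∈ Subgroup.zpowers x
  · exact Or.inl (hz s hs)
  · obtain ⟨i, hi⟩ := hz (s * y) (by
      rw [Subgroup.mul_mem_iff_of_index_two hh.index_x]
      simp [hs, hh.y_notMem])
    exact Or.inr ⟨i, by rw [← hi, mul_assoc, hh.y_sq, mul_one]⟩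

theorem c_mul_cy (i j : ZMod (2 ^ n)) : qc x n i * (qc x n j * y) = qc x n (i + j) * y := by
  rw [← mul_assoc, hh.c_add]

theorem cy_mul_c (i j : ZMod (2 ^ n)) :
    qc x n i * y * qc x n j = qc x n (i + (qh n * j - j)) * y := by
  rw [mul_assoc, hh.y_mul, ← mul_assoc, hh.c_add]

theorem cy_mul_cy (i j : ZMod (2 ^ n)) :
    qc x n i * y * (qc x n j * y) = qc x n (i + (qh n * j - j)) := by
  rw [← mul_assoc, hh.cy_mul_c, mul_assoc, hh.y_sq, mul_one]

theorem cy_sq (i : ZMod (2 ^ n)) : qc x n i * y * (qc x n i * y) = qc x n (qh n * i) := by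
  rw [hh.cy_mul_cy]; congr 1; ring

/-- conjugating an outside element by a power of `x` -/
theorem c_conj_cy (j i : ZMod (2 ^ n)) :
    qc x n j * (qc x n i * y) * (qc x n j)⁻¹ = qc x n (i + (2 - qh n) * j) * y := by
  rw [hh.c_mul_cy, ← hh.c_neg, hh.cy_mul_c]
  congr 2
  ring

/-- The map `j ↦ (2 - h) j` hits all even residues. -/
theorem solve (m : ZMod (2 ^ n)) : (2 - qh n) * (m * (1 + qq n)) = 2 * m := by
  linear_combination (-m) * hh.two_qq + (m * (1 + qq n)) * hh.two_q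

theorem two_mul_eq_zero {i : ZMod (2 ^ n)} (h : 2 * i = 0) : i = 0 ∨ i = qh n := by
  have hd : 2 ^ n ∣ 2 * i.val := by
    rw [← ZMod.natCast_eq_zero_iff]; push_cast; rw [ZMod.natCast_zmod_val, h]
  have hn := hh.three_le
  have he : 2 ^ n = 2 * 2 ^ (n - 1) := by rw [← pow_succ', show n - 1 + 1 = n by omega]
  have hlt := i.val_lt
  replace hd : 2 * 2 ^ (n - 1) ∣ 2 * i.val := (dvd_of_eq he.symm).trans hd
  replace hlt : i.val < 2 * 2 ^ (n - 1) := lt_of_lt_of_eq hlt he
  obtain ⟨c, hc⟩ := Nat.dvd_of_mul_dvd_mul_left two_pos hd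
  rcases c with _ | _ | c
  · exact Or.inl (by rw [← ZMod.natCast_zmod_val i, hc, mul_zero, Nat.cast_zero])
  · refine Or.inr ?_
    rw [← ZMod.natCast_zmod_val i, hc, qh]
    push_cast
    ring
  · exfalso
    rw [hc] at hlt
    nlinarith [Nat.two_pow_pos (n - 1)]

omit hh in
theorem parity (i : ZMod (2 ^ n)) : ∃ m, i = 2 * m ∨ i = 2 * m + 1 := by
  refine ⟨((i.val / 2 : ℕ) : ZMod (2 ^ n)), ?_⟩
  have h : i = ((2 * (i.val / 2) + i.val % 2 : ℕ) : ZMod (2 ^ n)) := by
    rw [Nat.div_add_mod, ZMod.natCast_zmod_val]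
  rcases Nat.mod_two_eq_zero_or_one i.val with e | e <;> rw [e] at h <;> push_cast at h
  · exact Or.inl (by simpa using h)
  · exact Or.inr h

theorem h_mul_even (m : ZMod (2 ^ n)) : qh n * (2 * m) = 0 := by
  linear_combination m * hh.two_h

theorem h_mul_odd (m : ZMod (2 ^ n)) : qh n * (2 * m + 1) = qh n := by
  linear_combination m * hh.two_h

theorem even_ne_odd (a b : ZMod (2 ^ n)) : 2 * a ≠ 2 * b + 1 := fun h =>
  hh.h_ne (by rw [← hh.h_mul_odd b, ← h, hh.h_mul_even])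

theorem cancel_two_sub {j : ZMod (2 ^ n)} (h : (2 - qh n) * j = 0) : 2 * j = 0 := by
  linear_combination (1 + qq n) * h - j * (1 + qq n) * hh.two_q + j * hh.two_qq

theorem four_mul_eq_zero {i : ZMod (2 ^ n)} (h : 4 * i = 0) :
    i = 0 ∨ i = qh n ∨ i = qq n ∨ i = -qq n := by
  rcases hh.two_mul_eq_zero (i := 2 * i) (by linear_combination h) with e | e
  · rcases hh.two_mul_eq_zero e with e | e
    · exact Or.inl e
    · exact Or.inr (Or.inl e)
  · rcases hh.two_mul_eq_zero (i := i - qq n) (by rw [mul_sub, e, hh.two_q, sub_self]) with e' | e'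
    · exact Or.inr (Or.inr (Or.inl (sub_eq_zero.1 e')))
    · exact Or.inr (Or.inr (Or.inr (by
        linear_combination e' + hh.two_q + hh.two_h)))

theorem order_two {s : S} :
    orderOf s = 2 ↔ s = qc x n (qh n) ∨ ∃ m, s = qc x n (2 * m) * y := by
  constructor
  · intro hs
    have h2 : s * s = 1 := by rw [← pow_two, ← hs, pow_orderOf_eq_one]
    have h1 : s ≠ 1 := fun e => by rw [e, orderOf_one] at hs; omega
    rcases hh.cases s with ⟨i, rfl⟩ | ⟨i, rfl⟩
    · rw [← hh.c_add, hh.c_eq_one, ← two_mul] at h2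
      rcases hh.two_mul_eq_zero h2 with e | e
      · exact absurd (by rw [e, c_zero]) h1
      · exact Or.inl (by rw [e])
    · obtain ⟨m, rfl | rfl⟩ := parity i
      · exact Or.inr ⟨m, rfl⟩
      · rw [hh.cy_sq, hh.h_mul_odd, hh.c_eq_one] at h2
        exact absurd h2 hh.h_ne
  · rintro (rfl | ⟨m, rfl⟩)
    · exact orderOf_eq_prime (by rw [hh.c_pow, hh.c_eq_one]; exact_mod_cast hh.two_h)
        fun e => hh.h_ne (hh.c_eq_one.1 e)
    · exact orderOf_eq_prime (by rw [pow_two, hh.cy_sq, hh.h_mul_even, c_zero]) (hh.cy_ne_one _)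

theorem order_four {s : S} :
    orderOf s = 4 ↔ (s = qc x n (qq n) ∨ s = qc x n (-qq n)) ∨
      ∃ m, s = qc x n (2 * m + 1) * y := by
  have key : ∀ s : S, s * s = qc x n (qh n) → orderOf s = 4 := fun s e => by
    have : Fact (Nat.Prime 2) := ⟨Nat.prime_two⟩
    refine orderOf_eq_prime_pow (p := 2) (n := 1) ?_ ?_
    · rw [pow_one, pow_two, e, hh.c_eq_one]; exact hh.h_ne
    · rw [show 2 ^ (1 + 1) = 2 * 2 from rfl, pow_mul, pow_two s, e, hh.c_pow, hh.c_eq_one]
      exact_mod_cast hh.two_h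
  constructor
  · intro hs
    have h4 : s ^ 4 = 1 := by rw [← hs, pow_orderOf_eq_one]
    have hne : ¬ s ^ 2 = 1 := fun e => by
      have := Nat.le_of_dvd two_pos (orderOf_dvd_of_pow_eq_one e)
      omega
    rcases hh.cases s with ⟨i, rfl⟩ | ⟨i, rfl⟩
    · rw [hh.c_pow, hh.c_eq_one] at h4 hne
      push_cast at h4 hne
      rcases hh.four_mul_eq_zero h4 with rfl | rfl | rfl | rfl
      · exact absurd (mul_zero _) hne
      · exact absurd hh.two_h hne
      · exact Or.inl (Or.inl rfl)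
      · exact Or.inl (Or.inr rfl)
    · obtain ⟨m, rfl | rfl⟩ := parity i
      · exact absurd (by rw [pow_two, hh.cy_sq, hh.h_mul_even, c_zero]) hne
      · exact Or.inr ⟨m, rfl⟩
  · rintro ((rfl | rfl) | ⟨m, rfl⟩)
    · exact key _ (by rw [← hh.c_add, ← two_mul, hh.two_q])
    · exact key _ (by rw [← hh.c_add]; congr 1; linear_combination -hh.two_q - hh.two_h)
    · exact key _ (by rw [hh.cy_sq, hh.h_mul_odd])

theorem y_conj_c (i : ZMod (2 ^ n)) : y * qc x n i * y⁻¹ = qc x n (qh n * i - i) := by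
  rw [hh.y_mul, mul_inv_cancel_right]

theorem h_mem_center : qc x n (qh n) ∈ Subgroup.center S := by
  refine Subgroup.mem_center_iff.2 fun g => ?_
  rcases hh.cases g with ⟨i, rfl⟩ | ⟨i, rfl⟩
  · rw [← hh.c_add, ← hh.c_add, add_comm]
  · rw [hh.cy_mul_c, hh.c_mul_cy, hh.h_sq]
    congr 2
    linear_combination -hh.two_h

end QDGen

end Cfsg.Agent.Invol
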