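import Cfsg.Agent.Fusion.PGroup
import Cfsg.Agent.Invol.UniqueInvolution
import Mathlib.GroupTheory.SpecificGroups.Cyclic
import Mathlib.Data.ZMod.Basic
import Mathlib.Tactic.LinearCombination

/-!
A 2-group containing an elementary abelian subgroup of order eight has a normal four-subgroup.
-/

set_option autoImplicit false

namespace Cfsg.Agent.Invol

open Subgroup

theorem square_one_cases {k : ℕ} (hk : 3 ≤ k) {m : ZMod (2 ^ k)} (h : m * m = 1) :
    m = 1 ∨ m = -1 ∨ m = 1 + 2 ^ (k - 1) ∨ m = -1 + 2 ^ (k - 1) := by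
  have he : 2 ^ k = 4 * 2 ^ (k - 2) := by
    rw [show (4 : ℕ) = 2 ^ 2 from rfl, ← pow_add, show 2 + (k - 2) = k by omega]
  have hM : ((m.val : ℕ) : ZMod (2 ^ k)) = m := ZMod.natCast_zmod_val m
  have h1 : (m.val * m.val : ℕ) ≡ 1 [MOD 2 ^ k] := by
    rw [← ZMod.natCast_eq_natCast_iff]; push_cast; rw [hM, h]
  have hodd : m.val % 2 = 1 := by
    have h2 : (m.val * m.val) % 2 = 1 % 2 := h1.of_dvd (dvd_pow_self 2 (by omega : k ≠ 0))
    rcases Nat.mod_two_eq_zero_or_one m.val with h0 | h0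
    · rw [Nat.mul_mod, h0] at h2; simp at h2
    · exact h0
  obtain ⟨j, hj⟩ : ∃ j, m.val = 2 * j + 1 := ⟨m.val / 2, by omega⟩
  have h3 : 2 ^ k ∣ 4 * (j * (j + 1)) := by
    have := ((Nat.modEq_iff_dvd' (by rw [hj]; nlinarith)).1 h1.symm)
    rwa [hj, show (2 * j + 1) * (2 * j + 1) = 4 * (j * (j + 1)) + 1 by ring, Nat.add_sub_cancel] at this
  replace h3 : 2 ^ (k - 2) ∣ j * (j + 1) := by
    rw [he] at h3
    exact Nat.dvd_of_mul_dvd_mul_left (by norm_num) h3
  have hlt : 2 * j + 1 < 4 * 2 ^ (k - 2) := by rw [← he, ← hj]; exact m.val_lt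
  have hcast : ∀ c : ℕ, j = c * 2 ^ (k - 2) → m = (c : ZMod (2 ^ k)) * 2 ^ (k - 1) + 1 := by
    intro c hc
    rw [← hM, hj, hc, show k - 1 = k - 2 + 1 by omega]
    push_cast; ring
  have hcast' : ∀ c : ℕ, j + 1 = c * 2 ^ (k - 2) → m = (c : ZMod (2 ^ k)) * 2 ^ (k - 1) - 1 := by
    intro c hc
    have : (j : ZMod (2 ^ k)) + 1 = (c : ZMod (2 ^ k)) * 2 ^ (k - 2) := by
      exact_mod_cast congrArg (fun t : ℕ => (t : ZMod (2 ^ k))) hc
    rw [← hM, hj, show k - 1 = k - 2 + 1 by omega]
    push_cast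
    linear_combination 2 * this
  have h2k : (2 : ZMod (2 ^ k)) * 2 ^ (k - 1) = 0 := by
    rw [← pow_succ', show k - 1 + 1 = k by omega,
      show (2 : ZMod (2 ^ k)) ^ k = ((2 ^ k : ℕ) : ZMod (2 ^ k)) by push_cast; rfl, ZMod.natCast_self]
  rcases Nat.even_or_odd j with ⟨i, hi⟩ | ⟨i, hi⟩
  · have hcop : Nat.Coprime (2 ^ (k - 2)) (j + 1) :=
      Nat.Coprime.pow_left _ ((Nat.prime_two.coprime_iff_not_dvd).2 (by omega))
    obtain ⟨c, hc⟩ := hcop.dvd_of_dvd_mul_right h3
    have hm := hcast c (by rw [hc, mul_comm])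
    rcases c with _ | _ | c
    · left; rw [hm]; simp
    · right; right; left; rw [hm]; push_cast; ring
    · exfalso; nlinarith
  · have hcop : Nat.Coprime (2 ^ (k - 2)) j :=
      Nat.Coprime.pow_left _ ((Nat.prime_two.coprime_iff_not_dvd).2 (by omega))
    obtain ⟨c, hc⟩ := hcop.dvd_of_dvd_mul_left h3
    have hm := hcast' c (by rw [hc, mul_comm])
    rcases c with _ | _ | _ | c
    · omega
    · right; right; right; rw [hm]; push_cast; ring
    · right; left; rw [hm]; push_cast; linear_combination h2k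
    · exfalso; nlinarith

variable {S : Type*} [Group S] [Finite S]

/-- A 2-group with an elementary abelian subgroup of order eight has a normal four-subgroup. -/
theorem exists_normal_four (hS : IsPGroup 2 S) (E : Subgroup S) (hE : Nat.card E = 8)
    (hsq : ∀ e ∈ E, e * e = 1) :
    ∃ U : Subgroup S, U.Normal ∧ Nat.card U = 4 ∧ ∀ u ∈ U, u * u = 1 := by
  classical
  have : Fact (Nat.Prime 2) := ⟨Nat.prime_two⟩
  obtain ⟨A, -, hA, hAc, hmax⟩ := Fusion.exists_maximal_normal_abelian (⊥ : Subgroup S) inferInstance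
  have hCA := Fusion.centralizer_eq_of_maximal_normal_abelian hS A hAc hmax
  have hcomm : ∀ x ∈ A, ∀ y ∈ A, x * y = y * x := fun x hx y hy =>
    congrArg Subtype.val (hAc.is_comm.comm (⟨x, hx⟩ : A) ⟨y, hy⟩)
  by_cases hbig : ∃ u v, u ∈ A ∧ v ∈ A ∧ orderOf u = 2 ∧ orderOf v = 2 ∧ u ≠ v
  · obtain ⟨u, v, hu, hv, hu2, hv2, huv⟩ := hbig
    let N : Subgroup S :=
      { carrier := {x | x ∈ A ∧ x * x = 1}
        one_mem' := ⟨A.one_mem, one_mul 1⟩
        mul_mem' := fun {x y} hx hy => ⟨A.mul_mem hx.1 hy.1, by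
          calc x * y * (x * y) = x * (y * x) * y := by group
            _ = x * (x * y) * y := by rw [hcomm x hx.1 y hy.1]
            _ = (x * x) * (y * y) := by group
            _ = 1 := by rw [hx.2, hy.2, one_mul]⟩
        inv_mem' := fun {x} hx => ⟨A.inv_mem hx.1, by rw [← mul_inv_rev, hx.2, inv_one]⟩ }
    have hN : N.Normal := ⟨fun x hx g => ⟨hA.conj_mem x hx.1 g, by
      rw [show g * x * g⁻¹ * (g * x * g⁻¹) = g * (x * x) * g⁻¹ by group, hx.2]; group⟩⟩
    have h4 : 2 ^ 2 ≤ Nat.card N := by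
      have huu : u * u = 1 := by have := pow_orderOf_eq_one u; rwa [hu2, pow_two] at this
      have hvv : v * v = 1 := by have := pow_orderOf_eq_one v; rwa [hv2, pow_two] at this
      have huN : u ∈ N := ⟨hu, huu⟩
      have hvN : v ∈ N := ⟨hv, hvv⟩
      have hsub : ({1, u, v, u * v} : Set S) ⊆ N := by
        rintro x (rfl | rfl | rfl | rfl)
        exacts [N.one_mem, huN, hvN, N.mul_mem huN hvN]
      have hu1 : u ≠ 1 := fun e => by rw [e, orderOf_one] at hu2; omega
      have hv1 : v ≠ 1 := fun e => by rw [e, orderOf_one] at hv2; omega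
      have huv1 : (1 : S) ≠ u * v := fun e => huv (by
        calc u = u * (u * v) := by rw [← e, mul_one]
          _ = v := by rw [← mul_assoc, huu, one_mul])
      have hc : ({1, u, v, u * v} : Set S).ncard = 4 := by
        rw [Set.ncard_insert_of_notMem, Set.ncard_insert_of_notMem, Set.ncard_pair]
        · simpa using hu1
        · simp only [Set.mem_insert_iff, Set.mem_singleton_iff, not_or]
          exact ⟨huv, fun e => hv1 (left_eq_mul.1 e)⟩
        · simp only [Set.mem_insert_iff, Set.mem_singleton_iff, not_or]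
          exact ⟨fun e => hu1 e.symm, fun e => hv1 e.symm, huv1⟩
      have := Set.ncard_le_ncard hsub (Set.toFinite _)
      rw [hc] at this
      exact this
    obtain ⟨L, hL, hLN, hLc⟩ := Fusion.exists_normal_le_card_eq hS N h4
    exact ⟨L, hL, hLc, fun x hx => (hLN hx).2⟩
  push Not at hbig
  -- now `A` has at most one involution, so it is cyclic
  have := hAc
  have hAcyc : IsCyclic A := isCyclic_of_unique_involution (hS.to_subgroup A) fun x y hx hy =>
    Subtype.ext (hbig x y x.2 y.2 (by rwa [Subgroup.orderOf_coe]) (by rwa [Subgroup.orderOf_coe]))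
  obtain ⟨⟨a, ha⟩, hgen⟩ := hAcyc.exists_generator
  have hAgen : ∀ x ∈ A, ∃ i : ℤ, a ^ i = x := fun x hx => by
    obtain ⟨i, hi⟩ := Subgroup.mem_zpowers_iff.1 (hgen ⟨x, hx⟩)
    exact ⟨i, congrArg Subtype.val hi⟩
  obtain ⟨k, hk⟩ := IsPGroup.iff_orderOf.1 hS a
  let pw : ZMod (2 ^ k) → S := fun i => a ^ i.val
  have pnat : ∀ n : ℕ, a ^ n = pw n := fun n => by
    show a ^ n = a ^ (n : ZMod (2 ^ k)).val
    rw [ZMod.val_natCast, ← hk, pow_mod_orderOf]
  have padd : ∀ i j, pw (i + j) = pw i * pw j := fun i j => by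
    show a ^ (i + j).val = a ^ i.val * a ^ j.val
    have h := pow_mod_orderOf a (i.val + j.val)
    rw [hk] at h
    rw [← pow_add, ZMod.val_add, h]
  have pinj : ∀ i j, pw i = pw j → i = j := fun i j h => by
    refine ZMod.val_injective _ ?_
    have := pow_inj_mod.1 (show a ^ i.val = a ^ j.val from h)
    rwa [hk, Nat.mod_eq_of_lt i.val_lt, Nat.mod_eq_of_lt j.val_lt] at this
  have pA : ∀ i, pw i ∈ A := fun i => A.pow_mem ha _
  have psurj : ∀ x ∈ A, ∃ i, pw i = x := fun x hx => by
    obtain ⟨n, hn⟩ := (mem_powers_iff_mem_zpowers (x := a) (y := x)).2 (mem_zpowers_iff.2 (hAgen x hx))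
    exact ⟨n, (pnat n).symm.trans hn⟩
  have hf : ∀ e : S, ∃ m, e * a * e⁻¹ = pw m := fun e => by
    obtain ⟨i, hi⟩ := psurj _ (hA.conj_mem a ha e); exact ⟨i, hi.symm⟩
  choose f hf using hf
  have hconj : ∀ e i, e * pw i * e⁻¹ = pw (f e * i) := by
    intro e i
    show e * a ^ i.val * e⁻¹ = _
    rw [← conj_pow, hf e]
    show (a ^ (f e).val) ^ i.val = _
    rw [← pow_mul, pnat]
    push_cast
    rw [ZMod.natCast_zmod_val, ZMod.natCast_zmod_val]
  have hfmul : ∀ e e', f (e * e') = f e * f e' := fun e e' => pinj _ _ (by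
    rw [← hf, show e * e' * a * (e * e')⁻¹ = e * (e' * a * e'⁻¹) * e⁻¹ by group, hf e', hconj])
  have hf1 : f 1 = 1 := pinj _ _ (by
    rw [← hf, one_mul, inv_one, mul_one, ← Nat.cast_one, ← pnat, pow_one])
  have hker : ∀ e, f e = 1 → e ∈ A := by
    intro e he
    rw [← hCA, mem_centralizer_iff]
    intro x hx
    obtain ⟨i, rfl⟩ := psurj x hx
    have h := hconj e i
    rw [he, one_mul, mul_inv_eq_iff_eq_mul] at h
    exact h.symm
  have hfe : ∀ e ∈ E, f e * f e = 1 := fun e he => by rw [← hfmul, hsq e he, hf1]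
  -- at most two elements of `E` act in the same way
  have : Fintype E := Fintype.ofFinite E
  have hfib : ∀ b ∈ (Finset.univ : Finset E).image (fun e : E => f e),
      ((Finset.univ : Finset E).filter (fun e : E => f e = b)).card ≤ 2 := by
    intro b hb
    obtain ⟨e0, -, rfl⟩ := Finset.mem_image.1 hb
    rw [← not_lt]
    intro hlt
    obtain ⟨e1, h1, e2, h2, e3, h3, h12, h13, h23⟩ := Finset.two_lt_card.1 hlt
    simp only [Finset.mem_filter, Finset.mem_univ, true_and] at h1 h2 h3
    have hmem : ∀ x y : E, f x = f y → x ≠ y → orderOf ((x : S) * y) = 2 ∧ (x : S) * y ∈ A := by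
      intro x y hxy hne
      refine ⟨orderOf_eq_prime (by rw [pow_two]; exact hsq _ (E.mul_mem x.2 y.2)) fun e => hne ?_,
        hker _ (by rw [hfmul, hxy, hfe y y.2])⟩
      exact Subtype.ext ((mul_eq_one_iff_eq_inv.1 e).trans (inv_eq_of_mul_eq_one_right (hsq _ y.2)))
    obtain ⟨o1, m1⟩ := hmem e1 e2 (h1.trans h2.symm) h12
    obtain ⟨o2, m2⟩ := hmem e1 e3 (h1.trans h3.symm) h13
    exact h23 (Subtype.ext (mul_left_cancel (hbig _ _ m1 m2 o1 o2)))
  have himg : 4 ≤ ((Finset.univ : Finset E).image (fun e : E => f e)).card := by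
    have := Finset.card_le_mul_card_image (Finset.univ : Finset E) 2 hfib
    rw [Finset.card_univ, ← Nat.card_eq_fintype_card, hE] at this
    omega
  have hroots : ∀ b ∈ (Finset.univ : Finset E).image (fun e : E => f e), b * b = 1 := by
    intro b hb
    obtain ⟨e0, -, rfl⟩ := Finset.mem_image.1 hb
    exact hfe e0 e0.2
  have hk3 : 3 ≤ k := by
    by_contra hlt
    push Not at hlt
    have hsmall : ((Finset.univ : Finset (ZMod (2 ^ k))).filter (fun b => b * b = 1)).card ≤ 2 := by
      interval_cases k <;> decide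
    have := Finset.card_le_card (t := (Finset.univ : Finset (ZMod (2 ^ k))).filter (fun b => b * b = 1))
      fun b hb => Finset.mem_filter.2 ⟨Finset.mem_univ b, hroots b hb⟩
    omega
  set h : ZMod (2 ^ k) := 2 ^ (k - 1) with hh
  obtain ⟨e, heE, he⟩ : ∃ e ∈ E, f e = 1 + h := by
    by_contra hc
    push Not at hc
    have hsub : (Finset.univ : Finset E).image (fun e : E => f e) ⊆ {1, -1, -1 + h} := by
      intro b hb
      rcases square_one_cases hk3 (hroots b hb) with e' | e' | e' | e'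
      · simp [e']
      · simp [e']
      · obtain ⟨e0, -, rfl⟩ := Finset.mem_image.1 hb
        exact absurd e' (hc e0 e0.2)
      · simp [e', hh]
    have := Finset.card_le_card hsub
    have := Finset.card_le_three (a := (1 : ZMod (2 ^ k))) (b := -1) (c := -1 + h)
    omega
  have h2 : 2 * h = 0 := by
    rw [hh, ← pow_succ', show k - 1 + 1 = k by omega,
      show (2 : ZMod (2 ^ k)) ^ k = ((2 ^ k : ℕ) : ZMod (2 ^ k)) by push_cast; rfl, ZMod.natCast_self]
  have h0 : h ≠ 0 := by
    rw [hh, show (2 : ZMod (2 ^ k)) ^ (k - 1) = ((2 ^ (k - 1) : ℕ) : ZMod (2 ^ k)) by push_cast; rfl,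
      ne_eq, ZMod.natCast_eq_zero_iff]
    exact fun h => absurd (Nat.le_of_dvd (by positivity) h) (not_le.2 (Nat.pow_lt_pow_right one_lt_two (by omega)))
  have htwo : ∀ i : ZMod (2 ^ k), 2 * i = 0 → i = 0 ∨ i = h := by
    intro i hi
    have hd : 2 ^ k ∣ 2 * i.val := by
      rw [← ZMod.natCast_eq_zero_iff]; push_cast; rw [ZMod.natCast_zmod_val, hi]
    have he' : 2 ^ k = 2 * 2 ^ (k - 1) := by rw [← pow_succ', show k - 1 + 1 = k by omega]
    have hlt : i.val < 2 * 2 ^ (k - 1) := lt_of_lt_of_eq i.val_lt he'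
    replace hd : 2 * 2 ^ (k - 1) ∣ 2 * i.val := (dvd_of_eq he'.symm).trans hd
    obtain ⟨c, hc⟩ := Nat.dvd_of_mul_dvd_mul_left two_pos hd
    rcases c with _ | _ | c
    · exact Or.inl (by rw [← ZMod.natCast_zmod_val i, hc, mul_zero, Nat.cast_zero])
    · refine Or.inr ?_
      rw [← ZMod.natCast_zmod_val i, hc, hh]
      push_cast; ring
    · exfalso; rw [hc] at hlt; nlinarith [Nat.two_pow_pos (k - 1)]
  set z := pw h with hz
  have p0 : pw 0 = 1 := by show a ^ (0 : ZMod (2 ^ k)).val = 1; rw [ZMod.val_zero, pow_zero]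
  have hzz : z * z = 1 := by rw [hz, ← padd, ← two_mul, h2, p0]
  have hz1 : z ≠ 1 := fun e' => h0 (pinj _ _ (e'.trans p0.symm))
  have hzo : orderOf z = 2 := orderOf_eq_prime (by rw [pow_two, hzz]) hz1
  have hee := hsq e heE
  have hzfix : ∀ g, g * z * g⁻¹ = z := fun g => by
    refine hbig _ _ (hA.conj_mem z (pA h) g) (pA h) ?_ hzo
    rw [← MulAut.conj_apply, MulEquiv.orderOf_eq, hzo]
  have hze : z * e = e * z := (mul_inv_eq_iff_eq_mul.1 (hzfix e)).symm
  have heA : e ∉ A := by
    intro heA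
    have h1 : e * a * e⁻¹ = a := by rw [hcomm e heA a ha, mul_inv_cancel_right]
    rw [hf, he] at h1
    have h3 := pinj (1 + h) 1 (h1.trans (by rw [← Nat.cast_one, ← pnat, pow_one]))
    exact h0 (by simpa using h3)
  let U : Subgroup S :=
    { carrier := {1, z, e, z * e}
      one_mem' := Or.inl rfl
      mul_mem' := by
        have e1 : z * (z * e) = e := by rw [← mul_assoc, hzz, one_mul]
        have e2 : z * e * e = z := by rw [mul_assoc, hee, mul_one]
        have e3 : e * (z * e) = z := by rw [← mul_assoc, ← hze, e2]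
        have e4 : z * e * z = e := by rw [hze, mul_assoc, hzz, mul_one]
        have e5 : z * e * (z * e) = 1 := by rw [← mul_assoc, e4, hee]
        rintro _ _ (rfl | rfl | rfl | rfl) (rfl | rfl | rfl | rfl) <;>
          simp only [one_mul, mul_one, hzz, hee, ← hze, e1, e2, e3, e4, e5, Set.mem_insert_iff,
            Set.mem_singleton_iff, true_or, or_true]
      inv_mem' := by
        rintro _ (rfl | rfl | rfl | rfl)
        · exact Or.inl inv_one
        · exact Or.inr (Or.inl (inv_eq_of_mul_eq_one_right hzz))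
        · exact Or.inr (Or.inr (Or.inl (inv_eq_of_mul_eq_one_right hee)))
        · refine Or.inr (Or.inr (Or.inr ?_))
          show (z * e)⁻¹ = z * e
          rw [mul_inv_rev, inv_eq_of_mul_eq_one_right hee, inv_eq_of_mul_eq_one_right hzz, hze] }
  refine ⟨U, ⟨?_⟩, ?_, ?_⟩
  · have key : ∀ g, g * e * g⁻¹ = e ∨ g * e * g⁻¹ = z * e := by
      intro g
      set t := g * e * g⁻¹ * e⁻¹ with ht
      have hft : f t = 1 := by
        have h1 : f g * f g⁻¹ = 1 := by rw [← hfmul, mul_inv_cancel, hf1]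
        have h2' : f e * f e⁻¹ = 1 := by rw [← hfmul, mul_inv_cancel, hf1]
        rw [ht, hfmul, hfmul, hfmul]
        linear_combination (f e * f e⁻¹) * h1 + h2'
      obtain ⟨i, hi⟩ := psurj _ (hker _ hft)
      have hg : g * e * g⁻¹ = pw i * e := by rw [hi, ht]; group
      have hsq' : g * e * g⁻¹ * (g * e * g⁻¹) = 1 := by
        rw [show g * e * g⁻¹ * (g * e * g⁻¹) = g * (e * e) * g⁻¹ by group, hee]; group
      rw [hg, show pw i * e * (pw i * e) = pw i * (e * pw i * e⁻¹) * (e * e) by group, hconj, hee, mul_one,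
        ← padd, ← p0] at hsq'
      have h3 := pinj _ _ hsq'
      rw [he] at h3
      have h4 : 2 * i = 0 := by
        obtain ⟨r, hr⟩ : ∃ r : ℕ, k = r + 3 := ⟨k - 3, by omega⟩
        have hsq0 : (2 : ZMod (2 ^ k)) * (2 ^ (k - 2) * 2 ^ (k - 2)) = 0 := by
          rw [← pow_add, ← pow_succ', show k - 2 + (k - 2) + 1 = k + r by omega, pow_add,
            show (2 : ZMod (2 ^ k)) ^ k = ((2 ^ k : ℕ) : ZMod (2 ^ k)) by push_cast; rfl, ZMod.natCast_self,
            zero_mul]
        have hh2 : h = 2 * 2 ^ (k - 2) := by rw [hh, ← pow_succ', show k - 2 + 1 = k - 1 by omega]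
        rw [hh2] at h3
        linear_combination (1 - 2 ^ (k - 2)) * h3 + i * hsq0
      rcases htwo i h4 with rfl | rfl
      · left; rw [hg, p0, one_mul]
      · right; exact hg
    rintro x (rfl | rfl | rfl | rfl) g
    · exact Or.inl (by group)
    · exact Or.inr (Or.inl (hzfix g))
    · rcases key g with k' | k'
      · exact Or.inr (Or.inr (Or.inl k'))
      · exact Or.inr (Or.inr (Or.inr k'))
    · rw [show g * (z * e) * g⁻¹ = (g * z * g⁻¹) * (g * e * g⁻¹) by group, hzfix]
      rcases key g with k' | k' <;> rw [k']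
      · exact Or.inr (Or.inr (Or.inr rfl))
      · exact Or.inr (Or.inr (Or.inl (by rw [← mul_assoc, hzz, one_mul])))
  · rw [← SetLike.coe_sort_coe, Nat.card_coe_set_eq]
    show ({1, z, e, z * e} : Set S).ncard = 4
    have he1 : e ≠ 1 := fun e' => heA (e' ▸ A.one_mem)
    have hzne : z ≠ e := fun e' => heA (e' ▸ pA h)
    rw [Set.ncard_insert_of_notMem, Set.ncard_insert_of_notMem, Set.ncard_pair]
    · exact fun e' => hz1 (mul_eq_right.1 e'.symm)
    · simp only [Set.mem_insert_iff, Set.mem_singleton_iff, not_or]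
      exact ⟨hzne, fun e' => he1 (left_eq_mul.1 e')⟩
    · simp only [Set.mem_insert_iff, Set.mem_singleton_iff, not_or]
      refine ⟨hz1.symm, he1.symm, fun e' => hzne ?_⟩
      calc z = z * (z * e) := by rw [← e', mul_one]
        _ = e := by rw [← mul_assoc, hzz, one_mul]
  · rintro x (rfl | rfl | rfl | rfl)
    · exact one_mul 1
    · exact hzz
    · exact hee
    · calc z * e * (z * e) = z * (e * z) * e := by group
        _ = (z * z) * (e * e) := by rw [← hze]; group
        _ = 1 := by rw [hzz, hee, one_mul]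

end Cfsg.Agent.Invol
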