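import Cfsg.Agent.Invol.SEPairs
import Cfsg.Agent.Invol.Isolated

/-!
Groups in which the centralisers of involutions are elementary abelian.
-/

set_option autoImplicit false

namespace Cfsg.Agent.Invol

variable {G : Type*} [Group G] [Finite G] {T : Sylow 2 G}

theorem ec_centralizer_eq (hnc : ¬ IsCyclic (T : Subgroup G))
    (hC : ∀ t : G, orderOf t = 2 → IsMulCommutative (Subgroup.centralizer ({t} : Set G)) ∧
      ∀ c ∈ Subgroup.centralizer ({t} : Set G), c ^ 2 = 1) {t : G} (ht : orderOf t = 2) (htT : t ∈ T) :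
    Subgroup.centralizer ({t} : Set G) = (T : Subgroup G) := by
  have hbig : ∀ s : G, orderOf s = 2 → (T : Subgroup G) ≤ Subgroup.centralizer ({s} : Set G) →
      Subgroup.centralizer ({s} : Set G) = (T : Subgroup G) := fun s hs hle =>
    T.3 (fun c => ⟨1, Subtype.ext (by
      rw [pow_one, SubmonoidClass.coe_pow]
      exact (hC s hs).2 c c.2)⟩) hle
  have hne : (T : Subgroup G) ≠ ⊥ := fun e => hnc (by
    rw [e]; exact isCyclic_of_subsingleton)
  have : Nontrivial (T : Subgroup G) := (Subgroup.nontrivial_iff_ne_bot _).2 hne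
  have : Fact (Nat.Prime 2) := ⟨Nat.prime_two⟩
  have := T.2.center_nontrivial
  obtain ⟨j, hj, hc⟩ := (IsPGroup.nontrivial_iff_card (T.2.to_subgroup _)).1 this
  obtain ⟨z, hz⟩ := exists_prime_orderOf_dvd_card' 2
    (hc ▸ dvd_pow_self 2 (by omega) : 2 ∣ Nat.card (Subgroup.center (T : Subgroup G)))
  have hz2 : orderOf (z.1.1 : G) = 2 := by rw [Subgroup.orderOf_coe, Subgroup.orderOf_coe, hz]
  have hT : (T : Subgroup G) ≤ Subgroup.centralizer ({(z.1.1 : G)} : Set G) := fun p hp =>
    Subgroup.mem_centralizer_singleton_iff.2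
      (congrArg Subtype.val (Subgroup.mem_center_iff.1 z.2 ⟨p, hp⟩))
  have he := hbig _ hz2 hT
  refine hbig t ht fun p hp => Subgroup.mem_centralizer_singleton_iff.2 ?_
  have := (hC _ hz2).1
  exact congrArg Subtype.val (Std.Commutative.comm (op := (· * ·))
    (⟨p, he.symm ▸ hp⟩ : Subgroup.centralizer ({(z.1.1 : G)} : Set G)) ⟨t, he.symm ▸ htT⟩)

theorem ec_normalizer_mem (hnc : ¬ IsCyclic (T : Subgroup G))
    (hC : ∀ t : G, orderOf t = 2 → IsMulCommutative (Subgroup.centralizer ({t} : Set G)) ∧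
      ∀ c ∈ Subgroup.centralizer ({t} : Set G), c ^ 2 = 1) {t : G} (ht : orderOf t = 2)
    (htH : t ∈ Subgroup.normalizer ((T : Subgroup G) : Set G)) : t ∈ (T : Subgroup G) := by
  have h := (IsPGroup.of_card (n := 1) (G := Subgroup.zpowers t)
    (by rw [Nat.card_zpowers, ht, pow_one])).to_sup_of_normal_right' T.2 (Subgroup.zpowers_le.2 htH)
  rw [← T.3 h le_sup_right]
  exact Subgroup.mem_sup_left (Subgroup.mem_zpowers t)

theorem ec_stronglyEmbedded (hnc : ¬ IsCyclic (T : Subgroup G)) (hnn : ¬ (T : Subgroup G).Normal)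
    (hC : ∀ t : G, orderOf t = 2 → IsMulCommutative (Subgroup.centralizer ({t} : Set G)) ∧
      ∀ c ∈ Subgroup.centralizer ({t} : Set G), c ^ 2 = 1) :
    Cfsg.IsStronglyEmbedded (Subgroup.normalizer ((T : Subgroup G) : Set G)) := by
  refine (se_iff _).2 ⟨fun e => hnn (Subgroup.normalizer_eq_top_iff.1 e), ?_, fun t g ht htH htg => ?_⟩
  · have hne : (T : Subgroup G) ≠ ⊥ := fun e => hnc (by
      rw [e]; exact isCyclic_of_subsingleton)
    obtain ⟨s, hsT, hs⟩ := exists_involution_of_ne_bot T.2 hne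
    have h2 := orderOf_dvd_natCard
      (⟨s, Subgroup.le_normalizer hsT⟩ : Subgroup.normalizer ((T : Subgroup G) : Set G))
    rw [Subgroup.orderOf_mk, hs] at h2
    exact even_iff_two_dvd.2 h2
  have htT := ec_normalizer_mem hnc hC ht htH
  set t' := g⁻¹ * t * g with ht'
  have ht'2 : orderOf t' = 2 := by
    have := (orderOf_conj g⁻¹ t).trans ht
    rwa [inv_inv] at this
  have ht'T := ec_normalizer_mem hnc hC ht'2 htg
  rw [Subgroup.mem_normalizer_iff]
  intro x
  have h1 := ec_centralizer_eq hnc hC ht htT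
  have h2 := ec_centralizer_eq hnc hC ht'2 ht'T
  have e : g * x * g⁻¹ * t * g = g * (x * t') ∧ t * (g * x * g⁻¹) * g = g * (t' * x) := by
    constructor <;> rw [ht'] <;> group
  constructor
  · intro hx
    rw [← h1, Subgroup.mem_centralizer_singleton_iff]
    rw [← h2, Subgroup.mem_centralizer_singleton_iff] at hx
    exact mul_right_cancel (e.1.trans ((congrArg (g * ·) hx).trans e.2.symm))
  · intro hx
    rw [← h2, Subgroup.mem_centralizer_singleton_iff]
    rw [← h1, Subgroup.mem_centralizer_singleton_iff] at hx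
    exact mul_left_cancel (e.1.symm.trans ((congrArg (· * g) hx).trans e.2))

/-- An involution outside `H = N(T)` inverts `D = H ∩ uHu⁻¹`, which has order `|T| - 1`. -/
theorem ec_inverts (hnc : ¬ IsCyclic (T : Subgroup G)) (hnn : ¬ (T : Subgroup G).Normal)
    (hC : ∀ t : G, orderOf t = 2 → IsMulCommutative (Subgroup.centralizer ({t} : Set G)) ∧
      ∀ c ∈ Subgroup.centralizer ({t} : Set G), c ^ 2 = 1) {u : G} (hu : orderOf u = 2)
    (huH : u ∉ Subgroup.normalizer ((T : Subgroup G) : Set G)) {d : G}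
    (hd : d ∈ Subgroup.normalizer ((T : Subgroup G) : Set G) ⊓
      (Subgroup.normalizer ((T : Subgroup G) : Set G)).map (MulAut.conj u).toMonoidHom) :
    u * d * u⁻¹ = d⁻¹ := by
  set H := Subgroup.normalizer ((T : Subgroup G) : Set G) with hH
  set D := H ⊓ H.map (MulAut.conj u).toMonoidHom with hD
  have hse := ec_stronglyEmbedded hnc hnn hC
  have hodd := hse.2.2 u huH
  have hDu : ∀ x ∈ D, u * x * u⁻¹ ∈ D := fun x hx => by
    have h1 := mem_map_conj_iff.1 hx.2
    refine ⟨by rw [inv_eq_self hu] at h1 ⊢; exact h1, mem_map_conj_iff.2 ?_⟩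
    rw [show u⁻¹ * (u * x * u⁻¹) * u = x by group]
    exact hx.1
  let f : D → D := fun x => ⟨(x : G)⁻¹ * (u * x * u⁻¹), mul_mem (inv_mem x.2) (hDu x x.2)⟩
  have hinj : Function.Injective f := by
    intro x y e
    have e : (x : G)⁻¹ * (u * x * u⁻¹) = (y : G)⁻¹ * (u * y * u⁻¹) := congrArg Subtype.val e
    set c := (y : G) * (x : G)⁻¹ with hc
    have hcu : c * u = u * c := by
      have h1 : c * (u * x * u⁻¹) = u * y * u⁻¹ := by rw [hc, mul_assoc, e, mul_inv_cancel_left]
      calc c * u = c * (u * x * u⁻¹) * (u * (x : G)⁻¹) := by group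
        _ = u * y * u⁻¹ * (u * (x : G)⁻¹) := by rw [h1]
        _ = u * c := by rw [hc]; group
    have hcD : c ∈ D := mul_mem y.2 (inv_mem x.2)
    have hc1 : c ^ 2 = 1 := (hC u hu).2 c (Subgroup.mem_centralizer_singleton_iff.2 hcu)
    have h3 : orderOf c ∣ Nat.card D := by
      rw [← Subgroup.orderOf_mk c hcD]; exact orderOf_dvd_natCard _
    have : c = 1 := orderOf_eq_one_iff.1 (Nat.eq_one_of_dvd_coprimes
      (Nat.coprime_two_left.2 hodd) (orderOf_dvd_of_pow_eq_one hc1) h3)
    exact Subtype.ext (mul_inv_eq_one.1 this).symm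
  obtain ⟨x, hx⟩ := (Finite.injective_iff_surjective.1 hinj) ⟨d, hd⟩
  have hx : (x : G)⁻¹ * (u * x * u⁻¹) = d := congrArg Subtype.val hx
  rw [← hx]
  have huu := mul_self_eq_one hu
  rw [inv_eq_self hu]
  simp only [mul_inv_rev, inv_inv, inv_eq_self hu, mul_assoc]
  rw [huu, mul_one]

theorem ec_card (hnc : ¬ IsCyclic (T : Subgroup G)) (hnn : ¬ (T : Subgroup G).Normal)
    (hC : ∀ t : G, orderOf t = 2 → IsMulCommutative (Subgroup.centralizer ({t} : Set G)) ∧
      ∀ c ∈ Subgroup.centralizer ({t} : Set G), c ^ 2 = 1) {u : G} (hu : orderOf u = 2)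
    (huH : u ∉ Subgroup.normalizer ((T : Subgroup G) : Set G)) :
    Nat.card (Subgroup.normalizer ((T : Subgroup G) : Set G)) = Nat.card T * (Nat.card T - 1) ∧
      Nat.card ↥(Subgroup.normalizer ((T : Subgroup G) : Set G) ⊓
        (Subgroup.normalizer ((T : Subgroup G) : Set G)).map (MulAut.conj u).toMonoidHom) =
        Nat.card T - 1 := by
  classical
  set H := Subgroup.normalizer ((T : Subgroup G) : Set G) with hH
  set D := H ⊓ H.map (MulAut.conj u).toMonoidHom with hD
  have hse := ec_stronglyEmbedded hnc hnn hC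
  have hne : (T : Subgroup G) ≠ ⊥ := fun e => hnc (by
    rw [e]; exact isCyclic_of_subsingleton)
  obtain ⟨t, htT, ht⟩ := exists_involution_of_ne_bot T.2 hne
  have htH : t ∈ H := Subgroup.le_normalizer htT
  have hI : ∀ x : (T : Subgroup G), x ≠ 1 → orderOf (x : G) = 2 := fun x hx => by
    refine orderOf_eq_prime ?_ fun e => hx (Subtype.ext e)
    exact (hC t ht).2 x ((ec_centralizer_eq hnc hC ht htT).symm ▸ x.2)
  -- conjugates of `t` in `H`
  have hclass : Nat.card {y : H // IsConj (⟨t, htH⟩ : H) y} = Nat.card T - 1 := by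
    rw [Nat.card_congr (show {y : H // IsConj (⟨t, htH⟩ : H) y} ≃ {x : (T : Subgroup G) // x ≠ 1} from
      { toFun := fun y => ⟨⟨y.1, ?_⟩, ?_⟩
        invFun := fun x => ⟨⟨x.1, Subgroup.le_normalizer x.1.2⟩, ?_⟩
        left_inv := fun y => rfl
        right_inv := fun x => rfl })]
    · have := Fintype.ofFinite (T : Subgroup G)
      rw [Nat.card_eq_fintype_card, Nat.card_eq_fintype_card, Fintype.card_subtype_compl,
        Fintype.card_subtype_eq]
    · refine ec_normalizer_mem hnc hC ?_ y.1.2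
      rw [Subgroup.orderOf_coe, orderOf_eq_two_of_isConj y.2 (by rw [Subgroup.orderOf_mk, ht])]
    · intro e
      have e' : (y.1 : G) = 1 := congrArg Subtype.val e
      have h2 : orderOf y.1 = 2 := orderOf_eq_two_of_isConj y.2 (by rw [Subgroup.orderOf_mk, ht])
      rw [← Subgroup.orderOf_coe, e', orderOf_one] at h2
      omega
    · obtain ⟨d, hd, he⟩ := se_inter_transitive hse hu huH ht htH (hI x.1 x.2)
        (Subgroup.le_normalizer x.1.2)
      exact isConj_iff.2 ⟨⟨d, hd.1⟩, Subtype.ext he⟩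
  have hcent : Subgroup.centralizer ({(⟨t, htH⟩ : H)} : Set H) = (T : Subgroup G).subgroupOf H := by
    ext x
    rw [Subgroup.mem_centralizer_singleton_iff, Subgroup.mem_subgroupOf,
      ← ec_centralizer_eq hnc hC ht htT, Subgroup.mem_centralizer_singleton_iff]
    exact Subtype.ext_iff
  have hcardH : Nat.card H = Nat.card T * (Nat.card T - 1) := by
    rw [← card_isConj_mul_card_centralizer (⟨t, htH⟩ : H), hclass, hcent,
      Nat.card_congr (Subgroup.subgroupOfEquivOfLe Subgroup.le_normalizer).toEquiv, mul_comm]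
  refine ⟨hcardH, ?_⟩
  -- `D` is regular on the involutions of `T`
  have hbij : D ≃ {x : (T : Subgroup G) // x ≠ 1} := Equiv.ofBijective
    (fun d => ⟨⟨(d : G) * t * (d : G)⁻¹, (Subgroup.mem_normalizer_iff.1 d.2.1 t).1 htT⟩, fun e => by
      have e' : (d : G) * t * (d : G)⁻¹ = 1 := congrArg Subtype.val e
      rw [mul_inv_eq_one, mul_eq_left] at e'
      exact ne_one ht e'⟩)
    ⟨fun d e h => by
      have h : (d : G) * t * (d : G)⁻¹ = (e : G) * t * (e : G)⁻¹ :=
        congrArg (fun z => ((z.1 : (T : Subgroup G)) : G)) h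
      have hcT : (e : G)⁻¹ * d ∈ (T : Subgroup G) := by
        rw [← ec_centralizer_eq hnc hC ht htT, Subgroup.mem_centralizer_singleton_iff]
        calc (e : G)⁻¹ * d * t = (e : G)⁻¹ * ((d : G) * t * (d : G)⁻¹) * d := by group
          _ = t * ((e : G)⁻¹ * d) := by rw [h]; group
      have hcD : (e : G)⁻¹ * d ∈ D := mul_mem (inv_mem e.2) d.2
      have h2 : ((e : G)⁻¹ * d) ^ 2 = 1 :=
        (hC t ht).2 _ ((ec_centralizer_eq hnc hC ht htT).symm ▸ hcT)
      have h3 : orderOf ((e : G)⁻¹ * d) ∣ Nat.card D := by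
        rw [← Subgroup.orderOf_mk _ hcD]; exact orderOf_dvd_natCard _
      have : (e : G)⁻¹ * d = 1 := orderOf_eq_one_iff.1 (Nat.eq_one_of_dvd_coprimes
        (Nat.coprime_two_left.2 (hse.2.2 u huH)) (orderOf_dvd_of_pow_eq_one h2) h3)
      exact Subtype.ext (inv_mul_eq_one.1 this).symm,
    fun x => by
      obtain ⟨d, hd, he⟩ := se_inter_transitive hse hu huH ht htH (hI x.1 x.2)
        (Subgroup.le_normalizer x.1.2)
      exact ⟨⟨d, hd⟩, Subtype.ext (Subtype.ext he)⟩⟩
  rw [Nat.card_congr hbij]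
  have := Fintype.ofFinite (T : Subgroup G)
  rw [Nat.card_eq_fintype_card, Nat.card_eq_fintype_card, Fintype.card_subtype_compl,
    Fintype.card_subtype_eq]

end Cfsg.Agent.Invol
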