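import Cfsg.Agent.Invol.ElemCentralizer
import Mathlib.GroupTheory.Complement

/-!
The coset action on `N(T)` when all involution centralisers are elementary abelian.
-/

set_option autoImplicit false

namespace Cfsg.Agent.Invol

variable {G : Type*} [Group G] [Finite G]

/-- The standing hypotheses. -/
structure ECData (T : Sylow 2 G) (u : G) : Prop where
  nc : ¬ IsCyclic (T : Subgroup G)
  nn : ¬ (T : Subgroup G).Normal
  elem : ∀ t : G, orderOf t = 2 → IsMulCommutative (Subgroup.centralizer ({t} : Set G)) ∧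
    ∀ c ∈ Subgroup.centralizer ({t} : Set G), c ^ 2 = 1
  inv_u : orderOf u = 2
  out_u : u ∉ Subgroup.normalizer ((T : Subgroup G) : Set G)

/-- The base point. -/
def ecBase (T : Sylow 2 G) : G ⧸ Subgroup.normalizer ((T : Subgroup G) : Set G) := QuotientGroup.mk 1

theorem smul_ecBase_iff {T : Sylow 2 G} {g : G} :
    g • ecBase T = ecBase T ↔ g ∈ Subgroup.normalizer ((T : Subgroup G) : Set G) := by
  rw [ecBase, MulAction.Quotient.smul_mk, smul_eq_mul, mul_one, eq_comm, QuotientGroup.eq, inv_one,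
    one_mul]

namespace ECData

variable {T : Sylow 2 G} {u : G} (E : ECData T u)
include E

local notation "H" => Subgroup.normalizer ((T : Subgroup G) : Set G)

theorem out_base : u • ecBase T ≠ ecBase T := fun h => E.out_u (smul_ecBase_iff.1 h)

theorem se : Cfsg.IsStronglyEmbedded (Subgroup.normalizer ((T : Subgroup G) : Set G)) :=
  ec_stronglyEmbedded E.nc E.nn E.elem

theorem mem_D {d : G} :
    d ∈ H ⊓ (Subgroup.normalizer ((T : Subgroup G) : Set G)).map (MulAut.conj u).toMonoidHom ↔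
      d • ecBase T = ecBase T ∧ d • u • ecBase T = u • ecBase T := by
  have := E.inv_u
  rw [Subgroup.mem_inf, mem_map_conj_iff, smul_ecBase_iff]
  refine and_congr_right fun _ => ?_
  rw [← smul_ecBase_iff, mul_smul, mul_smul, inv_smul_eq_iff]

theorem card_T : 2 < Nat.card T := by
  obtain ⟨n, hn⟩ := IsPGroup.iff_card.1 T.2
  rcases n with _ | _ | n
  · exfalso
    have : Subsingleton (T : Subgroup G) := (Nat.card_eq_one_iff_unique.1 (hn.trans (pow_zero _))).1
    exact E.nc isCyclic_of_subsingleton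
  · have : Fact (Nat.Prime 2) := ⟨Nat.prime_two⟩
    exact absurd (isCyclic_of_prime_card (p := 2) (hn.trans (pow_one _))) E.nc
  · rw [hn]
    calc 2 < 2 ^ 2 := by norm_num
      _ ≤ 2 ^ (n + 1 + 1) := Nat.pow_le_pow_right two_pos (by omega)

theorem inter_eq_one {d : G} (hd : d ∈ H ⊓ (Subgroup.normalizer ((T : Subgroup G) : Set G)).map
    (MulAut.conj u).toMonoidHom) (hdT : d ∈ (T : Subgroup G)) : d = 1 := by
  by_contra hne
  obtain ⟨j, hj⟩ := IsPGroup.iff_orderOf.1 T.2 ⟨d, hdT⟩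
  rw [Subgroup.orderOf_mk] at hj
  rcases Nat.eq_zero_or_pos j with rfl | hpos
  · exact hne (orderOf_eq_one_iff.1 (hj.trans (pow_zero 2)))
  have h2 : 2 ∣ Nat.card ↥(H ⊓ (Subgroup.normalizer ((T : Subgroup G) : Set G)).map
      (MulAut.conj u).toMonoidHom) := by
    refine ((dvd_pow_self 2 hpos.ne').trans hj.symm.dvd).trans ?_
    rw [← Subgroup.orderOf_mk d hd]
    exact orderOf_dvd_natCard _
  exact (Nat.not_even_iff_odd.2 (E.se.2.2 u E.out_u)) (even_iff_two_dvd.2 h2)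

theorem D_comm {d e : G} (hd : d ∈ H ⊓ (Subgroup.normalizer ((T : Subgroup G) : Set G)).map
    (MulAut.conj u).toMonoidHom) (he : e ∈ H ⊓ (Subgroup.normalizer ((T : Subgroup G) : Set G)).map
    (MulAut.conj u).toMonoidHom) : d * e = e * d := by
  have h := ec_inverts E.nc E.nn E.elem E.inv_u E.out_u (mul_mem hd he)
  rw [show u * (d * e) * u⁻¹ = (u * d * u⁻¹) * (u * e * u⁻¹) by group,
    ec_inverts E.nc E.nn E.elem E.inv_u E.out_u hd, ec_inverts E.nc E.nn E.elem E.inv_u E.out_u he,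
    ← mul_inv_rev, inv_inj] at h
  exact h.symm

theorem decomp {h : G} (hh : h ∈ H) : ∃ t ∈ (T : Subgroup G),
    ∃ e ∈ H ⊓ (Subgroup.normalizer ((T : Subgroup G) : Set G)).map (MulAut.conj u).toMonoidHom,
      t * e = h := by
  obtain ⟨hH, hD⟩ := ec_card E.nc E.nn E.elem E.inv_u E.out_u
  set D := H ⊓ (Subgroup.normalizer ((T : Subgroup G) : Set G)).map (MulAut.conj u).toMonoidHom with hDdef
  have hc : Subgroup.IsComplement' ((T : Subgroup G).subgroupOf H) (D.subgroupOf H) := by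
    refine Subgroup.isComplement'_of_coprime ?_ ?_
    · rw [Nat.card_congr (Subgroup.subgroupOfEquivOfLe (inf_le_left : D ≤ H)).toEquiv, hD,
        Nat.card_congr (Subgroup.subgroupOfEquivOfLe Subgroup.le_normalizer).toEquiv, hH]
    · rw [Nat.card_congr (Subgroup.subgroupOfEquivOfLe (inf_le_left : D ≤ H)).toEquiv, hD,
        Nat.card_congr (Subgroup.subgroupOfEquivOfLe Subgroup.le_normalizer).toEquiv]
      have := E.card_T
      have h := Nat.coprime_self_add_right.2 (Nat.coprime_one_right (Nat.card T - 1))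
      rw [Nat.sub_add_cancel (by omega : 1 ≤ Nat.card T)] at h
      exact h.symm
  obtain ⟨⟨⟨t, ht⟩, ⟨e, he⟩⟩, hte⟩ := (hc : Subgroup.IsComplement' _ _).2 ⟨h, hh⟩
  exact ⟨t, ht, e, he, congrArg Subtype.val hte⟩

theorem centralizer_in_H {d c : G} (hd : d ∈ H ⊓ (Subgroup.normalizer ((T : Subgroup G) : Set G)).map
    (MulAut.conj u).toMonoidHom) (hd1 : d ≠ 1) (hc : c ∈ H) (hcd : c * d = d * c) :
    c ∈ H ⊓ (Subgroup.normalizer ((T : Subgroup G) : Set G)).map (MulAut.conj u).toMonoidHom := by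
  obtain ⟨t, ht, e, he, rfl⟩ := E.decomp hc
  by_cases ht1 : t = 1
  · rwa [ht1, one_mul]
  exfalso
  apply hd1
  refine E.inter_eq_one hd ?_
  have hto : orderOf t = 2 := by
    obtain ⟨s, hsT, hs⟩ := exists_involution_of_ne_bot T.2 fun h => ht1 (by rwa [h, Subgroup.mem_bot] at ht)
    exact orderOf_eq_prime ((E.elem s hs).2 t ((ec_centralizer_eq E.nc E.elem hs hsT).symm ▸ ht)) ht1
  rw [← ec_centralizer_eq E.nc E.elem hto ht, Subgroup.mem_centralizer_singleton_iff]
  rw [mul_assoc, E.D_comm he hd, ← mul_assoc, ← mul_assoc, mul_left_inj] at hcd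
  exact hcd.symm

theorem not_inverted_in_H {d h : G} (hd : d ∈ H ⊓ (Subgroup.normalizer ((T : Subgroup G) : Set G)).map
    (MulAut.conj u).toMonoidHom) (hd1 : d ≠ 1) (hh : h ∈ H) (hinv : h * d * h⁻¹ = d⁻¹) : False := by
  obtain ⟨t, ht, e, he, rfl⟩ := E.decomp hh
  have h1 : t * d * t⁻¹ = d⁻¹ := by
    rw [← hinv]
    calc t * d * t⁻¹ = t * (d * e) * e⁻¹ * t⁻¹ := by group
      _ = t * (e * d) * e⁻¹ * t⁻¹ := by rw [E.D_comm hd he]
      _ = t * e * d * (t * e)⁻¹ := by group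
  have h2 : d * d ∈ (T : Subgroup G) := by
    have h4 : d * t⁻¹ * d⁻¹ ∈ (T : Subgroup G) :=
      (Subgroup.mem_normalizer_iff.1 hd.1 t⁻¹).1 (inv_mem ht)
    have h3 := mul_mem ht h4
    rw [show t * (d * t⁻¹ * d⁻¹) = (t * d * t⁻¹) * d⁻¹ by group, h1] at h3
    have h5 := inv_mem h3
    rwa [mul_inv_rev, inv_inv] at h5
  have h6 := E.inter_eq_one (mul_mem hd hd) h2
  obtain ⟨n, hn⟩ := E.se.2.2 u E.out_u
  have h3 : d ^ (2 * n + 1) = 1 := by
    rw [← hn]
    exact congrArg Subtype.val (pow_card_eq_one' (x := (⟨d, hd⟩ : ↥(H ⊓ _))))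
  rw [pow_succ, pow_mul, pow_two, h6, one_pow, one_mul] at h3
  exact hd1 h3

theorem exists_swap {x : G ⧸ Subgroup.normalizer ((T : Subgroup G) : Set G)} (hx : x ≠ ecBase T) :
    ∃ v : G, orderOf v = 2 ∧ v • ecBase T = x := by
  obtain ⟨t, htH, ht⟩ := se_exists_involution E.se
  have h := card_involutions_coset E.se hx
  have hpos : 0 < Nat.card {t : G // orderOf t = 2 ∧ t ∈ Subgroup.normalizer ((T : Subgroup G) : Set G)} :=
    Nat.card_pos_iff.2 ⟨⟨⟨t, ht, htH⟩⟩, inferInstance⟩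
  rw [← h] at hpos
  obtain ⟨⟨v, hv⟩⟩ := (Nat.card_pos_iff.1 hpos).1
  exact ⟨v, hv.1, hv.2⟩

/-- A nontrivial element of `D` fixes exactly two points. -/
theorem fix_two {d : G} (hd : d ∈ H ⊓ (Subgroup.normalizer ((T : Subgroup G) : Set G)).map
    (MulAut.conj u).toMonoidHom) (hd1 : d ≠ 1)
    {x : G ⧸ Subgroup.normalizer ((T : Subgroup G) : Set G)} (hx : d • x = x) :
    x = ecBase T ∨ x = u • ecBase T := by
  by_contra hc
  obtain ⟨hxo, hxu⟩ := not_or.1 hc
  have hud := ec_inverts E.nc E.nn E.elem E.inv_u E.out_u hd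
  have huu := mul_self_eq_one E.inv_u
  have hux : d • (u • x) = u • x := by
    have e : d * u = u * d⁻¹ := by
      rw [← hud, inv_eq_self E.inv_u, ← mul_assoc, ← mul_assoc, huu, one_mul]
    rw [← mul_smul, e, mul_smul, inv_smul_eq_iff.2 hx.symm]
  -- points other than `u • o` fixed by `d` lie in one orbit of the centraliser of `d`
  have orbit : ∀ y : G ⧸ Subgroup.normalizer ((T : Subgroup G) : Set G),
      d • y = y → y ≠ u • ecBase T → ∃ c, c * d = d * c ∧ c • ecBase T = y := by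
    intro y hy hyu
    have hy' : u • y ≠ ecBase T := fun e => hyu (by rw [← e, smul_smul, huu, one_smul])
    obtain ⟨v, hv, hvy⟩ := E.exists_swap hy'
    have hvH : v ∉ H := fun h => hy' (hvy ▸ smul_ecBase_iff.2 h)
    have E' : ECData T v := ⟨E.nc, E.nn, E.elem, hv, hvH⟩
    have hdv : d • v • ecBase T = v • ecBase T := by
      rw [hvy]
      have e : d * u = u * d⁻¹ := by
        rw [← hud, inv_eq_self E.inv_u, ← mul_assoc, ← mul_assoc, huu, one_mul]
      rw [← mul_smul, e, mul_smul, inv_smul_eq_iff.2 hy.symm]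
    have hvd := ec_inverts E.nc E.nn E.elem hv hvH (E'.mem_D.2 ⟨(E.mem_D.1 hd).1, hdv⟩)
    refine ⟨u * v, ?_, by rw [mul_smul, hvy, smul_smul, huu, one_smul]⟩
    calc u * v * d = u * (v * d * v⁻¹) * v := by group
      _ = u * d⁻¹ * v := by rw [hvd]
      _ = (u * d * u⁻¹)⁻¹ * (u * v) := by group
      _ = d * (u * v) := by rw [hud, inv_inv]
  have noswap : ∀ c, c * d = d * c → c • ecBase T ≠ u • ecBase T := by
    intro c hc hcu
    refine E.not_inverted_in_H hd hd1 (h := u * c) ?_ ?_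
    · rw [← smul_ecBase_iff, mul_smul, hcu, smul_smul, huu, one_smul]
    · calc u * c * d * (u * c)⁻¹ = u * (c * d * c⁻¹) * u⁻¹ := by group
        _ = d⁻¹ := by rw [hc, mul_inv_cancel_right, hud]
  have cfix : ∀ c, c * d = d * c → c • u • ecBase T = u • ecBase T := by
    intro c hc
    by_contra hne
    have hy : d • c • u • ecBase T = c • u • ecBase T := by
      rw [smul_smul, ← hc, mul_smul, (E.mem_D.1 hd).2]
    obtain ⟨c', hc', he⟩ := orbit _ hy hne
    refine noswap (c⁻¹ * c') ?_ (by rw [mul_smul, he, inv_smul_smul])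
    calc c⁻¹ * c' * d = c⁻¹ * (c' * d) := by group
      _ = c⁻¹ * (d * c) * c⁻¹ * c' := by rw [hc']; group
      _ = c⁻¹ * (c * d) * c⁻¹ * c' := by rw [hc]
      _ = d * (c⁻¹ * c') := by group
  obtain ⟨c, hc, hcx⟩ := orbit x hx hxu
  have hcD : u⁻¹ * c * u ∈ H ⊓ (Subgroup.normalizer ((T : Subgroup G) : Set G)).map
      (MulAut.conj u).toMonoidHom := by
    have hd' : u⁻¹ * d * u = d⁻¹ := by
      rw [inv_eq_self E.inv_u]; rw [inv_eq_self E.inv_u] at hud; exact hud
    refine E.centralizer_in_H (inv_mem hd) (inv_ne_one.2 hd1) ?_ ?_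
    · rw [← smul_ecBase_iff, mul_smul, mul_smul, cfix c hc, inv_smul_smul]
    · rw [← hd']
      calc u⁻¹ * c * u * (u⁻¹ * d * u) = u⁻¹ * (c * d) * u := by group
        _ = u⁻¹ * d * u * (u⁻¹ * c * u) := by rw [hc]; group
  apply hxo
  rw [← hcx, smul_ecBase_iff]
  have := mem_map_conj_iff.1 hcD.2
  rw [inv_eq_self E.inv_u] at this
  rwa [show u * (u * c * u) * u = (u * u) * c * (u * u) by group, huu, one_mul, mul_one] at this

theorem exists_ne_one : ∃ d ∈ H ⊓ (Subgroup.normalizer ((T : Subgroup G) : Set G)).map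
    (MulAut.conj u).toMonoidHom, d ≠ 1 := by
  have hD := (ec_card E.nc E.nn E.elem E.inv_u E.out_u).2
  have := E.card_T
  have : Nontrivial ↥(H ⊓ (Subgroup.normalizer ((T : Subgroup G) : Set G)).map
      (MulAut.conj u).toMonoidHom) := Finite.one_lt_card_iff_nontrivial.1 (by rw [hD]; omega)
  obtain ⟨d, hd⟩ := exists_ne (1 : ↥(H ⊓ (Subgroup.normalizer ((T : Subgroup G) : Set G)).map
      (MulAut.conj u).toMonoidHom))
  exact ⟨d, d.2, fun e => hd (Subtype.ext e)⟩

theorem T_semiregular {t : G} (ht : t ∈ (T : Subgroup G))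
    {x : G ⧸ Subgroup.normalizer ((T : Subgroup G) : Set G)} (hx : x ≠ ecBase T) (htx : t • x = x) :
    t = 1 := by
  obtain ⟨v, hv, hvx⟩ := E.exists_swap hx
  have hvH : v ∉ H := fun h => hx (hvx ▸ smul_ecBase_iff.2 h)
  have E' : ECData T v := ⟨E.nc, E.nn, E.elem, hv, hvH⟩
  exact E'.inter_eq_one (E'.mem_D.2 ⟨smul_ecBase_iff.2 (Subgroup.le_normalizer ht), by rw [hvx]; exact htx⟩) ht

/-- Every point other than the base lies in the `T`-orbit of `u • o`. -/
theorem T_transitive {x : G ⧸ Subgroup.normalizer ((T : Subgroup G) : Set G)} (hx : x ≠ ecBase T) :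
    ∃ t ∈ (T : Subgroup G), t • u • ecBase T = x := by
  classical
  obtain ⟨v, hv, hvx⟩ := E.exists_swap hx
  have hvH : v ∉ H := fun h => hx (hvx ▸ smul_ecBase_iff.2 h)
  have E' : ECData T v := ⟨E.nc, E.nn, E.elem, hv, hvH⟩
  obtain ⟨h, hh, hh1⟩ := E'.exists_ne_one
  obtain ⟨hfo, hfx⟩ := E'.mem_D.1 hh
  rw [hvx] at hfx
  set D := H ⊓ (Subgroup.normalizer ((T : Subgroup G) : Set G)).map (MulAut.conj u).toMonoidHom with hDdef
  -- elements of `H` outside `T` are conjugate into `D`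
  let f : {d : D // d ≠ 1} × (T : Subgroup G) → {g : H // (g : G) ∉ (T : Subgroup G)} := fun p =>
    ⟨⟨(p.2 : G) * (p.1.1 : G) * (p.2 : G)⁻¹,
      mul_mem (mul_mem (Subgroup.le_normalizer p.2.2) p.1.1.2.1) (inv_mem (Subgroup.le_normalizer p.2.2))⟩,
      fun e => p.1.2 (Subtype.ext (E.inter_eq_one p.1.1.2 (by
        have := mul_mem (mul_mem (inv_mem p.2.2) e) p.2.2
        rwa [show (p.2 : G)⁻¹ * ((p.2 : G) * (p.1.1 : G) * (p.2 : G)⁻¹) * p.2 = p.1.1 by group] at this)))⟩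
  have hinj : Function.Injective f := by
    rintro ⟨⟨⟨d, hd⟩, hd1⟩, ⟨t, ht⟩⟩ ⟨⟨⟨d', hd'⟩, hd1'⟩, ⟨t', ht'⟩⟩ e
    have e : t * d * t⁻¹ = t' * d' * t'⁻¹ := congrArg (fun g => ((g.1 : H) : G)) e
    have hne : d ≠ 1 := fun h => hd1 (Subtype.ext h)
    set s := t'⁻¹ * t with hs
    have hsd : s * d * s⁻¹ = d' := by
      calc s * d * s⁻¹ = t'⁻¹ * (t * d * t⁻¹) * t' := by rw [hs]; group
        _ = d' := by rw [e]; group
    have hsT : s ∈ (T : Subgroup G) := mul_mem (inv_mem ht') ht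
    have h1 : d' * d⁻¹ = 1 := by
      refine E.inter_eq_one (mul_mem hd' (inv_mem hd)) ?_
      rw [← hsd, show s * d * s⁻¹ * d⁻¹ = s * (d * s⁻¹ * d⁻¹) by group]
      exact mul_mem hsT ((Subgroup.mem_normalizer_iff.1 hd.1 s⁻¹).1 (inv_mem hsT))
    have hdd : d' = d := mul_inv_eq_one.1 h1
    subst hdd
    have hsD := E.centralizer_in_H hd hne (Subgroup.le_normalizer hsT) (mul_inv_eq_iff_eq_mul.1 hsd)
    have hs1 := E.inter_eq_one hsD hsT
    rw [hs, inv_mul_eq_one] at hs1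
    subst hs1
    rfl
  have hcard : Nat.card ({d : D // d ≠ 1} × (T : Subgroup G)) =
      Nat.card {g : H // (g : G) ∉ (T : Subgroup G)} := by
    obtain ⟨hH, hD⟩ := ec_card E.nc E.nn E.elem E.inv_u E.out_u
    have := Fintype.ofFinite G
    have hT : Nat.card {g : H // (g : G) ∈ (T : Subgroup G)} = Nat.card T :=
      Nat.card_congr (Subgroup.subgroupOfEquivOfLe Subgroup.le_normalizer).toEquiv
    rw [Nat.card_prod, Nat.card_eq_fintype_card (α := {d : D // d ≠ 1}), Fintype.card_subtype_compl,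
      Fintype.card_subtype_eq, ← Nat.card_eq_fintype_card, hD,
      Nat.card_eq_fintype_card (α := {g : H // (g : G) ∉ (T : Subgroup G)}), Fintype.card_subtype_compl,
      ← Nat.card_eq_fintype_card, hH, ← Nat.card_eq_fintype_card, hT]
    rw [Nat.sub_one_mul, mul_comm (Nat.card T - 1)]
  have hsurj := ((Nat.bijective_iff_injective_and_card f).2 ⟨hinj, hcard⟩).2
  have hhT : h ∉ (T : Subgroup G) := fun e => hh1 (E'.inter_eq_one hh e)
  obtain ⟨⟨⟨⟨d, hd⟩, hd1⟩, ⟨t, ht⟩⟩, he⟩ := hsurj ⟨⟨h, hh.1⟩, hhT⟩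
  have he : t * d * t⁻¹ = h := congrArg (fun g => ((g.1 : H) : G)) he
  refine ⟨t, ht, ?_⟩
  rcases E.fix_two hd (fun e => hd1 (Subtype.ext e)) (x := t⁻¹ • x) (by
      rw [← he, mul_smul, mul_smul] at hfx
      exact eq_inv_smul_iff.2 hfx) with e | e
  · exfalso
    apply hx
    rw [inv_smul_eq_iff] at e
    rw [e, smul_ecBase_iff]
    exact Subgroup.le_normalizer ht
  · rw [← e, smul_inv_smul]

end ECData

end Cfsg.Agent.Invol
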