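import Cfsg.Prelude.Def_CaseTheorems
import Mathlib.Data.ZMod.Basic
import Mathlib.GroupTheory.Index
import Mathlib.GroupTheory.Abelianization.Defs
import Mathlib.GroupTheory.SpecificGroups.Dihedral
import Mathlib.GroupTheory.SpecificGroups.Quaternion
import Mathlib.GroupTheory.SpecificGroups.KleinFour
import Mathlib.Tactic.Ring
import Mathlib.Tactic.LinearCombination

/-!
Normal form in a wreathed group of order `2 ^ (2 n + 1)`.
-/

set_option autoImplicit false

namespace Cfsg.Agent.Invol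

variable {S : Type*} [Group S]

/-- Wreathed generators. -/
structure WRGen (x y z : S) (n : ℕ) : Prop where
  two_le : 2 ≤ n
  ordx : orderOf x = 2 ^ n
  comm : x * y = y * x
  disj : Subgroup.zpowers x ⊓ Subgroup.zpowers y = ⊥
  ordz : orderOf z = 2
  rel : z * x * z⁻¹ = y
  card : Nat.card S = 2 ^ (2 * n + 1)

theorem wrgen_exists (hS : Cfsg.IsWreathed S) : ∃ (x y z : S) (n : ℕ), WRGen x y z n := by
  obtain ⟨n, hn, hc, x, y, z, hx, hxy, hd, hz, h⟩ := hS
  exact ⟨x, y, z, n, hn, hx, hxy, hd, hz, h, hc⟩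

theorem wrgen_exists' (hS : Cfsg.IsWreathed S) {n : ℕ} (hn : Nat.card S = 2 ^ (2 * n + 1)) :
    ∃ x y z : S, WRGen x y z n := by
  obtain ⟨x, y, z, m, h⟩ := wrgen_exists hS
  obtain rfl : m = n := by
    have := Nat.pow_right_injective le_rfl (h.card.symm.trans hn)
    omega
  exact ⟨x, y, z, h⟩

/-- `w (i, j) = x ^ i * y ^ j`. -/
def ww (x y : S) (n : ℕ) (i j : ZMod (2 ^ n)) : S := x ^ i.val * y ^ j.val

/-- half of the modulus -/
def wh (n : ℕ) : ZMod (2 ^ n) := 2 ^ (n - 1)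

variable {x y z : S} {n : ℕ}

namespace WRGen

variable (hh : WRGen x y z n)
include hh

theorem finite : Finite S := Nat.finite_of_card_ne_zero (by rw [hh.card]; positivity)

theorem two_h : 2 * wh n = 0 := by
  have := hh.two_le
  rw [wh, ← pow_succ', show n - 1 + 1 = n by omega,
    show (2 : ZMod (2 ^ n)) ^ n = ((2 ^ n : ℕ) : ZMod (2 ^ n)) by push_cast; ring, ZMod.natCast_self]

theorem h_ne : wh n ≠ 0 := by
  have := hh.two_le
  rw [wh, show (2 : ZMod (2 ^ n)) ^ (n - 1) = ((2 ^ (n - 1) : ℕ) : ZMod (2 ^ n)) by push_cast; ring,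
    ne_eq, ZMod.natCast_eq_zero_iff]
  intro h
  have h2 := Nat.le_of_dvd (by positivity) h
  have : 2 ^ n = 2 * 2 ^ (n - 1) := by rw [← pow_succ', show n - 1 + 1 = n by omega]
  have := Nat.two_pow_pos (n - 1)
  omega

theorem two_mul_eq_zero {i : ZMod (2 ^ n)} (h : 2 * i = 0) : i = 0 ∨ i = wh n := by
  have hd : 2 ^ n ∣ 2 * i.val := by
    rw [← ZMod.natCast_eq_zero_iff]; push_cast; rw [ZMod.natCast_zmod_val, h]
  have hn := hh.two_le
  have he : 2 ^ n = 2 * 2 ^ (n - 1) := by rw [← pow_succ', show n - 1 + 1 = n by omega]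
  have hlt : i.val < 2 * 2 ^ (n - 1) := lt_of_lt_of_eq i.val_lt he
  replace hd : 2 * 2 ^ (n - 1) ∣ 2 * i.val := (dvd_of_eq he.symm).trans hd
  obtain ⟨c, hc⟩ := Nat.dvd_of_mul_dvd_mul_left two_pos hd
  rcases c with _ | _ | c
  · exact Or.inl (by rw [← ZMod.natCast_zmod_val i, hc, mul_zero, Nat.cast_zero])
  · refine Or.inr ?_
    rw [← ZMod.natCast_zmod_val i, hc, wh]
    push_cast
    ring
  · exfalso
    rw [hc] at hlt
    nlinarith [Nat.two_pow_pos (n - 1)]

theorem ordy : orderOf y = 2 ^ n := by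
  rw [← hh.rel, ← MulAut.conj_apply, MulEquiv.orderOf_eq, hh.ordx]

theorem z_sq : z * z = 1 := by rw [← pow_two, ← hh.ordz, pow_orderOf_eq_one]

theorem z_inv : z⁻¹ = z := inv_eq_of_mul_eq_one_right hh.z_sq

theorem rel' : z * y * z⁻¹ = x := by
  rw [← hh.rel, hh.z_inv]
  simp only [← mul_assoc, hh.z_sq, one_mul]
  rw [mul_assoc, hh.z_sq, mul_one]

theorem pow_add_val {g : S} (hg : orderOf g = 2 ^ n) (i j : ZMod (2 ^ n)) :
    g ^ (i + j).val = g ^ i.val * g ^ j.val := by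
  have h := pow_mod_orderOf g (i.val + j.val)
  rw [hg] at h
  rw [← pow_add, ZMod.val_add, h]

theorem w_add (i j k l : ZMod (2 ^ n)) : ww x y n (i + k) (j + l) = ww x y n i j * ww x y n k l := by
  have hc : Commute (y ^ j.val) (x ^ k.val) := (Commute.symm hh.comm).pow_pow _ _
  rw [ww, ww, ww, hh.pow_add_val hh.ordx, hh.pow_add_val hh.ordy, mul_assoc, mul_assoc,
    ← mul_assoc (y ^ j.val), hc.eq, mul_assoc]

omit hh in
theorem w_zero : ww x y n 0 0 = 1 := by simp [ww]

theorem w_mul (i j k l : ZMod (2 ^ n)) : ww x y n i j * ww x y n k l = ww x y n (i + k) (j + l) :=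
  (hh.w_add i j k l).symm

theorem w_inv (i j : ZMod (2 ^ n)) : (ww x y n i j)⁻¹ = ww x y n (-i) (-j) :=
  inv_eq_of_mul_eq_one_right (by rw [hh.w_mul, add_neg_cancel, add_neg_cancel, w_zero])

theorem w_eq_one {i j : ZMod (2 ^ n)} : ww x y n i j = 1 ↔ i = 0 ∧ j = 0 := by
  refine ⟨fun h => ?_, fun ⟨a, b⟩ => by rw [a, b, w_zero]⟩
  rw [ww, mul_eq_one_iff_eq_inv] at h
  have h1 : x ^ i.val ∈ Subgroup.zpowers x ⊓ Subgroup.zpowers y :=
    ⟨Subgroup.npow_mem_zpowers x _, by rw [h]; exact (Subgroup.zpowers y).inv_mem (Subgroup.npow_mem_zpowers y _)⟩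
  rw [hh.disj, Subgroup.mem_bot] at h1
  rw [h1, eq_comm, inv_eq_one] at h
  have key : ∀ (g : S), orderOf g = 2 ^ n → ∀ a : ZMod (2 ^ n), g ^ a.val = 1 → a = 0 := fun g hg a e => by
    refine (ZMod.val_eq_zero a).1 (Nat.eq_zero_of_dvd_of_lt ?_ a.val_lt)
    have := orderOf_dvd_of_pow_eq_one e
    exact hg.symm.dvd.trans this
  exact ⟨key x hh.ordx i h1, key y hh.ordy j h⟩

theorem w_inj {i j k l : ZMod (2 ^ n)} (h : ww x y n i j = ww x y n k l) : i = k ∧ j = l := by
  rw [← mul_inv_eq_one, hh.w_inv, hh.w_mul, hh.w_eq_one, add_neg_eq_zero, add_neg_eq_zero] at h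
  exact h

theorem z_mul (i j : ZMod (2 ^ n)) : z * ww x y n i j = ww x y n j i * z := by
  have h : z * ww x y n i j * z⁻¹ = ww x y n j i := by
    rw [ww, ww, show z * (x ^ i.val * y ^ j.val) * z⁻¹ = (z * x ^ i.val * z⁻¹) * (z * y ^ j.val * z⁻¹) by
      group, ← conj_pow, ← conj_pow, hh.rel, hh.rel']
    exact ((Commute.symm hh.comm).pow_pow _ _).eq
  rw [← h, inv_mul_cancel_right]

theorem w_ne (i j k l : ZMod (2 ^ n)) : ww x y n i j ≠ ww x y n k l * z := by
  intro h
  have hz : z = ww x y n (-k + i) (-l + j) := by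
    rw [← hh.w_mul, ← hh.w_inv, h, inv_mul_cancel_left]
  have h1 := hh.z_mul 1 0
  rw [hz, hh.w_mul, hh.w_mul] at h1
  have hn := hh.two_le
  have h2 := (hh.w_inj h1).2
  have h10 : (1 : ZMod (2 ^ n)) = 0 := by linear_combination -h2
  have : (wh n : ZMod (2 ^ n)) = 0 := by rw [← mul_one (wh n), h10, mul_zero]
  exact hh.h_ne this

theorem wz_inj {i j k l : ZMod (2 ^ n)} (h : ww x y n i j * z = ww x y n k l * z) : i = k ∧ j = l :=
  hh.w_inj (mul_right_cancel h)

theorem wz_ne_one (i j : ZMod (2 ^ n)) : ww x y n i j * z ≠ 1 := fun h =>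
  hh.w_ne 0 0 i j (by rw [h, w_zero])

theorem cases (s : S) : (∃ i j, s = ww x y n i j) ∨ ∃ i j, s = ww x y n i j * z := by
  have := hh.finite
  have := Fintype.ofFinite S
  let f : ZMod (2 ^ n) × ZMod (2 ^ n) × Bool → S := fun p =>
    ww x y n p.1 p.2.1 * (if p.2.2 then z else 1)
  have hinj : Function.Injective f := by
    rintro ⟨i, j, b⟩ ⟨k, l, c⟩ h
    rcases b with _ | _ <;> rcases c with _ | _ <;>
      simp only [f, if_true, if_false, Bool.false_eq_true, mul_one] at h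
    · obtain ⟨rfl, rfl⟩ := hh.w_inj h; rfl
    · exact absurd h (hh.w_ne _ _ _ _)
    · exact absurd h.symm (hh.w_ne _ _ _ _)
    · obtain ⟨rfl, rfl⟩ := hh.wz_inj h; rfl
  have hbij : Function.Bijective f := by
    rw [Fintype.bijective_iff_injective_and_card]
    refine ⟨hinj, ?_⟩
    rw [← Nat.card_eq_fintype_card (α := S), hh.card, Fintype.card_prod, Fintype.card_prod,
      ZMod.card, Fintype.card_bool]
    ring
  obtain ⟨⟨i, j, b⟩, rfl⟩ := hbij.2 s
  cases b
  · exact Or.inl ⟨i, j, by simp [f]⟩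
  · exact Or.inr ⟨i, j, by simp [f]⟩

theorem w_mul_wz (i j k l : ZMod (2 ^ n)) :
    ww x y n i j * (ww x y n k l * z) = ww x y n (i + k) (j + l) * z := by
  rw [← mul_assoc, hh.w_mul]

theorem wz_mul_w (i j k l : ZMod (2 ^ n)) :
    ww x y n i j * z * ww x y n k l = ww x y n (i + l) (j + k) * z := by
  rw [mul_assoc, hh.z_mul, hh.w_mul_wz]

theorem wz_mul_wz (i j k l : ZMod (2 ^ n)) :
    ww x y n i j * z * (ww x y n k l * z) = ww x y n (i + l) (j + k) := by
  rw [← mul_assoc, hh.wz_mul_w, mul_assoc, hh.z_sq, mul_one]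

theorem w_conj_wz (a b i j : ZMod (2 ^ n)) :
    ww x y n a b * (ww x y n i j * z) * (ww x y n a b)⁻¹ =
      ww x y n (i + a - b) (j + b - a) * z := by
  rw [hh.w_inv, hh.w_mul_wz, hh.wz_mul_w]
  congr 2 <;> ring

theorem w_sq_one {i j : ZMod (2 ^ n)} (h : ww x y n i j * ww x y n i j = 1) :
    (i = 0 ∨ i = wh n) ∧ (j = 0 ∨ j = wh n) := by
  rw [hh.w_mul, hh.w_eq_one, ← two_mul, ← two_mul] at h
  exact ⟨hh.two_mul_eq_zero h.1, hh.two_mul_eq_zero h.2⟩

theorem order_two {s : S} : orderOf s = 2 ↔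
    s = ww x y n (wh n) (wh n) ∨ s = ww x y n (wh n) 0 ∨ s = ww x y n 0 (wh n) ∨
      ∃ i, s = ww x y n i (-i) * z := by
  constructor
  · intro hs
    have h2 : s * s = 1 := by rw [← pow_two, ← hs, pow_orderOf_eq_one]
    have h1 : s ≠ 1 := fun e => by rw [e, orderOf_one] at hs; omega
    rcases hh.cases s with ⟨i, j, rfl⟩ | ⟨i, j, rfl⟩
    · rcases hh.w_sq_one h2 with ⟨rfl | rfl, rfl | rfl⟩
      · exact absurd w_zero h1
      · exact Or.inr (Or.inr (Or.inl rfl))
      · exact Or.inr (Or.inl rfl)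
      · exact Or.inl rfl
    · rw [hh.wz_mul_wz, hh.w_eq_one] at h2
      exact Or.inr (Or.inr (Or.inr ⟨i, by rw [show j = -i by linear_combination h2.1]⟩))
  · have hsq : ∀ i j, 2 * i = 0 → 2 * j = 0 → (i ≠ 0 ∨ j ≠ 0) → orderOf (ww x y n i j) = 2 :=
      fun i j hi hj hne => orderOf_eq_prime
        (by rw [pow_two, hh.w_mul, hh.w_eq_one, ← two_mul, ← two_mul]; exact ⟨hi, hj⟩)
        (fun e => by
          obtain ⟨a, b⟩ := hh.w_eq_one.1 e
          exact hne.elim (fun h => h a) fun h => h b)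
    rintro (rfl | rfl | rfl | ⟨i, rfl⟩)
    · exact hsq _ _ hh.two_h hh.two_h (Or.inl hh.h_ne)
    · exact hsq _ _ hh.two_h (mul_zero _) (Or.inl hh.h_ne)
    · exact hsq _ _ (mul_zero _) hh.two_h (Or.inr hh.h_ne)
    · refine orderOf_eq_prime ?_ (hh.wz_ne_one _ _)
      rw [pow_two, hh.wz_mul_wz, hh.w_eq_one]
      exact ⟨add_neg_cancel i, neg_add_cancel i⟩

theorem mem_center_iff {s : S} : s ∈ Subgroup.center S ↔ ∃ i, s = ww x y n i i := by
  rw [Subgroup.mem_center_iff]
  constructor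
  · intro h
    rcases hh.cases s with ⟨i, j, rfl⟩ | ⟨i, j, rfl⟩
    · have h1 := h z
      rw [hh.z_mul] at h1
      obtain ⟨-, e⟩ := hh.wz_inj h1
      exact ⟨i, by rw [e]⟩
    · exfalso
      have h1 := h (ww x y n 1 0)
      rw [hh.w_mul_wz, hh.wz_mul_w] at h1
      have e := (hh.wz_inj h1).1
      have h10 : (1 : ZMod (2 ^ n)) = 0 := by linear_combination e
      exact hh.h_ne (by rw [← mul_one (wh n), h10, mul_zero])
  · rintro ⟨i, rfl⟩ g
    rcases hh.cases g with ⟨k, l, rfl⟩ | ⟨k, l, rfl⟩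
    · rw [hh.w_mul, hh.w_mul, add_comm k, add_comm l]
    · rw [hh.wz_mul_w, hh.w_mul_wz, add_comm k, add_comm l]

theorem center_commute (i : ZMod (2 ^ n)) (g : S) : g * ww x y n i i = ww x y n i i * g :=
  Subgroup.mem_center_iff.1 (hh.mem_center_iff.2 ⟨i, rfl⟩) g

/-- The abelian maximal subgroup as an embedding. -/
noncomputable def toU : Multiplicative (ZMod (2 ^ n) × ZMod (2 ^ n)) →* S :=
  MonoidHom.mk' (fun p => ww x y n p.toAdd.1 p.toAdd.2) (fun p q => hh.w_add _ _ _ _)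

theorem mem_range_toU {s : S} : s ∈ hh.toU.range ↔ ∃ i j, s = ww x y n i j :=
  ⟨fun ⟨p, hp⟩ => ⟨p.toAdd.1, p.toAdd.2, hp.symm⟩,
    fun ⟨i, j, h⟩ => ⟨Multiplicative.ofAdd (i, j), h.symm⟩⟩

theorem toU_inj : Function.Injective hh.toU := fun p q h => by
  obtain ⟨a, b⟩ := hh.w_inj h
  exact Multiplicative.toAdd.injective (Prod.ext a b)

theorem card_range_toU : Nat.card hh.toU.range = 2 ^ (2 * n) := by
  rw [← Nat.card_congr (MonoidHom.ofInjective hh.toU_inj).toEquiv,
    Nat.card_congr Multiplicative.toAdd, Nat.card_prod, Nat.card_zmod, ← pow_add, two_mul]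

theorem range_toU_comm : IsMulCommutative hh.toU.range :=
  ⟨⟨fun a b => Subtype.ext (by
    obtain ⟨i, j, ha⟩ := hh.mem_range_toU.1 a.2
    obtain ⟨k, l, hb⟩ := hh.mem_range_toU.1 b.2
    show (a : S) * b = b * a
    rw [ha, hb, hh.w_mul, hh.w_mul, add_comm i, add_comm j])⟩⟩

/-- The centraliser of an element outside `U`. -/
theorem commute_wz {i j : ZMod (2 ^ n)} {g : S}
    (h : g * (ww x y n i j * z) = ww x y n i j * z * g) :
    ∃ a, g = ww x y n a a ∨ g = ww x y n a a * (ww x y n i j * z) := by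
  rcases hh.cases g with ⟨a, b, rfl⟩ | ⟨a, b, rfl⟩
  · rw [hh.w_mul_wz, hh.wz_mul_w] at h
    obtain ⟨e, -⟩ := hh.wz_inj h
    exact ⟨a, Or.inl (by rw [show b = a by linear_combination -e])⟩
  · rw [hh.wz_mul_wz, hh.wz_mul_wz] at h
    obtain ⟨e, -⟩ := hh.w_inj h
    refine ⟨a - i, Or.inr ?_⟩
    rw [hh.w_mul_wz]
    congr 2
    · ring
    · linear_combination -e

theorem commute_w {i j : ZMod (2 ^ n)} (hne : i ≠ j) {g : S}
    (h : g * ww x y n i j = ww x y n i j * g) : ∃ a b, g = ww x y n a b := by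
  rcases hh.cases g with h' | ⟨a, b, rfl⟩
  · exact h'
  · rw [hh.wz_mul_w, hh.w_mul_wz] at h
    obtain ⟨e, -⟩ := hh.wz_inj h
    exact absurd (by linear_combination -e) hne

theorem center_le (X : Subgroup S) (hX : ¬ IsMulCommutative X) {g : S} (hg : g ∈ X)
    (hc : ∀ s ∈ X, g * s = s * g) : g ∈ Subgroup.center S := by
  by_contra hnc
  rw [hh.mem_center_iff] at hnc
  apply hX
  refine ⟨⟨fun a b => Subtype.ext ?_⟩⟩
  show (a : S) * b = b * a
  rcases hh.cases g with ⟨i, j, rfl⟩ | ⟨i, j, rfl⟩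
  · have hne : i ≠ j := fun e => hnc ⟨i, by rw [← e]⟩
    obtain ⟨p, q, ha⟩ := hh.commute_w hne (hc a a.2).symm
    obtain ⟨r, t, hb⟩ := hh.commute_w hne (hc b b.2).symm
    rw [ha, hb, hh.w_mul, hh.w_mul, add_comm p, add_comm q]
  · obtain ⟨p, ha⟩ := hh.commute_wz (hc a a.2).symm
    obtain ⟨q, hb⟩ := hh.commute_wz (hc b b.2).symm
    set g := ww x y n i j * z
    have hA : Commute (ww x y n p p) g := (hh.center_commute p g).symm
    have hB : Commute (ww x y n q q) g := (hh.center_commute q g).symm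
    have hAB : Commute (ww x y n p p) (ww x y n q q) := (hh.center_commute p _).symm
    rcases ha with ha | ha <;> rcases hb with hb | hb <;> rw [ha, hb]
    · exact hAB.eq
    · exact (hAB.mul_right hA).eq
    · exact ((hAB.symm.mul_right hB).symm).eq
    · exact ((hAB.mul_right hA).mul_left (hB.symm.mul_right (Commute.refl g))).eq

theorem coord_exists (s : S) :
    ∃ a : ZMod (2 ^ n), ∀ i j, (s = ww x y n i j ∨ s = ww x y n i j * z) → a = i + j := by
  rcases hh.cases s with ⟨k, l, rfl⟩ | ⟨k, l, rfl⟩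
  · refine ⟨k + l, fun i j h => ?_⟩
    rcases h with h | h
    · obtain ⟨rfl, rfl⟩ := hh.w_inj h; rfl
    · exact absurd h (hh.w_ne _ _ _ _)
  · refine ⟨k + l, fun i j h => ?_⟩
    rcases h with h | h
    · exact absurd h.symm (hh.w_ne _ _ _ _)
    · obtain ⟨rfl, rfl⟩ := hh.wz_inj h; rfl

/-- The sum of the exponents. -/
noncomputable def sumHom : S →* Multiplicative (ZMod (2 ^ n)) :=
  MonoidHom.mk' (fun s => Multiplicative.ofAdd (hh.coord_exists s).choose) (fun a b => by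
    rw [← ofAdd_add]
    congr 1
    rcases hh.cases a with ⟨i, j, rfl⟩ | ⟨i, j, rfl⟩ <;> rcases hh.cases b with ⟨k, l, rfl⟩ | ⟨k, l, rfl⟩
    · rw [(hh.coord_exists _).choose_spec _ _ (Or.inl (hh.w_mul i j k l)),
        (hh.coord_exists _).choose_spec i j (Or.inl rfl), (hh.coord_exists _).choose_spec k l (Or.inl rfl)]
      ring
    · rw [(hh.coord_exists _).choose_spec _ _ (Or.inr (hh.w_mul_wz i j k l)),
        (hh.coord_exists _).choose_spec i j (Or.inl rfl), (hh.coord_exists _).choose_spec k l (Or.inr rfl)]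
      ring
    · rw [(hh.coord_exists _).choose_spec _ _ (Or.inr (hh.wz_mul_w i j k l)),
        (hh.coord_exists _).choose_spec i j (Or.inr rfl), (hh.coord_exists _).choose_spec k l (Or.inl rfl)]
      ring
    · rw [(hh.coord_exists _).choose_spec _ _ (Or.inl (hh.wz_mul_wz i j k l)),
        (hh.coord_exists _).choose_spec i j (Or.inr rfl), (hh.coord_exists _).choose_spec k l (Or.inr rfl)]
      ring)

theorem sumHom_w (i j : ZMod (2 ^ n)) : hh.sumHom (ww x y n i j) = Multiplicative.ofAdd (i + j) :=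
  congrArg Multiplicative.ofAdd ((hh.coord_exists _).choose_spec i j (Or.inl rfl))

theorem sumHom_wz (i j : ZMod (2 ^ n)) :
    hh.sumHom (ww x y n i j * z) = Multiplicative.ofAdd (i + j) :=
  congrArg Multiplicative.ofAdd ((hh.coord_exists _).choose_spec i j (Or.inr rfl))

theorem commutator_cases {s : S} (hs : s ∈ commutator S) : ∃ i, s = ww x y n i (-i) := by
  have h1 : hh.sumHom s = 1 := (Abelianization.commutator_subset_ker hh.sumHom) hs
  have hidx : hh.toU.range.index = 2 := by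
    have h := hh.toU.range.card_mul_index
    rw [hh.card_range_toU, hh.card, pow_succ] at h
    exact Nat.eq_of_mul_eq_mul_left (Nat.two_pow_pos _) h
  have h2 : commutator S ≤ hh.toU.range := by
    rw [commutator_def, Subgroup.commutator_le]
    intro a _ b _
    show a * b * a⁻¹ * b⁻¹ ∈ hh.toU.range
    simp only [Subgroup.mul_mem_iff_of_index_two hidx, inv_mem_iff]
    tauto
  obtain ⟨i, j, rfl⟩ := hh.mem_range_toU.1 (h2 hs)
  rw [hh.sumHom_w, ofAdd_eq_one] at h1
  exact ⟨i, by rw [show j = -i by linear_combination h1]⟩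

open scoped commutatorElement in
theorem antidiag_mem_commutator (i : ZMod (2 ^ n)) : ww x y n i (-i) ∈ commutator S := by
  rw [commutator_def]
  have h := Subgroup.commutator_mem_commutator (Subgroup.mem_top (ww x y n i 0)) (Subgroup.mem_top z)
  rw [commutatorElement_def, hh.w_inv, hh.z_inv] at h
  have e : ww x y n i 0 * z * ww x y n (-i) (-0) * z = ww x y n i (-i) := by
    rw [hh.wz_mul_w, mul_assoc, hh.z_sq, mul_one]; congr 1 <;> ring
  rwa [e] at h

theorem natCast_mul_w (k : ℕ) (i j : ZMod (2 ^ n)) :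
    ww x y n i j ^ k = ww x y n (k * i) (k * j) := by
  induction k with
  | zero => simp [w_zero]
  | succ k ih => rw [pow_succ, ih, hh.w_mul]; push_cast; congr 1 <;> ring

end WRGen

end Cfsg.Agent.Invol
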