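import Cfsg.Agent.Invol.BSQ8Local
import Mathlib.Tactic.Linarith

/-!
A group with a quaternion Sylow 2-subgroup of order eight has the involution inside a proper
normal subgroup (or a normal 2-complement), given the section facts for its centraliser.
-/

set_option autoImplicit false

namespace Cfsg.Agent.Invol

open Cfsg.Agent
open scoped ComplexConjugate

universe u

/-- If weighted signed data satisfy the three equations with at most one negative weight, some
ratio equals the ratio of the distinguished entry. -/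
theorem three_signed {c c0 D1 E1 D2 E2 D3 E3 : ℝ} (hc : 0 < c)
    (h2 : D2 ≠ 0) (h3 : D3 ≠ 0) (hn : 0 < D2 ∧ 0 < D3)
    (e1 : c + D1 + D2 + D3 = 0) (e2 : c0 + E1 + E2 + E3 = 0)
    (e3 : c0 ^ 2 / c + E1 ^ 2 / D1 + E2 ^ 2 / D2 + E3 ^ 2 / D3 = 0) :
    E2 / D2 = c0 / c := by
  obtain ⟨p2, p3⟩ := hn
  have hS : 0 < c + D2 + D3 := by linarith
  have hd1 : D1 = -(c + D2 + D3) := by linarith
  have he1 : E1 = -(c0 + E2 + E3) := by linarith
  subst hd1 he1
  have hc0 : c ≠ 0 := hc.ne'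
  have key : (E2 * c - c0 * D2) ^ 2 / (c * D2) + (E3 * c - c0 * D3) ^ 2 / (c * D3) +
      (E3 * D2 - E2 * D3) ^ 2 / (D2 * D3) =
      (c + D2 + D3) * (c0 ^ 2 / c + (-(c0 + E2 + E3)) ^ 2 / -(c + D2 + D3) + E2 ^ 2 / D2 +
        E3 ^ 2 / D3) := by
    have hS' : c + D2 + D3 ≠ 0 := hS.ne'
    field_simp
    ring
  rw [e3, mul_zero] at key
  have t1 : 0 ≤ (E2 * c - c0 * D2) ^ 2 / (c * D2) := by positivity
  have t2 : 0 ≤ (E3 * c - c0 * D3) ^ 2 / (c * D3) := by positivity
  have t3 : 0 ≤ (E3 * D2 - E2 * D3) ^ 2 / (D2 * D3) := by positivity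
  have h0 : (E2 * c - c0 * D2) ^ 2 / (c * D2) = 0 := by linarith
  rw [div_eq_zero_iff] at h0
  have h4 := sq_eq_zero_iff.1 (h0.resolve_right (by positivity))
  rw [div_eq_div_iff h2 hc0]
  linarith

/-- as `three_signed`, for some index -/
theorem three_signed' {c c0 D1 E1 D2 E2 D3 E3 : ℝ} (hc : 0 < c) (h1 : D1 ≠ 0) (h2 : D2 ≠ 0)
    (h3 : D3 ≠ 0) (hone : (0 < D2 ∧ 0 < D3) ∨ (0 < D1 ∧ 0 < D3) ∨ (0 < D1 ∧ 0 < D2))
    (e1 : c + D1 + D2 + D3 = 0) (e2 : c0 + E1 + E2 + E3 = 0)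
    (e3 : c0 ^ 2 / c + E1 ^ 2 / D1 + E2 ^ 2 / D2 + E3 ^ 2 / D3 = 0) :
    E1 / D1 = c0 / c ∨ E2 / D2 = c0 / c ∨ E3 / D3 = c0 / c := by
  rcases hone with h | h | h
  · exact Or.inr (Or.inl (three_signed hc h2 h3 h e1 e2 e3))
  · exact Or.inl (three_signed (D1 := D2) (E1 := E2) (D3 := D3) (E3 := E3) hc h1 h3 h
      (by linarith) (by linarith) (by linarith))
  · exact Or.inl (three_signed (D1 := D3) (E1 := E3) (D3 := D2) (E3 := E2) hc h1 h2 h
      (by linarith) (by linarith) (by linarith))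

variable {G : Type u} [Group G] [Fintype G]

/-- The value at the involution of a nonprincipal character is less than the degree in size. -/
theorem q8_abs_lt {P : Sylow 2 G} {a : G} (h : QData P a 2)
    (hns : ∀ N : Subgroup G, N.Normal → a * a ∈ N → N = ⊤) (χ : Cfsg.IrrCharacter G)
    (hne : (χ : G → ℂ) ≠ fun _ => 1) :
    (χ : G → ℂ) (a * a) ≠ (χ : G → ℂ) 1 ∧ (χ : G → ℂ) (a * a) ≠ -(χ : G → ℂ) 1 := by
  have hc := Char.IsIrr.isCharacter χ.2
  refine ⟨fun e => ?_, fun e => ?_⟩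
  · have htop := hns (Char.kerSubgroup hc) inferInstance e
    exact hne (irr_eq_one_of_const χ fun g => (htop ▸ Subgroup.mem_top g : g ∈ Char.kerSubgroup hc))
  · have hψ := Char.isCharacter_mul hc (Char.isCharacter_conj hc)
    have he : ((χ : G → ℂ) * fun g => conj ((χ : G → ℂ) g)) (a * a) =
        ((χ : G → ℂ) * fun g => conj ((χ : G → ℂ) g)) 1 := by
      simp [e]
    have htop := hns (Char.kerSubgroup hψ) inferInstance he
    have hall : ∀ g, (χ : G → ℂ) g * conj ((χ : G → ℂ) g) =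
        (χ : G → ℂ) 1 * conj ((χ : G → ℂ) 1) := fun g =>
      (htop ▸ Subgroup.mem_top g : g ∈ Char.kerSubgroup hψ)
    have h1 := Char.classInner_irr_self χ.2
    simp only [Cfsg.classInner, hall, Finset.sum_const, Finset.card_univ, nsmul_eq_mul,
      ← Nat.card_eq_fintype_card] at h1
    rw [inv_mul_cancel_left₀ Char.card_ne_zero] at h1
    obtain ⟨d, hd0, hd⟩ := Char.IsIrr.degree χ.2
    rw [hd, map_natCast] at h1
    have hd1 : d = 1 := by
      have : d * d = 1 := by exact_mod_cast h1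
      exact (mul_eq_one.1 this).1
    subst hd1
    obtain ⟨f, hf⟩ := Char.IsChar.exists_hom hc (by simpa using hd)
    obtain ⟨p, hp, hpa⟩ := q8_inverted h h.mem (by rw [h.order]; norm_num)
    have e1 : f a * f a = 1 := by
      have := congrArg f hpa
      rw [map_mul, map_mul, map_inv, map_inv, mul_inv_cancel_comm, eq_inv_iff_mul_eq_one] at this
      exact this
    rw [hf] at e
    simp only [map_mul, e1, Units.val_one, map_one] at e
    norm_num at e

open scoped Classical in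
/-- The `Q8` case of the Brauer-Suzuki theorem. -/
theorem q8_false {P : Sylow 2 G} {a : G} (h : QData P a 2)
    (hns : ∀ N : Subgroup G, N.Normal → a * a ∈ N → N = ⊤)
    (hnc : ¬ Cfsg.HasNormalPComplement 2 G)
    (haC : a ∈ Subgroup.centralizer ({a * a} : Set G))
    (hfacts : ∀ χ : Cfsg.IrrCharacter (Subgroup.centralizer ({a * a} : Set G)),
      (∀ r, Commute (⟨a, haC⟩ : Subgroup.centralizer ({a * a} : Set G)) r → Odd (orderOf r) →
        (χ : ↥(Subgroup.centralizer ({a * a} : Set G)) → ℂ) (⟨a, haC⟩ * r) = (χ : ↥(Subgroup.centralizer ({a * a} : Set G)) → ℂ) ⟨a, haC⟩) ∨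
      ∑ r ∈ Finset.univ.filter
          (fun r => Commute (⟨a, haC⟩ : Subgroup.centralizer ({a * a} : Set G)) r ∧ Odd (orderOf r)),
        (χ : ↥(Subgroup.centralizer ({a * a} : Set G)) → ℂ) (⟨a, haC⟩ * r) = 0) : False := by
  set z := a * a with hzdef
  set C := Subgroup.centralizer ({z} : Set G) with hCdef
  have hz2 : orderOf z = 2 := h.z_two
  have ha4 : orderOf a = 4 := by rw [h.order]; norm_num
  have hzeq : a ^ 2 ^ (2 - 1) = z := by rw [hzdef]; norm_num [pow_two]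
  have hPC : (P : Subgroup G) ≤ C := fun p hp => by
    rw [hCdef, Subgroup.mem_centralizer_singleton_iff]
    have h1 : orderOf (p * z * p⁻¹) = 2 := (orderOf_conj p z).trans hz2
    have h2 := h.eq_z (mul_mem (mul_mem hp (mul_mem h.mem h.mem)) (inv_mem hp)) h1
    rw [hzeq] at h2
    exact mul_inv_eq_iff_eq_mul.1 h2
  have h' : QData (P.subtype hPC) (⟨a, haC⟩ : C) 2 := by
    refine ⟨le_rfl, h.mem, by rw [Subgroup.orderOf_mk, h.order], ?_, fun x hx hxa => ?_⟩
    · rw [← h.card]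
      exact Nat.card_congr (Subgroup.subgroupOfEquivOfLe hPC).toEquiv
    · have := h.out (x : G) hx fun h' => hxa (by
        obtain ⟨i, hi⟩ := Subgroup.mem_zpowers_iff.1 h'
        exact Subgroup.mem_zpowers_iff.2 ⟨i, Subtype.ext (by simpa using hi)⟩)
      exact ⟨Subtype.ext (by simpa using this.1), Subtype.ext (by simpa using this.2)⟩
  have hzC : z ∈ C := Subgroup.mem_centralizer_singleton_iff.2 rfl
  have hz' : (⟨a, haC⟩ : C) * ⟨a, haC⟩ ∈ Subgroup.center C :=
    Subgroup.mem_center_iff.2 fun x => Subtype.ext (Subgroup.mem_centralizer_singleton_iff.1 x.2)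
  have hconj : ∀ y ∈ P.subtype hPC, orderOf y = 4 → IsConj (⟨a, haC⟩ : C) y := by
    intro y hy hy4
    obtain ⟨c, hc, hcy⟩ := q8_fusion h hnc (y := (y : G)) hy (by rw [Subgroup.orderOf_coe]; exact hy4)
    exact isConj_iff.2 ⟨⟨c, Subgroup.mem_centralizer_singleton_iff.2 hc.eq⟩, Subtype.ext hcy⟩
  have hconjG : ∀ y ∈ P, orderOf y = 4 → IsConj a y := fun y hy hy4 => by
    obtain ⟨c, -, hcy⟩ := q8_fusion h hnc hy hy4
    exact isConj_iff.2 ⟨c, hcy⟩
  obtain ⟨g, hgen, hgg, hg1, hg0, hg4, hgz, hcard⟩ := q8_local h' hz' hconj hfacts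
  have hzuniq : ∀ v ∈ C, orderOf v = 2 → v = z := by
    intro v hv hv2
    obtain ⟨d, hd⟩ := exists_sylow_conj_mem (P.subtype hPC) (t := (⟨v, hv⟩ : C))
      (by rw [Subgroup.orderOf_mk, hv2])
    have h1 := h'.eq_z hd ((orderOf_conj _ _).trans (by rw [Subgroup.orderOf_mk, hv2]))
    have h2 := congrArg Subtype.val h1
    simp only [SubmonoidClass.coe_pow, Subgroup.coe_mul, Subgroup.coe_inv, hzeq] at h2
    have hd' := Subgroup.mem_centralizer_singleton_iff.1 d.2
    calc v = (d : G)⁻¹ * ((d : G) * v * (d : G)⁻¹) * d := by group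
      _ = (d : G)⁻¹ * ((d : G) * z) := by rw [h2, mul_assoc, hd']
      _ = z := by rw [inv_mul_cancel_left]
  -- trivial intersection of even elements
  have hTI : ∀ (y : G) (x : C), ¬ Odd (orderOf x) → y⁻¹ * (x : G) * y ∈ C → y ∈ C := by
    intro y x hx hy
    rw [Nat.not_odd_iff_even, ← Subgroup.orderOf_coe] at hx
    obtain ⟨m, hm⟩ := hx
    have hm0 : m ≠ 0 := by
      intro e; subst e
      have := orderOf_pos (x : G)
      omega
    have ho : orderOf ((x : G) ^ m) = 2 := by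
      rw [orderOf_pow_of_dvd hm0 ⟨2, by omega⟩, hm, show m + m = 2 * m by ring,
        Nat.mul_div_cancel _ (Nat.pos_of_ne_zero hm0)]
    have h1 := hzuniq _ (pow_mem x.2 m) ho
    have he : (y⁻¹ * (x : G) * y) ^ m = y⁻¹ * z * y := by
      rw [← h1]
      have := conj_pow (a := y⁻¹) (b := (x : G)) (i := m)
      simpa using this
    have h2 : y⁻¹ * z * y = z := by
      refine hzuniq _ (he ▸ pow_mem hy m) ?_
      rw [show y⁻¹ * z * y = y⁻¹ * z * y⁻¹⁻¹ by rw [inv_inv], orderOf_conj, hz2]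
    rw [hCdef, Subgroup.mem_centralizer_singleton_iff]
    calc y * z = y * (y⁻¹ * z * y) := by rw [h2]
      _ = z * y := by group
  set F : Fin 3 → G → ℂ := fun i => Cfsg.indFun C (g i) with hF
  have hFval : ∀ i (x : C), ¬ Odd (orderOf x) → F i (x : G) = g i x := by
    intro i x hx
    have hcl := Char.IsGen.isClassFunction (hgen i)
    simp only [hF, Char.indFun_apply]
    rw [← Finset.sum_subset (Finset.subset_univ (Finset.univ.filter fun y : G => y ∈ C))
      fun y _ hy => Char.extendByZero_of_not_mem C _ fun hmem =>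
        hy (Finset.mem_filter.2 ⟨Finset.mem_univ y, hTI y x hx hmem⟩)]
    rw [Finset.sum_congr rfl (g := fun _ => g i x) fun y hy => ?_, Finset.sum_const,
      nsmul_eq_mul, show (Finset.univ.filter fun y : G => y ∈ C).card = Nat.card C by
        rw [Nat.card_eq_fintype_card, Fintype.card_subtype],
      inv_mul_cancel_left₀ (Nat.cast_ne_zero.2 Nat.card_pos.ne')]
    have hyC := (Finset.mem_filter.1 hy).2
    rw [Char.extendByZero_of_mem C _ (mul_mem (mul_mem (inv_mem hyC) x.2) hyC)]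
    have := hcl x (⟨y, hyC⟩ : C)⁻¹
    rw [inv_inv] at this
    exact this
  have hFodd : ∀ i x, Odd (orderOf x) → F i x = 0 := by
    intro i x hx
    simp only [hF, Char.indFun_apply]
    refine mul_eq_zero_of_right _ (Finset.sum_eq_zero fun y _ => ?_)
    by_cases hy : y⁻¹ * x * y ∈ C
    · rw [Char.extendByZero_of_mem C _ hy]
      refine hg0 i _ ?_
      rw [Subgroup.orderOf_mk, show y⁻¹ * x * y = y⁻¹ * x * y⁻¹⁻¹ by rw [inv_inv], orderOf_conj]
      exact hx
    · exact Char.extendByZero_of_not_mem C _ hy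
  have hFg : ∀ i, Cfsg.IsGeneralizedCharacter G (F i) := fun i =>
    Char.isGeneralized_indFun C (hgen i)
  have hF1 : ∀ i, Cfsg.classInner (F i) (fun _ => (1 : ℂ)) = 1 := fun i => by
    simp only [hF]
    rw [Char.classInner_indFun_left C _ (fun _ _ => rfl)]
    exact hg1 i
  have hFF : ∀ i j, Cfsg.classInner (F i) (F j) = if i = j then 3 else 1 := fun i j => by
    rw [← hgg i j]
    show Cfsg.classInner (Cfsg.indFun C (g i)) (F j) = _
    rw [Char.classInner_indFun_left C _ (Char.IsGen.isClassFunction (hFg j))]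
    simp only [Cfsg.classInner]
    congr 1
    refine Finset.sum_congr rfl fun x _ => ?_
    by_cases hx : Odd (orderOf x)
    · rw [hg0 i x hx, zero_mul, zero_mul]
    · rw [hFval j x hx]
  -- the section function on `G`
  have hsd := h.exists_sectionData
  rw [show a ^ 2 ^ (2 - 2) = a by simp] at hsd
  obtain ⟨μ, N, hd, hμ1, -, hμ2, hμ, -, -⟩ := hsd
  replace hμ2 := hμ2 rfl
  obtain ⟨θ, hθdef⟩ : ∃ θ, θ = secInd (Subgroup.centralizer ({a} : Set G)) μ := ⟨_, rfl⟩
  have hθg : Cfsg.IsGeneralizedCharacter G θ := hθdef ▸ isGeneralized_secInd _ μ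
  have hθv : ∀ x, θ x = if 4 ∣ orderOf x then 4 else 0 := fun x =>
    hθdef ▸ q8_secInd_eq h hconjG hd hμ2 hμ x
  have hθ1 : Cfsg.classInner θ (fun _ => (1 : ℂ)) = 1 := hθdef ▸ classInner_secInd_one hμ1
  have hθn : Cfsg.classInner θ θ = 4 := hθdef ▸ (hd.classInner_self hμ1).2 hμ2
  have hFθ : ∀ i, Cfsg.classInner (F i) θ = 2 := by
    intro i
    show Cfsg.classInner (Cfsg.indFun C (g i)) θ = _
    rw [Char.classInner_indFun_left C _ (Char.IsGen.isClassFunction hθg), Cfsg.classInner,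
      Finset.sum_congr rfl (g := fun x : C => 2 * (if 4 ∣ orderOf x then (4 : ℂ) else 0))
        fun x _ => ?_, ← Finset.mul_sum, hcard]
    · have h0 : (Nat.card C : ℂ) ≠ 0 := Char.card_ne_zero
      field_simp
    · rw [hθv, Subgroup.orderOf_coe]
      split_ifs with hx
      · rw [hg4 i x hx, show conj (4 : ℂ) = 4 from map_ofNat _ 4]
      · simp
  -- decompositions
  obtain ⟨T, σ, hT, hσ, hTout, hTin, hθexp⟩ := exists_signed_support hθg (n := 4) le_rfl hθ1
    (by simpa using hθn)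
  have hex : ∀ i, ∃ (p q : Cfsg.IrrCharacter G) (sp sq : ℂ),
      ((p : G → ℂ) ≠ fun _ => 1) ∧ ((q : G → ℂ) ≠ fun _ => 1) ∧ (sp = 1 ∨ sp = -1) ∧ (sq = 1 ∨ sq = -1) ∧
      p ∈ T ∧ σ p = sp ∧ q ∉ T ∧ Cfsg.classInner (F i) (p : G → ℂ) = sp ∧
      Cfsg.classInner (F i) (q : G → ℂ) = sq ∧
      (∀ f : Cfsg.IrrCharacter G → ℂ, ∑ χ : Cfsg.IrrCharacter G,
        Cfsg.classInner (F i) (χ : G → ℂ) * f χ =
          f ⟨fun _ => 1, Char.isIrrCharacter_one⟩ + (sp * f p + sq * f q)) := by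
    intro i
    obtain ⟨S, s, hS, hsS, -, hsin, hexp⟩ := exists_signed_support (hFg i) (n := 3) (by norm_num)
      (hF1 i) (by simpa using hFF i i)
    obtain ⟨p, q, hpq, rfl⟩ := Finset.card_eq_two.1 (show S.card = 2 by omega)
    obtain ⟨hp1, hsp⟩ := hsS p (Finset.mem_insert_self _ _)
    obtain ⟨hq1, hsq⟩ := hsS q (Finset.mem_insert_of_mem (Finset.mem_singleton_self _))
    have hm : ∀ χ : Cfsg.IrrCharacter G, (χ : G → ℂ) ≠ (fun _ => 1) →
        (χ ∈ T ∧ Cfsg.classInner (χ : G → ℂ) θ = σ χ ∧ (σ χ = 1 ∨ σ χ = -1)) ∨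
          (χ ∉ T ∧ Cfsg.classInner (χ : G → ℂ) θ = 0) := by
      intro χ hχ
      rw [← Char.classInner_conj_symm]
      by_cases hχT : χ ∈ T
      · refine Or.inl ⟨hχT, ?_, (hσ χ hχT).2⟩
        rw [hTin χ hχT]
        rcases (hσ χ hχT).2 with e | e <;> rw [e] <;> simp
      · exact Or.inr ⟨hχT, by rw [hTout χ hχ hχT, map_zero]⟩
    have h2 := hFθ i
    rw [Char.classInner_eq_sum (Char.IsGen.isClassFunction (hFg i)),
      hexp fun χ => Cfsg.classInner (χ : G → ℂ) θ, Finset.sum_pair hpq] at h2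
    have h0 : Cfsg.classInner (fun _ : G => (1 : ℂ)) θ = 1 := by
      rw [← Char.classInner_conj_symm, hθ1, map_one]
    rw [h0] at h2
    rcases hm p hp1 with ⟨hpT, ep, hσp⟩ | ⟨hpT, ep⟩ <;> rcases hm q hq1 with ⟨hqT, eq', hσq⟩ | ⟨hqT, eq'⟩ <;>
      rw [ep, eq'] at h2
    · exfalso
      rcases hsp with a1 | a1 <;> rcases hsq with a2 | a2 <;> rcases hσp with a3 | a3 <;>
        rcases hσq with a4 | a4 <;> rw [a1, a2, a3, a4] at h2 <;> norm_num at h2
    · refine ⟨p, q, s p, s q, hp1, hq1, hsp, hsq, hpT, ?_, hqT, hsin p (Finset.mem_insert_self _ _),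
        hsin q (Finset.mem_insert_of_mem (Finset.mem_singleton_self _)),
        fun f => by rw [hexp f, Finset.sum_pair hpq]⟩
      rcases hsp with a1 | a1 <;> rcases hσp with a3 | a3 <;> rw [a1, a3] at h2 ⊢ <;> norm_num at h2
    · refine ⟨q, p, s q, s p, hq1, hp1, hsq, hsp, hqT, ?_, hpT,
        hsin q (Finset.mem_insert_of_mem (Finset.mem_singleton_self _)),
        hsin p (Finset.mem_insert_self _ _),
        fun f => by rw [hexp f, Finset.sum_pair hpq]; ring⟩
      rcases hsq with a1 | a1 <;> rcases hσq with a3 | a3 <;> rw [a1, a3] at h2 ⊢ <;> norm_num at h2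
    · exfalso
      norm_num at h2
  choose A X sA sX hA1 hX1 hsA hsX hAT hσA hXT hFA hFX hexp using hex
  have hval : ∀ i x, F i x = 1 + (sA i * (A i : G → ℂ) x + sX i * (X i : G → ℂ) x) := fun i x => by
    rw [← apply_eq_sum (Char.IsGen.isClassFunction (hFg i)) x, hexp i fun χ => (χ : G → ℂ) x]
  have hdeg : ∀ i, 1 + (sA i * (A i : G → ℂ) 1 + sX i * (X i : G → ℂ) 1) = 0 := fun i => by
    rw [← hval, hFodd i 1 (by simp)]
  -- distinctness
  have hsq1 : ∀ i, sA i * sA i = 1 ∧ sX i * sX i = 1 := fun i => by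
    refine ⟨?_, ?_⟩
    · rcases hsA i with e | e <;> rw [e] <;> norm_num
    · rcases hsX i with e | e <;> rw [e] <;> norm_num
  have hconjs : ∀ i, conj (sA i) = sA i ∧ conj (sX i) = sX i := fun i => by
    refine ⟨?_, ?_⟩
    · rcases hsA i with e | e <;> rw [e] <;> simp
    · rcases hsX i with e | e <;> rw [e] <;> simp
  have hAX : ∀ i j, A i ≠ X j := fun i j e => hXT j (e ▸ hAT i)
  have hij : ∀ i j, i ≠ j → A i ≠ A j ∧ X i ≠ X j := by
    intro i j hne
    have h1 := hFF i j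
    rw [if_neg hne, Char.classInner_eq_sum (Char.IsGen.isClassFunction (hFg i)),
      hexp i fun χ => Cfsg.classInner (χ : G → ℂ) (F j)] at h1
    have hsym : ∀ χ : Cfsg.IrrCharacter G, Cfsg.classInner (χ : G → ℂ) (F j) =
        (if χ = A j then sA j else 0) + (if χ = X j then sX j else 0) +
          (if χ = ⟨fun _ => 1, Char.isIrrCharacter_one⟩ then 1 else 0) := by
      intro χ
      rw [← Char.classInner_conj_symm]
      by_cases e1 : χ = A j
      · rw [if_pos e1, e1, if_neg (hAX j j), if_neg fun e => hA1 j (congrArg Subtype.val e), hFA,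
          (hconjs j).1, add_zero, add_zero]
      rw [if_neg e1]
      by_cases e2 : χ = X j
      · rw [if_pos e2, e2, if_neg fun e => hX1 j (congrArg Subtype.val e), hFX, (hconjs j).2,
          zero_add, add_zero]
      rw [if_neg e2]
      by_cases e3 : χ = ⟨fun _ => 1, Char.isIrrCharacter_one⟩
      · rw [if_pos e3, e3, hF1, map_one, zero_add, zero_add]
      rw [if_neg e3, zero_add, zero_add]
      have hh := hexp j fun ψ => if ψ = χ then (1 : ℂ) else 0
      simp only [mul_ite, mul_one, mul_zero, Finset.sum_ite_eq', Finset.mem_univ, if_true] at hh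
      rw [hh, if_neg (fun e => e3 e.symm), if_neg (fun e => e1 e.symm),
        if_neg (fun e => e2 e.symm)]
      simp
    have o1 : ∀ k, (⟨fun _ => 1, Char.isIrrCharacter_one⟩ : Cfsg.IrrCharacter G) ≠ A k :=
      fun k e => hA1 k (congrArg Subtype.val e.symm)
    have o2 : ∀ k, (⟨fun _ => 1, Char.isIrrCharacter_one⟩ : Cfsg.IrrCharacter G) ≠ X k :=
      fun k e => hX1 k (congrArg Subtype.val e.symm)
    have o0 : Cfsg.classInner (fun _ : G => (1 : ℂ)) (F j) = 1 := by
      rw [← Char.classInner_conj_symm, hF1, map_one]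
    simp only [hsym, o0, hAX i j, (hAX j i).symm, o1 j, o2 j, (o1 i).symm, (o2 i).symm, if_false,
      if_true, zero_add, add_zero] at h1
    have hAeq : A i ≠ A j := by
      intro e
      rw [if_pos e] at h1
      have hs : sA i = sA j := by rw [← hσA i, ← hσA j, e]
      rw [← hs] at h1
      by_cases eX : X i = X j
      · rw [if_pos eX] at h1
        have hdi := hdeg i
        have hdj := hdeg j
        rw [← e, ← eX, ← hs] at hdj
        have hX : sX i * sX j = -1 := by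
          linear_combination h1 - (hsq1 i).1
        have h3 : (sX i - sX j) * (X i : G → ℂ) 1 = 0 := by linear_combination hdi - hdj
        have h4 := sub_eq_zero.1
          ((mul_eq_zero.1 h3).resolve_right (Char.IsIrr.one_ne_zero (X i).2))
        rw [← h4, (hsq1 i).2] at hX
        norm_num at hX
      · rw [if_neg eX] at h1
        have := (hsq1 i).1
        exact one_ne_zero (α := ℂ) (by linear_combination h1 - this)
    refine ⟨hAeq, fun eX => ?_⟩
    rw [if_neg hAeq, if_pos eX] at h1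
    have h5 : sX i * sX j = 0 := by linear_combination h1
    rcases hsX i with e | e <;> rcases hsX j with e' | e' <;> rw [e, e'] at h5 <;> norm_num at h5
  have hTA : T = {A 0, A 1, A 2} := by
    refine (Finset.eq_of_subset_of_card_le ?_ ?_).symm
    · simp only [Finset.insert_subset_iff, Finset.singleton_subset_iff]
      exact ⟨hAT 0, hAT 1, hAT 2⟩
    · rw [Finset.card_eq_three.2 ⟨_, _, _, (hij 0 1 (by decide)).1, (hij 0 2 (by decide)).1,
        (hij 1 2 (by decide)).1, rfl⟩]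
      omega
  have hθsum : ∀ f : Cfsg.IrrCharacter G → ℂ, ∑ χ : Cfsg.IrrCharacter G,
      Cfsg.classInner θ (χ : G → ℂ) * f χ =
      f ⟨fun _ => 1, Char.isIrrCharacter_one⟩ + (sA 0 * f (A 0) + (sA 1 * f (A 1) + sA 2 * f (A 2))) := by
    intro f
    rw [hθexp f, hTA, Finset.sum_insert, Finset.sum_pair (hij 1 2 (by decide)).1, hσA, hσA, hσA]
    simp [(hij 0 1 (by decide)).1, (hij 0 2 (by decide)).1]
  -- equations
  have hθodd : ∀ x, Odd (orderOf x) → θ x = 0 := fun x hx => by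
    rw [hθv, if_neg fun h4 => hx.not_two_dvd_nat (dvd_trans (by norm_num) h4)]
  have hzi : Cfsg.IsIsolatedInvolution z := hzeq ▸ h.isolated
  have hzz : ∀ i, F i z = g i ⟨z, hzC⟩ := fun i => hFval i ⟨z, hzC⟩ (by
    rw [Subgroup.orderOf_mk, hz2]; decide)
  have hθz : θ z = 0 := by rw [hθv, if_neg (by rw [hz2]; norm_num)]
  have q1 := apply_eq_sum (Char.IsGen.isClassFunction hθg) (1 : G)
  rw [hθsum fun χ => (χ : G → ℂ) 1, hθodd 1 (by simp)] at q1
  have q2 := apply_eq_sum (Char.IsGen.isClassFunction hθg) z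
  rw [hθsum fun χ => (χ : G → ℂ) z, hθz] at q2
  have q3 := sum_mult_sq_eq_zero (Char.IsGen.isClassFunction hθg) hθodd hzi
  rw [hθsum] at q3
  have r2 : (1 + (sA 0 * (A 0 : G → ℂ) z + sX 0 * (X 0 : G → ℂ) z)) +
      (1 + (sA 1 * (A 1 : G → ℂ) z + sX 1 * (X 1 : G → ℂ) z)) +
      (1 + (sA 2 * (A 2 : G → ℂ) z + sX 2 * (X 2 : G → ℂ) z)) = 4 := by
    rw [← hval, ← hval, ← hval, hzz, hzz, hzz]
    rw [Fin.sum_univ_three] at hgz
    exact hgz
  have r3 : ∀ i, 1 + (sA i * ((A i : G → ℂ) z ^ 2 / (A i : G → ℂ) 1) +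
      sX i * ((X i : G → ℂ) z ^ 2 / (X i : G → ℂ) 1)) = 0 := fun i => by
    have := sum_mult_sq_eq_zero (Char.IsGen.isClassFunction (hFg i)) (hFodd i) hzi
    rw [hexp i fun χ => (χ : G → ℂ) z ^ 2 / (χ : G → ℂ) 1] at this
    simpa using this
  -- real data
  have hreal : ∀ (χ : Cfsg.IrrCharacter G) (s : ℂ), (s = 1 ∨ s = -1) →
      ((χ : G → ℂ) ≠ fun _ => 1) → ∃ D E : ℝ, (D : ℂ) = s * (χ : G → ℂ) 1 ∧
        (E : ℂ) = s * (χ : G → ℂ) z ∧ (1 ≤ D ∨ D ≤ -1) ∧
        ((E ^ 2 / D : ℝ) : ℂ) = s * ((χ : G → ℂ) z ^ 2 / (χ : G → ℂ) 1) ∧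
        E / D ≠ 1 ∧ E / D ≠ -1 := by
    intro χ s hs hne
    obtain ⟨d, hd0, hd⟩ := Char.IsIrr.degree χ.2
    have hzr : conj ((χ : G → ℂ) z) = (χ : G → ℂ) z := by
      rw [← Char.IsChar.inv_eq_conj (Char.IsIrr.isCharacter χ.2), inv_eq_self hz2]
    obtain ⟨e, he⟩ := Complex.conj_eq_iff_real.1 hzr
    obtain ⟨t, ht, htt⟩ : ∃ t : ℝ, s = (t : ℂ) ∧ (t = 1 ∨ t = -1) := by
      rcases hs with rfl | rfl
      exacts [⟨1, by simp, Or.inl rfl⟩, ⟨-1, by simp, Or.inr rfl⟩]
    obtain ⟨hlt1, hlt2⟩ := q8_abs_lt h hns χ hne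
    rw [← hzdef, he, hd] at hlt1 hlt2
    have hd1 : (1 : ℝ) ≤ d := by exact_mod_cast hd0
    have ht0 : t ≠ 0 := by rcases htt with rfl | rfl <;> norm_num
    refine ⟨t * d, t * e, by rw [ht, hd]; push_cast; rfl, by rw [ht, he]; push_cast; rfl, ?_, ?_, ?_, ?_⟩
    · rcases htt with rfl | rfl
      · left; linarith
      · right; linarith
    · rw [ht, he, hd]
      push_cast
      have : (t : ℂ) ≠ 0 := by exact_mod_cast ht0
      field_simp
    · rw [mul_div_mul_left _ _ ht0, Ne, div_eq_one_iff_eq (by linarith)]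
      intro e'
      exact hlt1 (by rw [e']; simp)
    · rw [mul_div_mul_left _ _ ht0, Ne, div_eq_iff (by linarith)]
      intro e'
      exact hlt2 (by rw [e']; simp)
  choose DA EA hDA hEA hDA1 hQA hA_ne1 hA_ne2 using fun i => hreal (A i) (sA i) (hsA i) (hA1 i)
  choose DX EX hDX hEX hDX1 hQX hX_ne1 hX_ne2 using fun i => hreal (X i) (sX i) (hsX i) (hX1 i)
  simp only [one_pow, div_one] at q3
  rw [← hDA, ← hDA, ← hDA] at q1
  rw [← hEA, ← hEA, ← hEA] at q2
  rw [← hQA, ← hQA, ← hQA] at q3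
  have e1 : (1 : ℝ) + DA 0 + DA 1 + DA 2 = 0 := by
    have : (((1 : ℝ) + DA 0 + DA 1 + DA 2 : ℝ) : ℂ) = 0 := by push_cast; linear_combination q1
    exact_mod_cast this
  have e2 : (1 : ℝ) + EA 0 + EA 1 + EA 2 = 0 := by
    have : (((1 : ℝ) + EA 0 + EA 1 + EA 2 : ℝ) : ℂ) = 0 := by push_cast; linear_combination q2
    exact_mod_cast this
  have e3 : (1 : ℝ) + EA 0 ^ 2 / DA 0 + EA 1 ^ 2 / DA 1 + EA 2 ^ 2 / DA 2 = 0 := by
    have : (((1 : ℝ) + EA 0 ^ 2 / DA 0 + EA 1 ^ 2 / DA 1 + EA 2 ^ 2 / DA 2 : ℝ) : ℂ) = 0 := by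
      push_cast at q3 ⊢; linear_combination q3
    exact_mod_cast this
  have p1 : ∀ i, 1 + DA i + DX i = 0 := fun i => by
    have hh := hdeg i
    rw [← hDA, ← hDX] at hh
    have : (((1 : ℝ) + DA i + DX i : ℝ) : ℂ) = 0 := by push_cast; linear_combination hh
    exact_mod_cast this
  have p2 : EA 0 + EA 1 + EA 2 + EX 0 + EX 1 + EX 2 = 1 := by
    rw [← hEA, ← hEA, ← hEA, ← hEX, ← hEX, ← hEX] at r2
    have : ((EA 0 + EA 1 + EA 2 + EX 0 + EX 1 + EX 2 : ℝ) : ℂ) = ((1 : ℝ) : ℂ) := by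
      push_cast; linear_combination r2
    exact_mod_cast this
  have p3 : ∀ i, 1 + EA i ^ 2 / DA i + EX i ^ 2 / DX i = 0 := fun i => by
    have hh := r3 i
    rw [← hQA, ← hQX] at hh
    have : (((1 : ℝ) + EA i ^ 2 / DA i + EX i ^ 2 / DX i : ℝ) : ℂ) = 0 := by
      push_cast at hh ⊢; linear_combination hh
    exact_mod_cast this
  have hne : ∀ {D : ℝ}, (1 ≤ D ∨ D ≤ -1) → D ≠ 0 := by intro D hD e; subst e; rcases hD with h | h <;> linarith
  by_cases hcase : (0 < DA 1 ∧ 0 < DA 2) ∨ (0 < DA 0 ∧ 0 < DA 2) ∨ (0 < DA 0 ∧ 0 < DA 1)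
  · rcases three_signed' (c := 1) (c0 := 1) one_pos (hne (hDA1 0)) (hne (hDA1 1)) (hne (hDA1 2))
      hcase e1 e2 (by rw [one_pow, div_one]; exact e3) with e | e | e <;> rw [div_one] at e
    exacts [hA_ne1 _ e, hA_ne1 _ e, hA_ne1 _ e]
  · have hXpos : (0 < DX 1 ∧ 0 < DX 2) ∨ (0 < DX 0 ∧ 0 < DX 2) ∨ (0 < DX 0 ∧ 0 < DX 1) := by
      have hpos : ∀ i, DA i ≤ -1 → 0 < DX i := fun i hi => by
        have h1 := p1 i
        rcases hDX1 i with h' | h'
        · linarith
        · linarith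
      rcases hDA1 0 with a0 | a0 <;> rcases hDA1 1 with a1 | a1 <;> rcases hDA1 2 with a2 | a2
      · exact absurd (Or.inl ⟨by linarith, by linarith⟩) hcase
      · exact absurd (Or.inr (Or.inr ⟨by linarith, by linarith⟩)) hcase
      · exact absurd (Or.inr (Or.inl ⟨by linarith, by linarith⟩)) hcase
      · exact Or.inl ⟨hpos 1 a1, hpos 2 a2⟩
      · exact absurd (Or.inl ⟨by linarith, by linarith⟩) hcase
      · exact Or.inr (Or.inl ⟨hpos 0 a0, hpos 2 a2⟩)
      · exact Or.inr (Or.inr ⟨hpos 0 a0, hpos 1 a1⟩)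
      · exact Or.inl ⟨hpos 1 a1, hpos 2 a2⟩
    rcases three_signed' (c := 2) (c0 := -2) (E1 := EX 0) (E2 := EX 1) (E3 := EX 2) two_pos (hne (hDX1 0)) (hne (hDX1 1)) (hne (hDX1 2))
      hXpos (by linarith [p1 0, p1 1, p1 2]) (by linarith) (by
        have := p3 0; have := p3 1; have := p3 2
        norm_num
        linarith) with e | e | e <;> norm_num at e
    exacts [hX_ne2 _ e, hX_ne2 _ e, hX_ne2 _ e]

end Cfsg.Agent.Invol
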