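import Cfsg.Agent.Invol.BSBig
import Cfsg.Agent.Fusion.Control

/-!
Fusion of elements of order four for a quaternion Sylow 2-subgroup of order 8 in a group without
normal 2-complement, and the section function attached to such an element.
-/

set_option autoImplicit false

namespace Cfsg.Agent.Invol

open Cfsg.Agent

universe u

variable {G : Type u} [Group G]

variable {P : Sylow 2 G} {a : G}

theorem q8_a4 [Finite G] (h : QData P a 2) : a * a * (a * a) = 1 := by
  rw [← pow_two a, ← pow_add, show (2 + 2 : ℕ) = 2 ^ 2 by rfl, ← h.order, pow_orderOf_eq_one]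

theorem q8_inv [Finite G] (h : QData P a 2) : a⁻¹ = a * a * a :=
  inv_eq_of_mul_eq_one_right (by rw [← q8_a4 h]; simp only [mul_assoc])

theorem q8_sq [Finite G] (h : QData P a 2) {x : G} (hx : x ∈ P) (h4 : orderOf x = 4) :
    x * x = a * a := by
  have hz : a ^ 2 ^ (2 - 1) = a * a := by norm_num [pow_two]
  have h2 : orderOf (x * x) = 2 := by
    rw [← pow_two, orderOf_pow' _ two_ne_zero, h4]; rfl
  rw [h.eq_z (mul_mem hx hx) h2, hz]

/-- elements of order four in a cyclic group generated by such an element -/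
theorem eq_or_inv_of_mem_zpowers_four {x y : G} (hy : y ∈ Subgroup.zpowers x) (hx4 : orderOf x = 4)
    (hy4 : orderOf y = 4) : y = x ∨ y = x⁻¹ := by
  obtain ⟨i, rfl⟩ := Subgroup.mem_zpowers_iff.1 hy
  rw [← zpow_mod_orderOf, hx4] at hy4 ⊢
  have h5 : i % ((4 : ℕ) : ℤ) = 0 ∨ i % ((4 : ℕ) : ℤ) = 1 ∨ i % ((4 : ℕ) : ℤ) = 2 ∨
      i % ((4 : ℕ) : ℤ) = 3 := by omega
  rcases h5 with e | e | e | e <;> rw [e] at hy4 ⊢
  · rw [zpow_zero, orderOf_one] at hy4; omega
  · exact Or.inl (zpow_one x)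
  · exfalso
    rw [show (2 : ℤ) = ((2 : ℕ) : ℤ) from rfl, zpow_natCast, orderOf_pow' _ two_ne_zero, hx4] at hy4
    norm_num at hy4
  · refine Or.inr (eq_inv_of_mul_eq_one_left ?_)
    rw [← zpow_add_one, ← orderOf_dvd_iff_zpow_eq_one, hx4]
    norm_num

/-- `P` normalises each of its cyclic subgroups of order four -/
theorem q8_conj [Finite G] (h : QData P a 2) {u p : G} (hu : u ∈ P) (hu4 : orderOf u = 4)
    (hp : p ∈ P) : p * u * p⁻¹ = u ∨ p * u * p⁻¹ = u⁻¹ := by
  have hi : ((Subgroup.zpowers u).subgroupOf (P : Subgroup G)).index = 2 := by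
    have h1 := ((Subgroup.zpowers u).subgroupOf (P : Subgroup G)).card_mul_index
    rw [Nat.card_congr (Subgroup.subgroupOfEquivOfLe (Subgroup.zpowers_le.2 hu)).toEquiv,
      Nat.card_zpowers, hu4, h.card] at h1
    omega
  have hn := Subgroup.normal_of_index_eq_two hi
  have h1 := hn.conj_mem ⟨u, hu⟩ (Subgroup.mem_subgroupOf.2 (Subgroup.mem_zpowers u)) ⟨p, hp⟩
  rw [Subgroup.mem_subgroupOf] at h1
  exact eq_or_inv_of_mem_zpowers_four (by simpa using h1) hu4 ((orderOf_conj p u).trans hu4)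

/-- every element of order four of `P` is inverted by an element of `P` -/
theorem q8_inverted [Finite G] (h : QData P a 2) {x : G} (hx : x ∈ P) (h4 : orderOf x = 4) :
    ∃ p ∈ P, p * x * p⁻¹ = x⁻¹ := by
  by_cases hxa : x ∈ Subgroup.zpowers a
  · obtain ⟨w, hw, hwa⟩ := h.exists_out
    obtain ⟨i, rfl⟩ := Subgroup.mem_zpowers_iff.1 hxa
    exact ⟨w, hw, by rw [← conj_zpow, (h.out w hw hwa).1, inv_zpow]⟩
  · refine ⟨a, h.mem, (q8_conj h hx h4 h.mem).resolve_left fun e => ?_⟩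
    -- otherwise `x` commutes with `a`, but it inverts it
    have h1 := (h.out x hx hxa).1
    rw [mul_inv_eq_iff_eq_mul] at e
    rw [← e, mul_inv_cancel_right] at h1
    have : orderOf a ∣ 2 := orderOf_dvd_of_pow_eq_one (by
      rw [pow_two]
      nth_rewrite 1 [h1]
      exact inv_mul_cancel a)
    rw [h.order] at this
    norm_num at this

/-- the three classes `{x, x⁻¹}` -/
theorem q8_trichotomy [Finite G] (h : QData P a 2) {w : G} (hw : w ∈ P)
    (hwa : w ∉ Subgroup.zpowers a) {x : G} (hx : x ∈ P) (h4 : orderOf x = 4) :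
    (x = a ∨ x = a⁻¹) ∨ (x = w ∨ x = w⁻¹) ∨ (x = a * w ∨ x = (a * w)⁻¹) := by
  have ha4 : orderOf a = 4 := by rw [h.order]; norm_num
  have hzP : ∀ u ∈ P, u ∉ Subgroup.zpowers a → u * u = a * a := fun u hu hua => by
    rw [(h.out u hu hua).2]; norm_num [pow_two]
  have ord4 : ∀ u ∈ P, u ∉ Subgroup.zpowers a → orderOf u = 4 := fun u hu hua => by
    have hz : orderOf (a * a) = 2 := by rw [← pow_two, orderOf_pow' _ two_ne_zero, ha4]; rfl
    have h2 : orderOf (u ^ 2) = 2 := by rw [pow_two, hzP u hu hua, hz]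
    have h4' : u ^ 4 = 1 := by
      rw [show (4 : ℕ) = 2 * 2 by rfl, pow_mul, ← pow_orderOf_eq_one (u ^ 2), h2]
    rcases orderOf_dvd_four_cases h4' rfl with e | e | e
    · rw [orderOf_eq_one_iff] at e; subst e; simp at h2
    · rw [← e, pow_orderOf_eq_one, orderOf_one] at h2; omega
    · exact e
  by_cases hxa : x ∈ Subgroup.zpowers a
  · exact Or.inl (eq_or_inv_of_mem_zpowers_four hxa ha4 h4)
  · right
    by_cases hxw : x ∈ Subgroup.zpowers w
    · exact Or.inl (eq_or_inv_of_mem_zpowers_four hxw (ord4 w hw hwa) h4)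
    right
    -- `⟨a⟩`, `⟨w⟩` have index two, so `x * w` lies in `⟨a⟩`
    have hidx : ∀ u ∈ P, orderOf u = 4 → ∀ r ∈ P, ∀ s ∈ P, r ∉ Subgroup.zpowers u →
        s ∉ Subgroup.zpowers u → r * s ∈ Subgroup.zpowers u := by
      intro u hu hu4 r hr s hs hru hsu
      have hi : ((Subgroup.zpowers u).subgroupOf (P : Subgroup G)).index = 2 := by
        have h1 := ((Subgroup.zpowers u).subgroupOf (P : Subgroup G)).card_mul_index
        rw [Nat.card_congr (Subgroup.subgroupOfEquivOfLe (Subgroup.zpowers_le.2 hu)).toEquiv,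
          Nat.card_zpowers, hu4, h.card] at h1
        omega
      have := (Subgroup.mul_mem_iff_of_index_two hi (a := ⟨r, hr⟩) (b := ⟨s, hs⟩))
      simp only [Subgroup.mem_subgroupOf, Subgroup.coe_mul] at this
      exact this.2 (iff_of_false hru hsu)
    have h1 := hidx a h.mem ha4 x hx (a * w) (mul_mem h.mem hw) hxa
      (fun e => hwa ((Subgroup.mul_mem_cancel_left _ (Subgroup.mem_zpowers a)).1 e))
    have haw : a * w ∉ Subgroup.zpowers w := fun e => by
      have : a ∈ Subgroup.zpowers w :=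
        (Subgroup.mul_mem_cancel_right _ (Subgroup.mem_zpowers w)).1 e
      exact hwa ((zpowers_eq_of_orderOf_four this (Subgroup.mem_zpowers w) ha4 (ord4 w hw hwa)) ▸
        Subgroup.mem_zpowers w)
    have h2 := hidx w hw (ord4 w hw hwa) x hx (a * w) (mul_mem h.mem hw) hxw haw
    set y := x * (a * w) with hy
    have hy2 : y = 1 ∨ y = a * a := by
      rcases orderOf_dvd_four_cases (g := y) (by
        obtain ⟨i, hi⟩ := Subgroup.mem_zpowers_iff.1 h1
        rw [← hi, ← zpow_natCast, ← zpow_mul, ← orderOf_dvd_iff_zpow_eq_one, ha4]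
        exact Dvd.intro_left i rfl) rfl with e | e | e
      · exact Or.inl (orderOf_eq_one_iff.1 e)
      · refine Or.inr (eq_of_mem_zpowers_of_orderOf_two e ?_ h1
          (mul_mem (Subgroup.mem_zpowers a) (Subgroup.mem_zpowers a)))
        rw [← pow_two, orderOf_pow' _ two_ne_zero, ha4]; rfl
      · exfalso
        refine hwa ?_
        rw [zpowers_eq_of_orderOf_four (Subgroup.mem_zpowers a) (show a ∈ Subgroup.zpowers a from
          Subgroup.mem_zpowers a) ha4 ha4]
        rw [← zpowers_eq_of_orderOf_four h1 (Subgroup.mem_zpowers a) e ha4,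
          zpowers_eq_of_orderOf_four h2 (Subgroup.mem_zpowers w) e (ord4 w hw hwa)]
        exact Subgroup.mem_zpowers w
    rcases hy2 with e | e
    · exact Or.inr (eq_inv_of_mul_eq_one_left e)
    · left
      have h5 := hzP (a * w) (mul_mem h.mem hw)
        (fun e => hwa ((Subgroup.mul_mem_cancel_left _ (Subgroup.mem_zpowers a)).1 e))
      exact mul_right_cancel (e.trans h5.symm)

/-- Without a normal 2-complement all elements of order four of `P` are conjugate to `a` by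
elements centralising the involution. -/
theorem q8_fusion [Finite G] (h : QData P a 2) (hnc : ¬ Cfsg.HasNormalPComplement 2 G)
    {y : G} (hy : y ∈ P) (h4 : orderOf y = 4) :
    ∃ c : G, Commute c (a * a) ∧ c * a * c⁻¹ = y := by
  classical
  have ha4 : orderOf a = 4 := by rw [h.order]; norm_num
  have hz : ∀ u ∈ P, orderOf u = 2 → u = a * a := fun u hu h2 => by
    rw [h.eq_z hu h2]; norm_num [pow_two]
  have hord : ∀ u ∈ P, orderOf u = 1 ∨ orderOf u = 2 ∨ orderOf u = 4 := by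
    intro u hu
    refine orderOf_dvd_four_cases ?_ rfl
    by_cases hua : u ∈ Subgroup.zpowers a
    · obtain ⟨i, rfl⟩ := Subgroup.mem_zpowers_iff.1 hua
      rw [← zpow_natCast, ← zpow_mul, ← orderOf_dvd_iff_zpow_eq_one, ha4]
      exact Dvd.intro_left i rfl
    · rw [show (4 : ℕ) = 2 * 2 by rfl, pow_mul, pow_two u, (h.out u hu hua).2, ← pow_mul,
        show (2 ^ (2 - 1) * 2 : ℕ) = 2 ^ 2 by rfl, ← h.order, pow_orderOf_eq_one]
  -- some non-trivial fusion
  obtain ⟨x, hxP, g, hgP, hx4, hne1, hne2⟩ : ∃ x ∈ P, ∃ g : G, g * x * g⁻¹ ∈ P ∧ orderOf x = 4 ∧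
      g * x * g⁻¹ ≠ x ∧ g * x * g⁻¹ ≠ x⁻¹ := by
    by_contra hall
    refine hnc (Fusion.hasNormalPComplement_of_conj_controls P fun x hx g hg => ?_)
    rcases hord x hx with e | e | e
    · rw [orderOf_eq_one_iff] at e
      exact ⟨1, one_mem _, by subst e; simp⟩
    · refine ⟨1, one_mem _, ?_⟩
      rw [hz _ hg ((orderOf_conj g x).trans e), hz x hx e]
      simp
    · by_cases h1 : g * x * g⁻¹ = x
      · exact ⟨1, one_mem _, by simp [h1]⟩
      · rw [show g * x * g⁻¹ = x⁻¹ by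
          by_contra h2; exact hall ⟨x, hx, g, hg, e, h1, h2⟩]
        exact q8_inverted h hx e
  have hy4' : orderOf (g * x * g⁻¹) = 4 := (orderOf_conj g x).trans hx4
  set y₁ := g * x * g⁻¹ with hy₁
  have hcomz : ∀ {c u v : G}, u ∈ P → orderOf u = 4 → v ∈ P → orderOf v = 4 → c * u * c⁻¹ = v →
      Commute c (a * a) := by
    intro c u v hu hu4 hv hv4 e
    have h1 : c * (u * u) * c⁻¹ = v * v := by rw [← e]; group
    rw [q8_sq h hu hu4, q8_sq h hv hv4] at h1
    exact mul_inv_eq_iff_eq_mul.1 h1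
  -- normalizer of `⟨y₁⟩` contains `P` and `g P g⁻¹`
  set M := Subgroup.normalizer ((Subgroup.zpowers y₁ : Subgroup G) : Set G) with hM
  have hnorm : ∀ c : G, (c * y₁ * c⁻¹ = y₁ ∨ c * y₁ * c⁻¹ = y₁⁻¹) → c ∈ M := by
    intro c hc
    have hmap : (Subgroup.zpowers y₁).map (MulAut.conj c).toMonoidHom = Subgroup.zpowers y₁ := by
      rw [MonoidHom.map_zpowers]
      show Subgroup.zpowers (c * y₁ * c⁻¹) = _
      rcases hc with e | e <;> rw [e]
      exact Subgroup.zpowers_inv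
    rw [hM, Subgroup.mem_normalizer_iff]
    intro u
    conv_rhs => rw [← hmap]
    exact (Subgroup.mem_map_iff_mem (MulAut.conj c).injective).symm
  have hP1 : (P : Subgroup G) ≤ M := fun p hp => hnorm p (q8_conj h hgP hy4' hp)
  have hP2 : ((g • P : Sylow 2 G) : Subgroup G) ≤ M := by
    rw [Sylow.coe_subgroup_smul]
    rintro _ ⟨p, hp, rfl⟩
    refine hnorm _ ?_
    show g * p * g⁻¹ * y₁ * (g * p * g⁻¹)⁻¹ = y₁ ∨ g * p * g⁻¹ * y₁ * (g * p * g⁻¹)⁻¹ = y₁⁻¹
    have he : g * p * g⁻¹ * y₁ * (g * p * g⁻¹)⁻¹ = g * (p * x * p⁻¹) * g⁻¹ := by rw [hy₁]; group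
    rw [he]
    rcases q8_conj h hxP hx4 hp with e | e <;> rw [e]
    · left; rfl
    · right; rw [hy₁]; group
  obtain ⟨m, hm⟩ := MulAction.exists_smul_eq M ((g • P).subtype hP2) (P.subtype hP1)
  rw [Sylow.smul_subtype] at hm
  have hmP := Sylow.subtype_injective hm
  set n := (m : G) * g with hn
  have hnP : ∀ u ∈ P, n * u * n⁻¹ ∈ P := by
    intro u hu
    conv => arg 1; rw [← hmP]
    show n * u * n⁻¹ ∈ ((m • (g • P) : Sylow 2 G) : Subgroup G)
    rw [Subgroup.smul_def, smul_smul, Sylow.coe_subgroup_smul]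
    exact ⟨u, hu, rfl⟩
  have hnx : n * x * n⁻¹ = y₁ ∨ n * x * n⁻¹ = y₁⁻¹ := by
    have he : n * x * n⁻¹ = (m : G) * y₁ * (m : G)⁻¹ := by rw [hn, hy₁]; group
    rw [he]
    exact eq_or_inv_of_mem_zpowers_four
      ((Subgroup.mem_normalizer_iff.1 m.2 y₁).1 (Subgroup.mem_zpowers y₁)) hy4'
      ((orderOf_conj _ _).trans hy4')
  -- an odd order power of `n` moves `{x, x⁻¹}`
  obtain ⟨kk, m₀, hm₀, hd⟩ := Nat.exists_eq_pow_mul_and_not_dvd (orderOf_pos n).ne' 2 (by decide)
  have hN : ∀ i : ℕ, ∀ u ∈ P, n ^ i * u * (n ^ i)⁻¹ ∈ P := by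
    intro i
    induction i with
    | zero => intro u hu; simpa
    | succ i ih =>
      intro u hu
      have h1 := hnP _ (ih u hu)
      rw [pow_succ']
      convert h1 using 1
      group
  set S : G → Set G := fun u => {u, u⁻¹} with hS
  have hSconj : ∀ (c u : G), (fun v => c * v * c⁻¹) '' S u = S (c * u * c⁻¹) := by
    intro c u
    simp only [hS, Set.image_pair]
    congr 2
    group
  have hSinj : ∀ (c u v : G), S (c * u * c⁻¹) = S (c * v * c⁻¹) → S u = S v := by
    intro c u v e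
    rw [← hSconj, ← hSconj] at e
    exact Set.image_injective.2 (fun p q hpq => conj_injective hpq) e
  have hSx : ∀ u v : G, S u = S v ↔ (v = u ∨ v = u⁻¹) := by
    intro u v
    constructor
    · intro e
      have : v ∈ S u := e ▸ (by simp [hS])
      simpa [hS] using this
    · rintro (rfl | rfl)
      · rfl
      · simp [hS, Set.pair_comm]
  have hn2P : n ^ m₀ ∈ P := by
    have hN1 : n ∈ Subgroup.normalizer ((P : Subgroup G) : Set G) := by
      rw [Subgroup.mem_normalizer_iff_map_conj_eq]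
      refine Subgroup.eq_of_le_of_card_ge ?_ (le_of_eq ?_)
      · rintro _ ⟨u, hu, rfl⟩
        exact hnP u hu
      · exact Nat.card_congr ((P : Subgroup G).equivMapOfInjective _
          (MulAut.conj n).injective).toEquiv
    have hwp : IsPGroup 2 (Subgroup.zpowers (n ^ m₀)) := by
      refine IsPGroup.of_card (n := kk) ?_
      rw [Nat.card_zpowers, orderOf_pow_of_dvd (by omega) ⟨2 ^ kk, by rw [hd]; ring⟩, hd,
        Nat.mul_div_cancel _ (by omega)]
    have hsup := hwp.to_sup_of_normal_right' P.2 (Subgroup.zpowers_le.2 (pow_mem hN1 m₀))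
    have heq := P.3 hsup le_sup_right
    show n ^ m₀ ∈ (P : Subgroup G)
    rw [← heq]
    exact Subgroup.mem_sup_left (Subgroup.mem_zpowers (n ^ m₀))
  set n' := n ^ (2 ^ kk) with hn'
  have hn'odd : Odd (orderOf n') := by
    rw [hn', orderOf_pow_of_dvd (by positivity) ⟨m₀, hd⟩, hd, Nat.mul_div_cancel_left _ (by positivity)]
    rw [Nat.odd_iff]; omega
  have hmove : S (n' * x * n'⁻¹) ≠ S x := by
    intro e
    -- `n` is a product of powers of `n ^ m₀` and `n'`
    have hcop : Nat.Coprime m₀ (2 ^ kk) :=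
      ((Nat.prime_two.coprime_iff_not_dvd).2 hm₀).symm.pow_right _
    have hbez := Nat.gcd_eq_gcd_ab m₀ (2 ^ kk)
    rw [hcop] at hbez
    have fix_mul : ∀ p q : G, S (p * x * p⁻¹) = S x → S (q * x * q⁻¹) = S x →
        S (p * q * x * (p * q)⁻¹) = S x := by
      intro p q hp hq
      rw [show p * q * x * (p * q)⁻¹ = p * (q * x * q⁻¹) * p⁻¹ by group, ← hSconj p, hq, hSconj, hp]
    have fix_inv : ∀ p : G, S (p * x * p⁻¹) = S x → S (p⁻¹ * x * p⁻¹⁻¹) = S x := by
      intro p hp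
      refine hSinj p _ _ ?_
      rw [show p * (p⁻¹ * x * p⁻¹⁻¹) * p⁻¹ = x by group, hp]
    have fix_zpow : ∀ p : G, S (p * x * p⁻¹) = S x → ∀ i : ℤ, S (p ^ i * x * (p ^ i)⁻¹) = S x := by
      intro p hp i
      induction i using Int.induction_on with
      | zero => simp
      | succ i ih => rw [zpow_add_one]; exact fix_mul _ _ ih hp
      | pred i ih => rw [zpow_sub_one]; exact fix_mul _ _ ih (fix_inv p hp)
    have h1 : S (n ^ m₀ * x * (n ^ m₀)⁻¹) = S x :=
      ((hSx _ _).2 (q8_conj h hxP hx4 hn2P)).symm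
    have h2 : S (n * x * n⁻¹) = S x := by
      have := fix_mul _ _ (fix_zpow _ h1 (Nat.gcdA m₀ (2 ^ kk))) (fix_zpow _ e (Nat.gcdB m₀ (2 ^ kk)))
      rw [hn', ← zpow_natCast n m₀, ← zpow_natCast n (2 ^ kk), ← zpow_mul, ← zpow_mul, ← zpow_add,
        ← hbez, Nat.cast_one, zpow_one] at this
      exact this
    have h3 : S x = S y₁ := by
      rw [← h2, eq_comm, hSx]
      rcases hnx with e' | e' <;> rw [e'] <;> simp
    rcases (hSx _ _).1 h3 with e' | e'
    · exact hne1 e'
    · exact hne2 e'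
  obtain ⟨r, hr⟩ := hn'odd
  have hn'P : ∀ u ∈ P, n' * u * n'⁻¹ ∈ P := hN _
  set x₁ := n' * x * n'⁻¹ with hx₁
  set x₂ := n' * x₁ * n'⁻¹ with hx₂
  have hx₁P : x₁ ∈ P := hn'P x hxP
  have hx₂P : x₂ ∈ P := hn'P _ hx₁P
  have hx₁4 : orderOf x₁ = 4 := (orderOf_conj n' x).trans hx4
  have hx₂4 : orderOf x₂ = 4 := (orderOf_conj n' x₁).trans hx₁4
  have h12 : S x₂ ≠ S x₁ := fun e => hmove (hSinj n' _ _ e)
  have h02 : S x₂ ≠ S x := by
    intro e
    -- then `n' ^ 2`, hence `n'`, fixes `S x`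
    apply hmove
    have hsq : ∀ i : ℕ, S ((n' * n') ^ i * x * ((n' * n') ^ i)⁻¹) = S x := by
      intro i
      induction i with
      | zero => simp
      | succ i ih =>
        rw [pow_succ', show n' * n' * (n' * n') ^ i * x * (n' * n' * (n' * n') ^ i)⁻¹ =
          n' * n' * ((n' * n') ^ i * x * ((n' * n') ^ i)⁻¹) * (n' * n')⁻¹ by simp only [mul_inv_rev, mul_assoc], ← hSconj, ih,
          hSconj, show n' * n' * x * (n' * n')⁻¹ = x₂ by rw [hx₂, hx₁]; group, e]
    have h5 := hsq (r + 1)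
    rw [← pow_two, ← pow_mul, show 2 * (r + 1) = orderOf n' + 1 by omega, pow_succ,
      pow_orderOf_eq_one, one_mul] at h5
    exact h5
  -- so every class is reached
  obtain ⟨w, hw, hwa⟩ := h.exists_out
  set T : Finset (Set G) := {S a, S w, S (a * w)} with hT
  have label : ∀ u ∈ P, orderOf u = 4 → S u ∈ T := by
    intro u hu hu4
    simp only [hT, Finset.mem_insert, Finset.mem_singleton]
    rcases q8_trichotomy h hw hwa hu hu4 with e | e | e
    · exact Or.inl ((hSx _ _).2 e).symm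
    · exact Or.inr (Or.inl ((hSx _ _).2 e).symm)
    · exact Or.inr (Or.inr ((hSx _ _).2 e).symm)
  have hfull : ({S x, S x₁, S x₂} : Finset (Set G)) = T := by
    refine Finset.eq_of_subset_of_card_le ?_ ?_
    · simp only [Finset.insert_subset_iff, Finset.singleton_subset_iff]
      exact ⟨label x hxP hx4, label x₁ hx₁P hx₁4, label x₂ hx₂P hx₂4⟩
    · rw [Finset.card_eq_three.2 ⟨_, _, _, Ne.symm hmove, Ne.symm h02, Ne.symm h12, rfl⟩, hT]
      exact Finset.card_le_three
  have reach : ∀ u ∈ P, orderOf u = 4 → ∃ c : G, c * x * c⁻¹ = u ∨ c * x * c⁻¹ = u⁻¹ := by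
    intro u hu hu4
    have h1 := label u hu hu4
    rw [← hfull] at h1
    simp only [Finset.mem_insert, Finset.mem_singleton] at h1
    rcases h1 with e | e | e <;> rcases (hSx _ _).1 e with e' | e'
    · exact ⟨1, Or.inl (by rw [e']; simp)⟩
    · exact ⟨1, Or.inr (by rw [e']; simp)⟩
    · exact ⟨n', Or.inl e'⟩
    · exact ⟨n', Or.inr (by rw [← hx₁, e'])⟩
    · exact ⟨n' * n', Or.inl (by rw [← e', hx₂, hx₁]; group)⟩
    · exact ⟨n' * n', Or.inr (by rw [← e', hx₂, hx₁]; group)⟩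
  have reach' : ∀ u ∈ P, orderOf u = 4 → ∃ c : G, c * x * c⁻¹ = u := by
    intro u hu hu4
    obtain ⟨c, e | e⟩ := reach u hu hu4
    · exact ⟨c, e⟩
    · obtain ⟨p, hp, hpu⟩ := q8_inverted h hu hu4
      refine ⟨p * c, ?_⟩
      rw [show p * c * x * (p * c)⁻¹ = p * (c * x * c⁻¹) * p⁻¹ by group, e]
      calc p * u⁻¹ * p⁻¹ = (p * u * p⁻¹)⁻¹ := by group
        _ = u := by rw [hpu, inv_inv]
  obtain ⟨c₁, hc₁⟩ := reach' a h.mem ha4
  obtain ⟨c₂, hc₂⟩ := reach' y hy h4
  have hfinal : (c₂ * c₁⁻¹) * a * (c₂ * c₁⁻¹)⁻¹ = y := by rw [← hc₁, ← hc₂]; group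
  exact ⟨c₂ * c₁⁻¹, hcomz h.mem ha4 hy h4 hfinal, hfinal⟩

end Cfsg.Agent.Invol
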