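import Cfsg.Agent.Invol.BSQ8Fusion
import Cfsg.Agent.Blocks.Sections
import Cfsg.Agent.Invol.KleinSylow

/-!
The three generalised characters of norm three on the centraliser of the involution, for a
quaternion Sylow 2-subgroup of order eight.
-/

set_option autoImplicit false

namespace Cfsg.Agent.Invol

open Cfsg.Agent
open scoped ComplexConjugate

universe u

variable {G : Type u} [Group G]

section

variable [Finite G] {P : Sylow 2 G} {a : G}

theorem QData.z_two (h : QData P a 2) : orderOf (a * a) = 2 := by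
  have := h.orderOf_z
  norm_num [pow_two] at this
  exact this

theorem four_dvd_of_orderOf_pow_two {u : G} {n : ℕ} (hn : orderOf u = 2 ^ n) (h : 2 ≤ n) :
    4 ∣ orderOf u := hn ▸ (pow_dvd_pow 2 h : 2 ^ 2 ∣ 2 ^ n)

/-- a 2-element of `P` has order dividing four -/
theorem q8_orderOf_cases (h : QData P a 2) {u : G} (hu : u ∈ P) :
    orderOf u = 1 ∨ orderOf u = 2 ∨ orderOf u = 4 := by
  have ha4 : orderOf a = 4 := by rw [h.order]; norm_num
  refine orderOf_dvd_four_cases ?_ rfl
  by_cases hua : u ∈ Subgroup.zpowers a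
  · obtain ⟨i, rfl⟩ := Subgroup.mem_zpowers_iff.1 hua
    rw [← zpow_natCast, ← zpow_mul, ← orderOf_dvd_iff_zpow_eq_one, ha4]
    exact Dvd.intro_left i rfl
  · rw [show (4 : ℕ) = 2 * 2 by rfl, pow_mul, pow_two u, (h.out u hu hua).2, ← pow_mul,
      show (2 ^ (2 - 1) * 2 : ℕ) = 2 ^ 2 by rfl, ← h.order, pow_orderOf_eq_one]

/-- every element of order divisible by four is conjugate into the centraliser of `a` -/
theorem q8_conj_centralizer (h : QData P a 2)
    (hconj : ∀ y ∈ P, orderOf y = 4 → IsConj a y) {x : G} (hx : 4 ∣ orderOf x) :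
    ∃ c : G, c * x * c⁻¹ ∈ Subgroup.centralizer ({a} : Set G) := by
  set u := Blocks.pPartOf 2 x with hu
  obtain ⟨n, hn⟩ := Blocks.orderOf_pPartOf Nat.prime_two x
  obtain ⟨Q, hQ⟩ := (IsPGroup.of_card (n := n) (by rw [Nat.card_zpowers, hn]) :
    IsPGroup 2 (Subgroup.zpowers u)).exists_le_sylow
  obtain ⟨c, hc⟩ := MulAction.exists_smul_eq G Q P
  have hcu : c * u * c⁻¹ ∈ P := by
    show c * u * c⁻¹ ∈ (P : Subgroup G)
    rw [← hc, Sylow.coe_subgroup_smul]
    exact ⟨u, hQ (Subgroup.mem_zpowers u), rfl⟩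
  have hn2 : 2 ≤ n := by
    have hcop : Nat.Coprime 4 (orderOf (Blocks.pPrimePartOf 2 x)) := by
      rw [show (4 : ℕ) = 2 ^ 2 by norm_num]
      exact Nat.Coprime.pow_left _ ((Nat.prime_two.coprime_iff_not_dvd).2
        (Blocks.not_dvd_orderOf_pPrimePartOf Nat.prime_two x))
    have e : orderOf x = 2 ^ n * orderOf (Blocks.pPrimePartOf 2 x) := by
      conv_lhs => rw [← Blocks.pPartOf_mul_pPrimePartOf Nat.prime_two x]
      rw [(Blocks.commute_pPartOf_pPrimePartOf x).orderOf_mul_eq_mul_orderOf_of_coprime ?_, hn]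
      rw [hn]
      exact Nat.Coprime.pow_left _ ((Nat.prime_two.coprime_iff_not_dvd).2
        (Blocks.not_dvd_orderOf_pPrimePartOf Nat.prime_two x))
    rw [e, hcop.dvd_mul_right, show (4 : ℕ) = 2 ^ 2 by norm_num] at hx
    exact (Nat.pow_dvd_pow_iff_le_right (by norm_num)).1 hx
  have h4 : orderOf (c * u * c⁻¹) = 4 := by
    rcases q8_orderOf_cases h hcu with e | e | e
    all_goals first
      | exact e
      | (exfalso
         rw [orderOf_conj, hn] at e
         have : 2 ^ 2 ≤ 2 ^ n := Nat.pow_le_pow_right two_pos hn2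
         omega)
  obtain ⟨d, hd⟩ := isConj_iff.1 (hconj _ hcu h4).symm
  refine ⟨d * c, Subgroup.mem_centralizer_singleton_iff.2 ?_⟩
  have hxu : Commute x u := by rw [hu, Blocks.pPartOf]; exact Commute.self_pow x _
  have h1 := (Commute.conj_iff (d * c)).2 hxu
  rw [show d * c * u * (d * c)⁻¹ = d * (c * u * c⁻¹) * d⁻¹ by group, hd] at h1
  exact h1.eq

/-- the section function takes the value four on all elements of order divisible by four -/
theorem q8_secInd_eq [Fintype G] (h : QData P a 2)
    (hconj : ∀ y ∈ P, orderOf y = 4 → IsConj a y)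
    {μ : Subgroup.centralizer ({a} : Set G) →* ℂˣ} {N : Subgroup G}
    (hd : SectionData (Subgroup.centralizer ({a} : Set G)) μ N) (hμ2 : μ * μ = 1)
    (hμ : ∀ x, μ x = 1 ↔ ¬ 4 ∣ orderOf (x : G)) (x : G) :
    secInd (Subgroup.centralizer ({a} : Set G)) μ x = if 4 ∣ orderOf x then 4 else 0 := by
  split_ifs with h4
  · obtain ⟨c, hc⟩ := q8_conj_centralizer h hconj h4
    have hne : μ ⟨_, hc⟩ ≠ 1 := fun e =>
      (hμ ⟨_, hc⟩).1 e (by rwa [orderOf_conj])
    have hcl : secInd (Subgroup.centralizer ({a} : Set G)) μ x =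
        secInd (Subgroup.centralizer ({a} : Set G)) μ (c * x * c⁻¹) :=
      (Char.isClassFunction_indFun _ (fun y => 1 - (μ y : ℂ)) x c).symm
    rw [hcl, show c * x * c⁻¹ = ((⟨_, hc⟩ :
      Subgroup.centralizer ({a} : Set G)) : G) from rfl, hd.secInd_eq hne]
    have hsq : (μ ⟨_, hc⟩ : ℂ) * (μ ⟨_, hc⟩ : ℂ) = 1 := by
      have := DFunLike.congr_fun hμ2 ⟨_, hc⟩
      rw [MonoidHom.mul_apply, MonoidHom.one_apply] at this
      rw [← Units.val_mul, this, Units.val_one]
    have hm : (μ ⟨_, hc⟩ : ℂ) = -1 := by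
      rcases mul_self_eq_one_iff.1 hsq with e | e
      · exact absurd (Units.ext (by simpa using e)) hne
      · exact e
    rw [hm]
    norm_num
  · exact secInd_vanish hμ h4

/-- the two halves of the elements of order not divisible by four -/
theorem q8_even_iff (h : QData P a 2) (hz : a * a ∈ Subgroup.center G) (x : G) :
    (4 ∣ orderOf (a * a * x) ↔ 4 ∣ orderOf x) ∧
      (¬ 4 ∣ orderOf x → (Odd (orderOf (a * a * x)) ↔ ¬ Odd (orderOf x))) := by
  set z := a * a with hzdef
  have hz2 : orderOf z = 2 := h.z_two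
  have hzc : ∀ y, Commute z y := fun y => ((Subgroup.mem_center_iff.1 hz) y).symm
  have hzz : ∀ y, z * (z * y) = y := fun y => by rw [← mul_assoc, mul_self_eq_one hz2, one_mul]
  have four : ∀ y, 4 ∣ orderOf (z * y) → 4 ∣ orderOf y := by
    intro y hy
    by_contra hn
    have h1 : (z * y) ^ (2 * orderOf y) = 1 := by
      rw [(hzc y).mul_pow, pow_mul, pow_two z, mul_self_eq_one hz2, one_pow, one_mul, pow_mul',
        pow_orderOf_eq_one, one_pow]
    have h2 := hy.trans (orderOf_dvd_of_pow_eq_one h1)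
    have h3 : Even (orderOf y) := by
      rw [even_iff_two_dvd]
      exact (Nat.mul_dvd_mul_iff_left two_pos).1 (show 2 * 2 ∣ 2 * orderOf y from h2)
    -- `y` has twice odd order, so its involution is `z`
    obtain ⟨m, hm⟩ := h3
    have hm' : Odd m := by
      rw [Nat.odd_iff]
      by_contra hm0
      exact hn ⟨m / 2, by omega⟩
    have hinv : y ^ m = z := by
      have ho : orderOf (y ^ m) = 2 := by
        have hm0 : m ≠ 0 := by
          intro e; subst e
          have := orderOf_pos y
          omega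
        rw [orderOf_pow_of_dvd hm0 ⟨2, by omega⟩, hm, show m + m = 2 * m by ring,
          Nat.mul_div_cancel _ (Nat.pos_of_ne_zero hm0)]
      obtain ⟨g, hg⟩ := exists_sylow_conj_mem P ho
      have := h.eq_z hg ((orderOf_conj _ _).trans ho)
      norm_num [pow_two] at this
      calc y ^ m = g⁻¹ * (g * y ^ m * g⁻¹) * g := by group
        _ = g⁻¹ * (z * g) := by rw [this, mul_assoc]
        _ = z := by rw [(hzc g).eq, inv_mul_cancel_left]
    have h4 : (z * y) ^ m = 1 := by
      rw [(hzc y).mul_pow, hinv, ← pow_succ, ← orderOf_dvd_iff_pow_eq_one, hz2]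
      obtain ⟨j, rfl⟩ := hm'
      exact ⟨j + 1, by ring⟩
    have h5 := hy.trans (orderOf_dvd_of_pow_eq_one h4)
    exact (hm'.not_two_dvd_nat) (dvd_trans (by norm_num) h5)
  refine ⟨⟨four x, fun hx => four (z * x) (by rwa [hzz])⟩, fun hx => ⟨fun h1 h2 => ?_, fun h2 => ?_⟩⟩
  · have h3 : Nat.Coprime (orderOf z) (orderOf x) := by
      rw [hz2]; exact Nat.coprime_two_left.2 h2
    rw [(hzc x).orderOf_mul_eq_mul_orderOf_of_coprime h3, hz2] at h1
    exact h1.not_two_dvd_nat ⟨orderOf x, rfl⟩
  · rw [Nat.not_odd_iff_even] at h2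
    obtain ⟨m, hm⟩ := h2
    have hm' : Odd m := by
      rw [Nat.odd_iff]
      by_contra hm0
      exact hx ⟨m / 2, by omega⟩
    have hm0 : m ≠ 0 := by
      intro e; subst e
      have := orderOf_pos x
      omega
    have ho : orderOf (x ^ m) = 2 := by
      rw [orderOf_pow_of_dvd hm0 ⟨2, by omega⟩, hm, show m + m = 2 * m by ring,
        Nat.mul_div_cancel _ (Nat.pos_of_ne_zero hm0)]
    obtain ⟨g, hg⟩ := exists_sylow_conj_mem P ho
    have hgz := h.eq_z hg ((orderOf_conj _ _).trans ho)
    norm_num [pow_two] at hgz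
    have hinv : x ^ m = z := by
      calc x ^ m = g⁻¹ * (g * x ^ m * g⁻¹) * g := by group
        _ = g⁻¹ * (z * g) := by rw [hgz, mul_assoc]
        _ = z := by rw [(hzc g).eq, inv_mul_cancel_left]
    have h4 : (z * x) ^ m = 1 := by
      rw [(hzc x).mul_pow, hinv, ← pow_succ, ← orderOf_dvd_iff_pow_eq_one, hz2]
      obtain ⟨j, rfl⟩ := hm'
      exact ⟨j + 1, by ring⟩
    exact Odd.of_dvd_nat hm' (orderOf_dvd_of_pow_eq_one h4)

end

variable [Fintype G]

/-- Multiplication by a central involution scales an irreducible character by a sign. -/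
theorem irr_mul_sign (χ : Cfsg.IrrCharacter G) {z : G} (hz : z ∈ Subgroup.center G)
    (h2 : orderOf z = 2) :
    ∃ ω : ℂ, (ω = 1 ∨ ω = -1) ∧ ∀ x, (χ : G → ℂ) (z * x) = ω * (χ : G → ℂ) x := by
  refine ⟨Cfsg.centralChar (χ : G → ℂ) z, ?_, fun x => Blocks.irr_mul_central χ.2 hz x⟩
  have e := Blocks.irr_mul_central χ.2 hz (z * 1)
  rw [Blocks.irr_mul_central χ.2 hz 1, ← mul_assoc, mul_self_eq_one h2, one_mul, ← mul_assoc] at e
  have h1 := Char.IsIrr.one_ne_zero χ.2
  exact mul_self_eq_one_iff.1 (mul_right_cancel₀ h1 (e.symm.trans (one_mul _).symm))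

/-- Integrality of the odd part sum for a character that the central involution negates. -/
theorem q8_odd_sum_int {P : Sylow 2 G} {a : G} (h : QData P a 2) (hz : a * a ∈ Subgroup.center G)
    (ψ : Cfsg.IrrCharacter G) {s : ℂ} (hs : s = 1 ∨ s = -1)
    (hψz : ∀ x, (ψ : G → ℂ) (a * a * x) = (ψ : G → ℂ) x)
    (hψS : ∀ x, 4 ∣ orderOf x → (ψ : G → ℂ) x = s) {χ : G → ℂ} (hχ : Cfsg.IsCharacter G χ)
    (hχz : ∀ x, χ (a * a * x) = -χ x) :
    ∃ n : ℤ, 2 * (Nat.card G : ℂ)⁻¹ *
      (∑ x ∈ Finset.univ.filter (fun x : G => Odd (orderOf x)),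
        (1 + s * (ψ : G → ℂ) x) * χ x) = n := by
  classical
  set z := a * a with hzdef
  have hz2 : orderOf z = 2 := h.z_two
  obtain ⟨M, hM⟩ := Blocks.exists_isPModular 2 Nat.prime_two
  obtain ⟨sz, hsz⟩ : ∃ t : ℤ, s = t := by rcases hs with rfl | rfl; exacts [⟨1, by simp⟩, ⟨-1, by simp⟩]
  -- the integer
  have hfilt : (Finset.univ.filter fun x : G => Odd (orderOf x)) =
      Finset.univ.filter (fun x : G => ¬ 2 ∣ orderOf x) := by
    refine Finset.filter_congr fun x _ => ?_
    rw [Nat.odd_iff, Nat.two_dvd_ne_zero]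
  obtain ⟨N₁, hN₁⟩ := Blocks.regularSum_int Nat.prime_two hχ
  obtain ⟨N₂, hN₂⟩ := Blocks.regularSum_int Nat.prime_two
    (Char.isCharacter_mul (Char.IsIrr.isCharacter ψ.2) hχ)
  have hfac : 2 ^ (Nat.card G).factorization 2 = 8 := by
    rw [← Sylow.card_eq_multiplicity P, h.card]; norm_num
  rw [hfac] at hN₁ hN₂
  set Sm := ∑ x ∈ Finset.univ.filter (fun x : G => Odd (orderOf x)),
    (1 + s * (ψ : G → ℂ) x) * χ x with hSm
  have hN : 8 * (Nat.card G : ℂ)⁻¹ * Sm = ((N₁ + sz * N₂ : ℤ) : ℂ) := by
    push_cast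
    rw [← hN₁, ← hN₂, ← hsz, hSm, hfilt]
    simp only [Finset.mul_sum, Pi.mul_apply, ← Finset.sum_add_distrib]
    refine Finset.sum_congr (by ext x; simp) fun x _ => ?_
    push_cast
    ring
  set N := N₁ + sz * N₂ with hNdef
  obtain ⟨m, hm, hcard⟩ : ∃ m : ℕ, Odd m ∧ Nat.card G = 8 * m := by
    refine ⟨(P : Subgroup G).index, ?_, ?_⟩
    · rw [Nat.odd_iff, ← Nat.two_dvd_ne_zero]; exact P.not_dvd_index
    · rw [← (P : Subgroup G).card_mul_index, h.card]; norm_num
  have hSN : Sm = ((N * m : ℤ) : ℂ) := by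
    push_cast
    rw [← hN, hcard]
    push_cast
    have : (m : ℂ) ≠ 0 := Nat.cast_ne_zero.2 (by rcases hm with ⟨j, rfl⟩; omega)
    field_simp
  -- local decomposition
  have key : ∃ X Y : ℂ, Cfsg.MemLocalRing M X ∧ Cfsg.MemLocalIdeal M Y ∧ Sm = 4 * X + 2 * Y := by
    have hF : Cfsg.IsClassFunction G
        (fun x => if Odd (orderOf x) then (1 + s * (ψ : G → ℂ) x) * χ x else 0) := by
      intro x k
      simp only [orderOf_conj, Char.isClassFunction_of_isIrr ψ.2 x k,
        Char.isClassFunction_of_isCharacter hχ x k]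
    rw [hSm, Finset.sum_filter]
    rw [Blocks.sum_classFun_eq_sum_classes hF]
    have hterm : ∀ C : ConjClasses G, ∃ X Y : ℂ, Cfsg.MemLocalRing M X ∧ Cfsg.MemLocalIdeal M Y ∧
        ((Subgroup.centralizer ({C.out} : Set G)).index : ℂ) *
          (if Odd (orderOf C.out) then (1 + s * (ψ : G → ℂ) C.out) * χ C.out else 0) =
        4 * X + 2 * Y := by
      intro C
      generalize C.out = r
      by_cases hr : Odd (orderOf r)
      swap
      · exact ⟨0, 0, Blocks.memLocalRing_natCast hM 0 |> fun h => by simpa using h,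
          Blocks.memLocalIdeal_zero hM, by rw [if_neg hr]; ring⟩
      rw [if_pos hr]
      set H := Subgroup.centralizer ({r} : Set G) with hH
      obtain ⟨Q⟩ : Nonempty (Sylow 2 H) := inferInstance
      obtain ⟨e, he⟩ := Q.2.exists_card_eq
      have hrH : r ∈ H := Subgroup.mem_centralizer_singleton_iff.2 rfl
      have hzH : z ∈ H := Subgroup.mem_centralizer_singleton_iff.2 ((Subgroup.mem_center_iff.1 hz) r).symm
      obtain ⟨l, hl⟩ := Blocks.exists_decomp_central (Char.IsIrr.isCharacter ψ.2) H (s := ⟨r, hrH⟩)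
        (Subgroup.mem_center_iff.2 fun k =>
          Subtype.ext (Subgroup.mem_centralizer_singleton_iff.1 k.2))
      -- the two elements of `Q` inside `⟨z⟩`
      have hzQ : (⟨z, hzH⟩ : H) ∈ (Q : Subgroup H) := by
        have hz' : (⟨z, hzH⟩ : H) ∈ Subgroup.center H :=
          Subgroup.mem_center_iff.2 fun k => Subtype.ext ((Subgroup.mem_center_iff.1 hz) k)
        have hp : IsPGroup 2 (Subgroup.zpowers (⟨z, hzH⟩ : H)) :=
          IsPGroup.of_card (n := 1) (by rw [Nat.card_zpowers, Subgroup.orderOf_mk, hz2, pow_one])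
        obtain ⟨Q', hQ'⟩ := hp.exists_le_sylow
        obtain ⟨c, hc⟩ := MulAction.exists_smul_eq H Q' Q
        show (⟨z, hzH⟩ : H) ∈ (Q : Subgroup H)
        rw [← hc, Sylow.coe_subgroup_smul]
        refine ⟨_, hQ' (Subgroup.mem_zpowers _), ?_⟩
        show c * (⟨z, hzH⟩ : H) * c⁻¹ = ⟨z, hzH⟩
        rw [(Subgroup.mem_center_iff.1 hz') c, mul_inv_cancel_right]
      have he1 : 1 ≤ e := by
        by_contra h0
        have hQ1 : Nat.card Q = 1 := by rw [he, show e = 0 by omega, pow_zero]
        have := (Subgroup.card_eq_one.1 hQ1 ▸ hzQ : (⟨z, hzH⟩ : H) ∈ (⊥ : Subgroup H))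
        rw [Subgroup.mem_bot] at this
        exact ne_one hz2 (congrArg Subtype.val this)
      have hΦ : ∀ y : Q, 1 - s * (ψ : G → ℂ) (r * (y : H)) =
          if (y : H) = 1 ∨ (y : H) = ⟨z, hzH⟩ then 1 - s * (ψ : G → ℂ) r else 0 := by
        intro y
        split_ifs with hy
        · rcases hy with e' | e' <;> rw [e']
          · simp
          · simp only
            rw [(Subgroup.mem_center_iff.1 hz) r, hψz]
        · obtain ⟨i, hi⟩ := IsPGroup.iff_orderOf.1 Q.2 y
          have hi2 : 2 ≤ i := by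
            by_contra h0
            push_neg at hy
            interval_cases i
            · rw [pow_zero, orderOf_eq_one_iff] at hi
              exact hy.1 (by rw [hi]; rfl)
            · rw [pow_one, ← Subgroup.orderOf_coe, ← Subgroup.orderOf_coe] at hi
              obtain ⟨g, hg⟩ := exists_sylow_conj_mem P hi
              have hgz := h.eq_z hg ((orderOf_conj _ _).trans hi)
              norm_num [pow_two] at hgz
              refine hy.2 (Subtype.ext ?_)
              calc ((y : H) : G) = g⁻¹ * (g * ((y : H) : G) * g⁻¹) * g := by group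
                _ = g⁻¹ * (z * g) := by rw [hgz, mul_assoc]
                _ = z := by rw [← (Subgroup.mem_center_iff.1 hz) g, inv_mul_cancel_left]
          have hy4 : 4 ∣ orderOf (r * ((y : H) : G)) := by
            have hc : Commute r ((y : H) : G) :=
              (Subgroup.mem_centralizer_singleton_iff.1 (y : H).2).symm
            have ho : orderOf ((y : H) : G) = 2 ^ i := by
              rw [Subgroup.orderOf_coe, Subgroup.orderOf_coe, hi]
            rw [hc.orderOf_mul_eq_mul_orderOf_of_coprime (by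
              rw [ho]; exact Nat.Coprime.pow_right _ (Nat.coprime_two_right.2 hr)), ho]
            exact Dvd.dvd.mul_left (pow_dvd_pow 2 hi2) _
          rw [hψS _ hy4]
          rcases hs with rfl | rfl <;> norm_num
      -- `2 Φ(r) / |Q|` is a local integer
      have hX : Cfsg.MemLocalRing M (2 * (1 - s * (ψ : G → ℂ) r) * (Nat.card Q : ℂ)⁻¹) := by
        have : Fintype Q := Fintype.ofFinite Q
        have hne : (1 : H) ≠ ⟨z, hzH⟩ := fun e => ne_one hz2 (congrArg Subtype.val e).symm
        have hsum : ∑ y : Q, (1 - s * (ψ : G → ℂ) (r * (y : H))) =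
            2 * (1 - s * (ψ : G → ℂ) r) := by
          rw [← Finset.sum_subset (Finset.subset_univ ({1, ⟨_, hzQ⟩} : Finset Q)) fun y _ hy => by
            rw [hΦ y, if_neg]
            simp only [Finset.mem_insert, Finset.mem_singleton, not_or] at hy
            rintro (e | e)
            · exact hy.1 (Subtype.ext e)
            · exact hy.2 (Subtype.ext e),
            Finset.sum_pair (fun e => hne (congrArg Subtype.val e)), hΦ, hΦ, if_pos, if_pos]
          · ring
          · exact Or.inr rfl
          · exact Or.inl rfl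
        rw [← hsum]
        simp only [Finset.sum_sub_distrib, Finset.sum_const, Finset.card_univ, nsmul_eq_mul, mul_one,
          ← Nat.card_eq_fintype_card, sub_mul, ← Finset.mul_sum]
        rw [mul_inv_cancel₀ (Nat.cast_ne_zero.2 Nat.card_pos.ne'), mul_assoc]
        refine (Blocks.localRing hM).sub_mem (Blocks.localRing hM).one_mem
          ((Blocks.localRing hM).mul_mem (hsz ▸ Blocks.memLocalRing_of_isIntegral hM
            (Blocks.isIntegral_intCast sz)) ?_)
        have hl' : ∀ y : Q, (ψ : G → ℂ) (r * ((y : H) : G)) = _ := fun y => hl (y : H)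
        simp only [hl', ← Multiset.sum_map_sum, ← Multiset.sum_map_mul_right]
        refine Blocks.mem_localRing_multiset_sum hM fun w hw => ?_
        obtain ⟨φ, -, rfl⟩ := Multiset.mem_map.1 hw
        rw [← Finset.mul_sum, mul_assoc]
        refine (Blocks.localRing hM).mul_mem (Blocks.memLocalRing_centralChar hM φ.2 _) ?_
        obtain ⟨d, hd⟩ := Char.classInner_isCharacter_eq_natCast
          (Char.isCharacter_res (Q : Subgroup H) (Char.IsIrr.isCharacter φ.2))
          (Char.isCharacter_one (G := (Q : Subgroup H)))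
        simp only [Cfsg.classInner, map_one, mul_one] at hd
        rw [mul_comm, hd]
        exact Blocks.memLocalRing_natCast hM d
      -- the index
      obtain ⟨o, ho, hidx⟩ : ∃ o : ℕ, Odd o ∧ (H.index : ℂ) * (Nat.card Q : ℂ) = 8 * o := by
        refine ⟨(P : Subgroup G).index / (Q : Subgroup H).index, ?_, ?_⟩
        all_goals
          have hd : (Q : Subgroup H).index ∣ (P : Subgroup G).index := by
            have hHc := H.card_mul_index
            rw [← (Q : Subgroup H).card_mul_index, he, ← (P : Subgroup G).card_mul_index, h.card]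
              at hHc
            have hdd : (Q : Subgroup H).index ∣ 2 * 2 ^ 2 * (P : Subgroup G).index :=
              ⟨2 ^ e * H.index, by rw [← hHc]; ring⟩
            have hodd : Nat.Coprime (Q : Subgroup H).index (2 * 2 ^ 2) := by
              rw [show 2 * 2 ^ 2 = 2 ^ 3 by norm_num]
              exact Nat.Coprime.pow_right _
                ((Nat.prime_two.coprime_iff_not_dvd).2 Q.not_dvd_index).symm
            exact hodd.dvd_of_dvd_mul_left hdd
        · refine Odd.of_dvd_nat ?_ (Nat.div_dvd_of_dvd hd)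
          rw [Nat.odd_iff, ← Nat.two_dvd_ne_zero]; exact P.not_dvd_index
        · have hHc := H.card_mul_index
          rw [← (Q : Subgroup H).card_mul_index, ← (P : Subgroup G).card_mul_index, h.card] at hHc
          obtain ⟨j, hj⟩ := hd
          have hj0 : (Q : Subgroup H).index ≠ 0 := Subgroup.index_ne_zero_of_finite
          rw [hj, Nat.mul_div_cancel_left _ (Nat.pos_of_ne_zero hj0)]
          have : H.index * Nat.card Q = 8 * j := by
            refine Nat.eq_of_mul_eq_mul_left (Nat.pos_of_ne_zero hj0) ?_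
            calc (Q : Subgroup H).index * (H.index * Nat.card Q)
                = Nat.card Q * (Q : Subgroup H).index * H.index := by ring
              _ = 2 * 2 ^ 2 * ((Q : Subgroup H).index * j) := by rw [hHc, hj]
              _ = (Q : Subgroup H).index * (8 * j) := by ring
          exact_mod_cast this
      -- `index * χ r` lies in the ideal
      have hY : Cfsg.MemLocalIdeal M ((H.index : ℂ) * χ r) := by
        by_cases hev : 2 ∣ H.index
        · exact Blocks.memLocalIdeal_mul_right hM ((Blocks.memLocalIdeal_natCast_iff hM _).2 hev)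
            (Blocks.memLocalRing_char hM hχ r)
        · -- a full Sylow subgroup centralises `r`
          have hQc : Nat.card Q = 8 := by
            have h8 : ((H.index * Nat.card Q : ℕ) : ℂ) = ((8 * o : ℕ) : ℂ) := by push_cast; exact hidx
            have h8' : H.index * Nat.card Q = 8 * o := by exact_mod_cast h8
            have hc : Nat.Coprime 8 H.index := by
              rw [show (8 : ℕ) = 2 ^ 3 by norm_num]
              exact Nat.Coprime.pow_left _ ((Nat.prime_two.coprime_iff_not_dvd).2 hev)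
            have h9 : 8 ∣ Nat.card Q := hc.dvd_of_dvd_mul_left ⟨o, h8'⟩
            have h10 : Nat.card Q ∣ Nat.card P := by
              have hT : IsPGroup 2 ((Q : Subgroup H).map H.subtype) := Q.2.map _
              obtain ⟨P', hP'⟩ := hT.exists_le_sylow
              have := Subgroup.card_dvd_of_le hP'
              rwa [Nat.card_congr ((Q : Subgroup H).equivMapOfInjective _
                H.subtype_injective).toEquiv.symm, Nat.card_congr (Sylow.equiv P' P).toEquiv] at this
            rw [h.card, show 2 * 2 ^ 2 = 8 by norm_num] at h10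
            exact Nat.dvd_antisymm h10 h9
          have hT : IsPGroup 2 ((Q : Subgroup H).map H.subtype) := Q.2.map _
          obtain ⟨P', hP'⟩ := hT.exists_le_sylow
          have hQP : (Q : Subgroup H).map H.subtype = P' := by
            refine Subgroup.eq_of_le_of_card_ge hP' ?_
            rw [Nat.card_congr ((Q : Subgroup H).equivMapOfInjective _
              H.subtype_injective).toEquiv.symm, hQc, Nat.card_congr (Sylow.equiv P' P).toEquiv,
              h.card]
            norm_num
          obtain ⟨g, hg⟩ := MulAction.exists_smul_eq G P' P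
          have hmem : ∀ p ∈ P, Commute (g⁻¹ * p * g) r := by
            intro p hp
            change p ∈ (P : Subgroup G) at hp
            rw [← hg, Sylow.coe_subgroup_smul] at hp
            obtain ⟨q, hq, rfl⟩ := hp
            change q ∈ (P' : Subgroup G) at hq
            rw [← hQP] at hq
            obtain ⟨t, -, rfl⟩ := hq
            show Commute (g⁻¹ * (g * (t : G) * g⁻¹) * g) r
            rw [show g⁻¹ * (g * (t : G) * g⁻¹) * g = t by group]
            exact Subgroup.mem_centralizer_singleton_iff.1 t.2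
          obtain ⟨w, hw, hwa⟩ := h.exists_out
          set i := g⁻¹ * a * g with hi
          set j := g⁻¹ * w * g with hj
          have hci : Commute i r := hmem a h.mem
          have hcj : Commute j r := hmem w hw
          have hi2 : i * i = z := by
            calc i * i = g⁻¹ * (a * a) * g := by rw [hi]; group
              _ = z := by rw [mul_assoc, ← hzdef, ← (Subgroup.mem_center_iff.1 hz) g,
                  inv_mul_cancel_left]
          have hzero : χ (r * i) = 0 := by
            have hjij : j * i * j⁻¹ = z * i := by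
              have e1 : j * i * j⁻¹ = i⁻¹ := by
                calc j * i * j⁻¹ = g⁻¹ * (w * a * w⁻¹) * g := by rw [hi, hj]; group
                  _ = i⁻¹ := by rw [(h.out w hw hwa).1, hi]; group
              rw [e1, inv_eq_iff_mul_eq_one, (Subgroup.mem_center_iff.1 hz i).symm, ← mul_assoc, hi2,
                mul_self_eq_one hz2]
            have e2 : χ (r * i) = χ (z * (r * i)) := by
              conv_lhs => rw [← Char.isClassFunction_of_isCharacter hχ (r * i) j]
              congr 1
              calc j * (r * i) * j⁻¹ = j * r * j⁻¹ * (j * i * j⁻¹) := by group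
                _ = r * (z * i) := by rw [hjij, hcj.eq, mul_inv_cancel_right]
                _ = z * (r * i) := by rw [← mul_assoc r, (Subgroup.mem_center_iff.1 hz) r, mul_assoc z]
            rw [hχz] at e2
            linear_combination e2 / 2
          have hcong := Blocks.memLocalIdeal_char_sub_pPrimePart hM hχ (r * i)
          have hio : orderOf i = 2 ^ 2 := by
            rw [hi, show g⁻¹ * a * g = g⁻¹ * a * g⁻¹⁻¹ by group, orderOf_conj, h.order]
          have hpp := (Blocks.parts_mul Nat.prime_two (u := i) (s := r) hci ⟨2, hio⟩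
            hr.not_two_dvd_nat).2
          rw [hci.eq] at hpp
          rw [hpp, hzero, sub_zero] at hcong
          exact Blocks.memLocalIdeal_mul_left hM (Blocks.memLocalRing_natCast hM _) hcong
      refine ⟨-((o : ℂ) * (2 * (1 - s * (ψ : G → ℂ) r) * (Nat.card Q : ℂ)⁻¹) * χ r),
        (H.index : ℂ) * χ r, ?_, hY, ?_⟩
      · exact (Blocks.localRing hM).neg_mem ((Blocks.localRing hM).mul_mem
          ((Blocks.localRing hM).mul_mem (Blocks.memLocalRing_natCast hM o) hX)
          (Blocks.memLocalRing_char hM hχ r))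
      · have hq : (Nat.card Q : ℂ) ≠ 0 := Nat.cast_ne_zero.2 Nat.card_pos.ne'
        have hi' : (H.index : ℂ) = 8 * o * (Nat.card Q : ℂ)⁻¹ := by
          rw [← hidx, mul_inv_cancel_right₀ hq]
        linear_combination -((1 - s * (ψ : G → ℂ) r) * χ r) * hi'
    choose X Y hX hY hXY using hterm
    refine ⟨∑ C, X C, ∑ C, Y C, (Blocks.localRing hM).sum_mem fun C _ => hX C,
      Blocks.memLocalIdeal_sum hM _ fun C _ => hY C, ?_⟩
    rw [Finset.sum_congr rfl fun C _ => hXY C, Finset.mul_sum, Finset.mul_sum,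
      ← Finset.sum_add_distrib]
  obtain ⟨X, Y, hX, hY, hXY⟩ := key
  have h2 : Cfsg.MemLocalIdeal M ((2 : ℕ) : ℂ) := (Blocks.memLocalIdeal_natCast_iff hM 2).2 dvd_rfl
  have hin : Cfsg.MemLocalIdeal M (2 * X + Y) :=
    Blocks.memLocalIdeal_add hM (Blocks.memLocalIdeal_mul_right hM (by simpa using h2) hX) hY
  have hev : (2 : ℤ) ∣ N := by
    have h1 : Cfsg.MemLocalIdeal M ((N * m : ℤ) : ℂ) := by
      rw [← hSN, hXY, show 4 * X + 2 * Y = (2 : ℂ) * (2 * X + Y) by ring]
      exact Blocks.memLocalIdeal_mul_right hM (by simpa using h2)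
        (Blocks.memLocalRing_of_memLocalIdeal hin)
    have h3 := (Blocks.memLocalIdeal_intCast_iff hM _).1 h1
    exact (Int.prime_two.dvd_mul.1 h3).resolve_right fun hd =>
      hm.not_two_dvd_nat (Int.natCast_dvd_natCast.1 hd)
  obtain ⟨N', hN'⟩ := hev
  have hev' : (2 : ℤ) ∣ N' := by
    have h1 : Cfsg.MemLocalIdeal M ((N' * m : ℤ) : ℂ) := by
      have e : ((N' * m : ℤ) : ℂ) = 2 * X + Y := by
        have h4 := hSN.symm.trans hXY
        rw [hN'] at h4
        push_cast at h4 ⊢
        linear_combination h4 / 2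
      rw [e]; exact hin
    have h3 := (Blocks.memLocalIdeal_intCast_iff hM _).1 h1
    exact (Int.prime_two.dvd_mul.1 h3).resolve_right fun hd =>
      hm.not_two_dvd_nat (Int.natCast_dvd_natCast.1 hd)
  obtain ⟨n, hn⟩ := hev'
  refine ⟨n, ?_⟩
  have : (8 : ℂ) * (Nat.card G : ℂ)⁻¹ * Sm = 4 * (n : ℂ) := by
    rw [hN, hN', hn]; push_cast; ring
  linear_combination this / 4

/-- elements of order divisible by four in the centraliser of `a` -/
theorem q8_centralizer_elt {P : Sylow 2 G} {a : G} (h : QData P a 2)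
    (hz : a * a ∈ Subgroup.center G) {μ : Subgroup.centralizer ({a} : Set G) →* ℂˣ}
    (hμ2 : μ * μ = 1) (hμ : ∀ x, μ x = 1 ↔ ¬ 4 ∣ orderOf (x : G)) {y : G} (hy : Commute a y)
    (h4 : 4 ∣ orderOf y) :
    ∃ r, Commute a r ∧ Odd (orderOf r) ∧ (y = a * r ∨ y = a⁻¹ * r) := by
  have hm : ∀ v, μ v ≠ 1 → (μ v : ℂ) = -1 := by
    intro v hv
    have hsq : (μ v : ℂ) * (μ v : ℂ) = 1 := by
      have := DFunLike.congr_fun hμ2 v
      rw [MonoidHom.mul_apply, MonoidHom.one_apply] at this
      rw [← Units.val_mul, this, Units.val_one]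
    rcases mul_self_eq_one_iff.1 hsq with e | e
    · exact absurd (Units.ext (by simpa using e)) hv
    · exact e
  have ha4 : orderOf a = 4 := by rw [h.order]; norm_num
  have hyK : y ∈ Subgroup.centralizer ({a} : Set G) :=
    Subgroup.mem_centralizer_singleton_iff.2 hy.symm.eq
  have haK : a⁻¹ ∈ Subgroup.centralizer ({a} : Set G) :=
    inv_mem (Subgroup.mem_centralizer_singleton_iff.2 rfl)
  have h4' : ¬ 4 ∣ orderOf (a⁻¹ * y) := by
    intro hd
    refine (hμ (⟨a⁻¹, haK⟩ * ⟨y, hyK⟩)).1 ?_ hd
    rw [map_mul]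
    refine Units.ext ?_
    rw [Units.val_mul, hm _ fun e => (hμ ⟨a⁻¹, haK⟩).1 e (by rw [orderOf_inv, ha4]),
      hm _ fun e => (hμ ⟨y, hyK⟩).1 e h4]
    norm_num
  have hc : Commute a (a⁻¹ * y) := (Commute.refl a).inv_right.mul_right hy
  by_cases h1 : Odd (orderOf (a⁻¹ * y))
  · exact ⟨_, hc, h1, Or.inl (by group)⟩
  · refine ⟨a * y, (Commute.refl a).mul_right hy, ?_, Or.inr (by group)⟩
    rw [show a * y = a * a * (a⁻¹ * y) by group]
    exact ((q8_even_iff h hz _).2 h4').2 h1

open scoped Classical in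
/-- A character with vanishing sum over the odd part of the section is orthogonal to the
section function. -/
theorem q8_secInd_orth {P : Sylow 2 G} {a : G} (h : QData P a 2)
    (hz : a * a ∈ Subgroup.center G) {μ : Subgroup.centralizer ({a} : Set G) →* ℂˣ}
    (hμ2 : μ * μ = 1) (hμ : ∀ x, μ x = 1 ↔ ¬ 4 ∣ orderOf (x : G)) (χ : Cfsg.IrrCharacter G)
    (hsum : ∑ r ∈ Finset.univ.filter (fun r => Commute a r ∧ Odd (orderOf r)),
      (χ : G → ℂ) (a * r) = 0) :
    Cfsg.classInner (secInd (Subgroup.centralizer ({a} : Set G)) μ) (χ : G → ℂ) = 0 := by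
  have hK : Fintype (Subgroup.centralizer ({a} : Set G)) := Fintype.ofFinite _
  have ha4 : orderOf a = 4 := by rw [h.order]; norm_num
  rw [secInd, Char.classInner_indFun_left _ _ (Char.isClassFunction_of_isIrr χ.2), Cfsg.classInner]
  refine mul_eq_zero_of_right _ ?_
  have hterm : ∀ y : Subgroup.centralizer ({a} : Set G),
      (1 - (μ y : ℂ)) * conj ((χ : G → ℂ) (y : G)) =
      if 4 ∣ orderOf (y : G) then 2 * conj ((χ : G → ℂ) (y : G)) else 0 := by
    intro y
    split_ifs with hy
    · have hsq : (μ y : ℂ) * (μ y : ℂ) = 1 := by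
        have := DFunLike.congr_fun hμ2 y
        rw [MonoidHom.mul_apply, MonoidHom.one_apply] at this
        rw [← Units.val_mul, this, Units.val_one]
      rcases mul_self_eq_one_iff.1 hsq with e | e
      · exact absurd hy ((hμ y).1 (Units.ext (by simpa using e)))
      · rw [e]; ring
    · rw [(hμ y).2 hy]; simp
  rw [Finset.sum_congr rfl fun y _ => hterm y, ← Finset.sum_filter, ← Finset.mul_sum, ← map_sum]
  set T := Finset.univ.filter (fun r : G => Commute a r ∧ Odd (orderOf r)) with hT
  have hord : ∀ u : G, (u = a ∨ u = a⁻¹) → ∀ r ∈ T, 4 ∣ orderOf (u * r) ∧ Commute a (u * r) := by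
    intro u hu r hr
    simp only [hT, Finset.mem_filter, Finset.mem_univ, true_and] at hr
    have hur : Commute u r := by
      rcases hu with rfl | rfl
      exacts [hr.1, hr.1.inv_left]
    have hu4 : orderOf u = 4 := by
      rcases hu with rfl | rfl
      exacts [ha4, by rw [orderOf_inv, ha4]]
    refine ⟨?_, Commute.mul_right ?_ hr.1⟩
    · rw [hur.orderOf_mul_eq_mul_orderOf_of_coprime (by
        rw [hu4, show (4 : ℕ) = 2 ^ 2 by norm_num]
        exact Nat.Coprime.pow_left _ (Nat.coprime_two_left.2 hr.2)), hu4]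
      exact Dvd.intro _ rfl
    · rcases hu with rfl | rfl
      exacts [Commute.refl _, (Commute.refl _).inv_right]
  have hbij : ∑ y ∈ Finset.univ.filter (fun y : Subgroup.centralizer ({a} : Set G) =>
      4 ∣ orderOf (y : G)), (χ : G → ℂ) (y : G) =
      ∑ q ∈ (T.image (fun r => a * r)) ∪ (T.image (fun r => a⁻¹ * r)), (χ : G → ℂ) q := by
    refine Finset.sum_bij (fun y _ => (y : G)) (fun y hy => ?_) (fun q _ q' _ e => Subtype.ext e)
      (fun q hq => ?_) (fun y _ => rfl)
    · simp only [Finset.mem_filter, Finset.mem_univ, true_and] at hy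
      obtain ⟨r, h1, h2, h3⟩ := q8_centralizer_elt h hz hμ2 hμ
        (show Commute a (y : G) from (Subgroup.mem_centralizer_singleton_iff.1 y.2).symm) hy
      simp only [Finset.mem_union, Finset.mem_image]
      rcases h3 with e | e
      · exact Or.inl ⟨r, by simp [hT, h1, h2], e.symm⟩
      · exact Or.inr ⟨r, by simp [hT, h1, h2], e.symm⟩
    · simp only [Finset.mem_union, Finset.mem_image] at hq
      rcases hq with ⟨r, hr, rfl⟩ | ⟨r, hr, rfl⟩
      · obtain ⟨h1, h2⟩ := hord a (Or.inl rfl) r hr
        exact ⟨⟨_, Subgroup.mem_centralizer_singleton_iff.2 h2.symm.eq⟩,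
          Finset.mem_filter.2 ⟨Finset.mem_univ _, h1⟩, rfl⟩
      · obtain ⟨h1, h2⟩ := hord a⁻¹ (Or.inr rfl) r hr
        exact ⟨⟨_, Subgroup.mem_centralizer_singleton_iff.2 h2.symm.eq⟩,
          Finset.mem_filter.2 ⟨Finset.mem_univ _, h1⟩, rfl⟩
  obtain ⟨w, hw, hwinv⟩ := q8_inverted h h.mem ha4
  have hsw : ∑ r ∈ T, (χ : G → ℂ) (a⁻¹ * r) = 0 := by
    rw [← hsum]
    refine Finset.sum_equiv (MulAut.conj w).toEquiv (fun r => ?_) (fun r _ => ?_)
    · simp only [hT, Finset.mem_filter, Finset.mem_univ, true_and, MulEquiv.toEquiv_eq_coe,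
        EquivLike.coe_coe, MulAut.conj_apply, orderOf_conj]
      have hiff : Commute (w * a * w⁻¹) (w * r * w⁻¹) ↔ Commute a r := Commute.conj_iff w
      rw [hwinv, Commute.inv_left_iff] at hiff
      rw [hiff]
    · simp only [MulEquiv.toEquiv_eq_coe, EquivLike.coe_coe, MulAut.conj_apply]
      rw [← Char.isClassFunction_of_isIrr χ.2 (a⁻¹ * r) w]
      congr 1
      rw [show w * (a⁻¹ * r) * w⁻¹ = (w * a * w⁻¹)⁻¹ * (w * r * w⁻¹) by group, hwinv, inv_inv]
  have hdisj : Disjoint (T.image (fun r => a * r)) (T.image (fun r => a⁻¹ * r)) := by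
    rw [Finset.disjoint_left]
    rintro q hp hq
    obtain ⟨r, hr, rfl⟩ := Finset.mem_image.1 hp
    obtain ⟨r', hr', he⟩ := Finset.mem_image.1 hq
    simp only [hT, Finset.mem_filter, Finset.mem_univ, true_and] at hr hr'
    have e2 : r' = a * a * r := by
      rw [mul_assoc, ← he, mul_inv_cancel_left]
    have h5 := (q8_even_iff h hz r).2 fun h4 => (hr.2).not_two_dvd_nat (dvd_trans (by norm_num) h4)
    rw [e2] at hr'
    exact h5.1 hr'.2 hr.2
  rw [hbij, Finset.sum_union hdisj, Finset.sum_image (fun q _ q' _ e => mul_left_cancel e),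
    Finset.sum_image (fun q _ q' _ e => mul_left_cancel e), hsum, hsw]
  simp

open scoped Classical in
/-- The local configuration in a group where the involution is central. -/
theorem q8_local {P : Sylow 2 G} {a : G} (h : QData P a 2) (hz : a * a ∈ Subgroup.center G)
    (hconj : ∀ y ∈ P, orderOf y = 4 → IsConj a y)
    (hfacts : ∀ χ : Cfsg.IrrCharacter G,
      (∀ r, Commute a r → Odd (orderOf r) → (χ : G → ℂ) (a * r) = (χ : G → ℂ) a) ∨
      ∑ r ∈ Finset.univ.filter (fun r => Commute a r ∧ Odd (orderOf r)),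
        (χ : G → ℂ) (a * r) = 0) :
    ∃ g : Fin 3 → G → ℂ, (∀ i, Cfsg.IsGeneralizedCharacter G (g i)) ∧
      (∀ i j, Cfsg.classInner (g i) (g j) = if i = j then 3 else 1) ∧
      (∀ i, Cfsg.classInner (g i) (fun _ => (1 : ℂ)) = 1) ∧
      (∀ i x, Odd (orderOf x) → g i x = 0) ∧ (∀ i x, 4 ∣ orderOf x → g i x = 2) ∧
      ∑ i, g i (a * a) = 4 ∧
      ∑ x : G, (if 4 ∣ orderOf x then (4 : ℂ) else 0) = (Nat.card G : ℂ) := by
  have hsd := h.exists_sectionData
  rw [show a ^ 2 ^ (2 - 2) = a by simp] at hsd
  obtain ⟨μ, N, hd, hμ1, -, hμ2, hμ, -, -⟩ := hsd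
  replace hμ2 := hμ2 rfl
  set z := a * a with hzdef
  have hz2 : orderOf z = 2 := h.z_two
  have hzc : ∀ y, Commute z y := fun y => ((Subgroup.mem_center_iff.1 hz) y).symm
  have hsigns := q8_even_iff h hz
  obtain ⟨θ, hθdef⟩ : ∃ θ, θ = secInd (Subgroup.centralizer ({a} : Set G)) μ := ⟨_, rfl⟩
  have hθg : Cfsg.IsGeneralizedCharacter G θ := hθdef ▸ isGeneralized_secInd _ μ
  have hθv : ∀ x, θ x = if 4 ∣ orderOf x then 4 else 0 := fun x =>
    hθdef ▸ q8_secInd_eq h hconj hd hμ2 hμ x
  have hθ1 : Cfsg.classInner θ (fun _ => (1 : ℂ)) = 1 := hθdef ▸ classInner_secInd_one hμ1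
  have hθn : Cfsg.classInner θ θ = 4 := hθdef ▸ (hd.classInner_self hμ1).2 hμ2
  have hθsum : ∑ x : G, (if 4 ∣ orderOf x then (4 : ℂ) else 0) = (Nat.card G : ℂ) := by
    simp only [Cfsg.classInner, map_one, mul_one, hθv] at hθ1
    have h0 : (Nat.card G : ℂ) ≠ 0 := Char.card_ne_zero
    field_simp at hθ1
    linear_combination hθ1
  have ha4 : orderOf a = 4 := by rw [h.order]; norm_num
  -- the constituents of θ
  obtain ⟨S, s, hS, hsS, -, hsc, hexp⟩ := exists_signed_support hθg (n := 4) le_rfl hθ1
    (by simpa using hθn)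
  obtain ⟨χ₀, χ₁, χ₂, h01, h02, h12, rfl⟩ := Finset.card_eq_three.1 (show S.card = 3 by omega)
  set c : Fin 3 → Cfsg.IrrCharacter G := ![χ₀, χ₁, χ₂] with hc
  have hcS : ∀ i, c i ∈ ({χ₀, χ₁, χ₂} : Finset (Cfsg.IrrCharacter G)) := by
    intro i; fin_cases i <;> simp [hc]
  have hcinj : Function.Injective c := by
    intro i j hij
    fin_cases i <;> fin_cases j <;>
      first
        | rfl
        | exact absurd hij h01 | exact absurd hij.symm h01
        | exact absurd hij h02 | exact absurd hij.symm h02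
        | exact absurd hij h12 | exact absurd hij.symm h12
  -- real central sign
  have hzinv : ∀ i x, ((c i : Cfsg.IrrCharacter G) : G → ℂ) (z * x) = (c i : G → ℂ) x := by
    intro i
    obtain ⟨ω, hω, hωx⟩ := irr_mul_sign (c i) hz hz2
    rcases hω with rfl | rfl
    · intro x; rw [hωx, one_mul]
    · exfalso
      have h1 : Cfsg.classInner θ (c i : G → ℂ) = -Cfsg.classInner θ (c i : G → ℂ) := by
        simp only [Cfsg.classInner]
        rw [← mul_neg, ← Finset.sum_neg_distrib]
        congr 1
        refine Fintype.sum_equiv (Equiv.mulLeft z) _ _ fun x => ?_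
        simp only [Equiv.coe_mulLeft, hθv, hωx, map_mul, map_neg, map_one]
        by_cases h4 : 4 ∣ orderOf x
        · rw [if_pos h4, if_pos ((hsigns x).1.2 h4)]; ring
        · rw [if_neg h4, if_neg fun h' => h4 ((hsigns x).1.1 h')]; ring
      rw [hsc _ (hcS i)] at h1
      rcases (hsS _ (hcS i)).2 with e | e <;> rw [e] at h1 <;> norm_num at h1
  have hsreal : ∀ i, conj (s (c i)) = s (c i) := fun i => by
    rcases (hsS _ (hcS i)).2 with e | e <;> rw [e] <;> simp
  -- constancy on the section
  have hconst : ∀ i x, 4 ∣ orderOf x → (c i : G → ℂ) x = s (c i) := by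
    intro i
    rcases hfacts (c i) with hf | hf
    · have hall : ∀ x, 4 ∣ orderOf x → (c i : G → ℂ) x = (c i : G → ℂ) a := by
        intro x hx
        obtain ⟨d, hd'⟩ := q8_conj_centralizer h hconj hx
        rw [← Char.isClassFunction_of_isIrr (c i).2 x d]
        have hx' : 4 ∣ orderOf (d * x * d⁻¹) := by rwa [orderOf_conj]
        generalize d * x * d⁻¹ = y at hd' hx'
        obtain ⟨r, hr, hrodd, e | e⟩ := q8_centralizer_elt h hz hμ2 hμ
          (show Commute a y from (Subgroup.mem_centralizer_singleton_iff.1 hd').symm) hx'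
        · rw [e, hf r hr hrodd]
        · obtain ⟨w, hw, hwinv⟩ := q8_inverted h h.mem ha4
          rw [e, ← Char.isClassFunction_of_isIrr (c i).2 (a⁻¹ * r) w,
            show w * (a⁻¹ * r) * w⁻¹ = (w * a * w⁻¹)⁻¹ * (w * r * w⁻¹) by group, hwinv, inv_inv]
          refine hf _ ?_ (by rwa [orderOf_conj])
          have := ((Commute.conj_iff w).2 hr).inv_left
          rwa [hwinv, inv_inv] at this
      intro x hx
      have hval : Cfsg.classInner θ (c i : G → ℂ) = conj ((c i : G → ℂ) a) := by
        simp only [Cfsg.classInner]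
        rw [Finset.sum_congr rfl (g := fun x => conj ((c i : G → ℂ) a) *
          (if 4 ∣ orderOf x then (4 : ℂ) else 0)) fun x _ => ?_, ← Finset.mul_sum, hθsum,
          mul_left_comm, inv_mul_cancel₀ Char.card_ne_zero, mul_one]
        rw [hθv]
        split_ifs with hx'
        · rw [hall x hx']; ring
        · ring
      rw [hsc _ (hcS i)] at hval
      rw [hall x hx, ← hsreal i, hval, Complex.conj_conj]
    · intro x _
      exfalso
      have h1 := q8_secInd_orth h hz hμ2 hμ (c i) hf
      rw [← hθdef, hsc _ (hcS i)] at h1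
      rcases (hsS _ (hcS i)).2 with e | e <;> rw [e] at h1 <;> norm_num at h1
  -- the functions
  set A : Fin 3 → G → ℂ := fun i x => 1 + s (c i) * (c i : G → ℂ) x with hA
  set g : Fin 3 → G → ℂ := fun i x =>
    if 4 ∣ orderOf x then 2 else if Odd (orderOf x) then 0 else 2 * A i x with hg
  have hsq : ∀ i, s (c i) * s (c i) = 1 := fun i => by
    rcases (hsS _ (hcS i)).2 with e | e <;> rw [e] <;> simp
  have hA4 : ∀ i x, 4 ∣ orderOf x → A i x = 2 := fun i x hx => by
    simp only [hA, hconst i x hx, hsq]; norm_num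
  have hAz : ∀ i x, A i (z * x) = A i x := fun i x => by simp only [hA, hzinv]
  have hgz : ∀ i x, g i (z * x) =
      if 4 ∣ orderOf x then 2 else if Odd (orderOf x) then 2 * A i x else 0 := by
    intro i x
    simp only [hg, hAz]
    by_cases h4 : 4 ∣ orderOf x
    · rw [if_pos h4, if_pos ((hsigns x).1.2 h4)]
    · rw [if_neg h4, if_neg fun h' => h4 ((hsigns x).1.1 h')]
      by_cases h1 : Odd (orderOf x)
      · rw [if_pos h1, if_neg fun h' => ((hsigns x).2 h4).1 h' h1]
      · rw [if_neg h1, if_pos (((hsigns x).2 h4).2 h1)]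
  have hdouble : ∀ f : G → ℂ, 2 * ∑ x, f x = ∑ x, (f x + f (z * x)) := fun f => by
    rw [Finset.sum_add_distrib, two_mul]
    congr 1
    exact (Equiv.sum_comp (Equiv.mulLeft z) f).symm
  have hAg : ∀ i, Cfsg.IsGeneralizedCharacter G (A i) := fun i => by
    obtain ⟨t, ht⟩ : ∃ t : ℤ, s (c i) = t := by
      rcases (hsS _ (hcS i)).2 with e | e <;> rw [e]
      exacts [⟨1, by simp⟩, ⟨-1, by simp⟩]
    have := Char.isGeneralized_add
      (Char.isGeneralized_of_isCharacter (Char.isCharacter_one (G := G)))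
      (Char.isGeneralized_intCast_smul t
        (Char.isGeneralized_of_isCharacter (Char.IsIrr.isCharacter (c i).2)))
    rw [← ht] at this
    exact this
  have hcl : ∀ i, Cfsg.IsClassFunction G (g i) := fun i x k => by
    simp only [hg, hA, orderOf_conj, Char.isClassFunction_of_isIrr (c i).2 x k]
  have hAone : ∀ i, Cfsg.classInner (A i) (fun _ => (1 : ℂ)) = 1 := fun i => by
    rw [show A i = (fun _ => (1 : ℂ)) + s (c i) • (c i : G → ℂ) from rfl, Char.classInner_add_left,
      Char.classInner_smul_left, Char.classInner_irr_self Char.isIrrCharacter_one,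
      Char.classInner_irr_ne (c i).2 Char.isIrrCharacter_one (hsS _ (hcS i)).1, mul_zero, add_zero]
  have hAA : ∀ i j, Cfsg.classInner (A i) (A j) = if i = j then 2 else 1 := fun i j => by
    rw [show A i = (fun _ => (1 : ℂ)) + s (c i) • (c i : G → ℂ) from rfl,
      show A j = (fun _ => (1 : ℂ)) + s (c j) • (c j : G → ℂ) from rfl]
    simp only [Char.classInner_add_left, Char.classInner_add_right, Char.classInner_smul_left,
      Char.classInner_smul_right, Char.classInner_irr_self Char.isIrrCharacter_one,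
      Char.classInner_irr_ne (c i).2 Char.isIrrCharacter_one (hsS _ (hcS i)).1,
      Char.classInner_irr_ne Char.isIrrCharacter_one (c j).2 (hsS _ (hcS j)).1.symm,
      Char.classInner_irrChar, hcinj.eq_iff, hsreal]
    split_ifs with e
    · subst e; simp only [mul_zero, add_zero, mul_one, zero_add, hsq]; norm_num
    · simp
  have hwith : ∀ i (χ : Cfsg.IrrCharacter G) (ω : ℂ),
      (∀ x, (χ : G → ℂ) (z * x) = ω * (χ : G → ℂ) x) →
      2 * ∑ x, g i x * conj ((χ : G → ℂ) x) =
        ∑ x, (g i x + conj ω * g i (z * x)) * conj ((χ : G → ℂ) x) := by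
    intro i χ ω hω
    rw [hdouble]
    exact Finset.sum_congr rfl fun x _ => by rw [hω, map_mul]; ring
  have hsum2 : ∀ i x, g i x + g i (z * x) = 2 * A i x := fun i x => by
    rw [hgz]
    simp only [hg]
    split_ifs with h4 h1
    · rw [hA4 i x h4]; norm_num
    · ring
    · ring
  have hg1 : ∀ i, Cfsg.classInner (g i) (fun _ => (1 : ℂ)) = 1 := fun i => by
    have h2 := hwith i ⟨_, Char.isIrrCharacter_one⟩ 1 (fun x => by simp)
    simp only [map_one, one_mul, mul_one, hsum2, ← Finset.mul_sum] at h2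
    refine Eq.trans ?_ (hAone i)
    rw [Cfsg.classInner, Cfsg.classInner]
    simp only [map_one, mul_one]
    rw [mul_left_cancel₀ two_ne_zero h2]
  refine ⟨g, fun i => Char.isGeneralized_iff.2 ⟨hcl i, fun χ => ?_⟩, fun i j => ?_, hg1,
    fun i x hx => ?_, fun i x hx => ?_, ?_, hθsum⟩
  · obtain ⟨ω, hω, hωx⟩ := irr_mul_sign χ hz hz2
    have h2 := hwith i χ ω hωx
    rcases hω with rfl | rfl
    · obtain ⟨k, hk⟩ := Char.classInner_generalized_int (hAg i)
        (Char.isGeneralized_of_isCharacter (Char.IsIrr.isCharacter χ.2))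
      refine ⟨k, ?_⟩
      rw [← hk, Cfsg.classInner, Cfsg.classInner]
      congr 1
      refine mul_left_cancel₀ (two_ne_zero (α := ℂ)) ?_
      simp only [map_one, one_mul, hsum2] at h2
      rw [h2, Finset.mul_sum]
      exact Finset.sum_congr rfl fun x _ => by ring
    · obtain ⟨n, hn⟩ := q8_odd_sum_int h hz (c i) (hsS _ (hcS i)).2 (hzinv i) (hconst i)
        (Char.isCharacter_conj (Char.IsIrr.isCharacter χ.2)) (fun x => by
          show conj ((χ : G → ℂ) (a * a * x)) = -conj ((χ : G → ℂ) x)
          rw [← hzdef, hωx]; simp)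
      refine ⟨-n, ?_⟩
      push_cast
      rw [← hn, Cfsg.classInner]
      -- odd elements and their translates
      have e : ∀ x, (g i x + conj (-1 : ℂ) * g i (z * x)) * conj ((χ : G → ℂ) x) =
          (if Odd (orderOf x) then -2 * (A i x * conj ((χ : G → ℂ) x)) else 0) +
          (if Odd (orderOf (z * x)) then -2 * (A i (z * x) * conj ((χ : G → ℂ) (z * x))) else 0) := by
        intro x
        rw [hgz, hωx]
        simp only [hg, map_neg, map_one, map_mul, hAz]
        by_cases h4 : 4 ∣ orderOf x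
        · have hne : ∀ y : G, 4 ∣ orderOf y → ¬ Odd (orderOf y) :=
            fun y hy h1 => h1.not_two_dvd_nat (dvd_trans (by norm_num) hy)
          rw [if_pos h4, if_pos h4, if_neg (hne x h4), if_neg (hne _ ((hsigns x).1.2 h4))]
          ring
        · rw [if_neg h4, if_neg h4]
          by_cases h1 : Odd (orderOf x)
          · rw [if_pos h1, if_pos h1, if_pos h1, if_neg fun h' => ((hsigns x).2 h4).1 h' h1]
            ring
          · rw [if_neg h1, if_neg h1, if_neg h1, if_pos (((hsigns x).2 h4).2 h1)]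
            ring
      rw [Finset.sum_congr rfl fun x _ => e x, Finset.sum_add_distrib] at h2
      rw [show (∑ x, if Odd (orderOf (z * x)) then -2 * (A i (z * x) * conj ((χ : G → ℂ) (z * x)))
        else 0) = ∑ x, if Odd (orderOf x) then -2 * (A i x * conj ((χ : G → ℂ) x)) else 0 from
        Equiv.sum_comp (Equiv.mulLeft z)
          (fun x => if Odd (orderOf x) then -2 * (A i x * conj ((χ : G → ℂ) x)) else 0),
        ← Finset.sum_filter, ← Finset.mul_sum] at h2
      have h3 : ∑ x, g i x * conj ((χ : G → ℂ) x) =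
          -2 * ∑ x ∈ Finset.univ.filter (fun x : G => Odd (orderOf x)),
            A i x * conj ((χ : G → ℂ) x) := by
        refine mul_left_cancel₀ (two_ne_zero (α := ℂ)) ?_
        rw [h2]; ring
      rw [h3]
      simp only [hA]
      ring
  · have e : ∀ x, g i x * conj (g j x) + g i (z * x) * conj (g j (z * x)) =
        4 * (A i x * conj (A j x)) - 2 * (if 4 ∣ orderOf x then (4 : ℂ) else 0) := by
      intro x
      rw [hgz, hgz]
      simp only [hg]
      split_ifs with h4 h1
      · rw [hA4 i x h4, hA4 j x h4]; norm_num [map_ofNat]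
      · simp only [map_zero, map_mul, map_ofNat]; ring
      · simp only [map_zero, map_mul, map_ofNat]; ring
    have h2 : 2 * ∑ x, g i x * conj (g j x) =
        4 * (∑ x, A i x * conj (A j x)) - 2 * (Nat.card G : ℂ) := by
      rw [hdouble, Finset.sum_congr rfl fun x _ => e x, Finset.sum_sub_distrib, ← Finset.mul_sum,
        ← Finset.mul_sum, hθsum]
    have h3 : Cfsg.classInner (g i) (g j) = 2 * Cfsg.classInner (A i) (A j) - 1 := by
      rw [Cfsg.classInner, Cfsg.classInner]
      have h0 : (Nat.card G : ℂ) ≠ 0 := Char.card_ne_zero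
      field_simp
      linear_combination h2 / 2
    rw [h3, hAA]
    split_ifs <;> norm_num
  · simp only [hg]
    rw [if_neg fun h4 => hx.not_two_dvd_nat (dvd_trans (by norm_num) h4), if_pos hx]
  · simp only [hg, if_pos hx]
  · have h1 : ∀ i, g i z = 2 * A i 1 := fun i => by
      simp only [hg]
      rw [if_neg (by rw [hz2]; norm_num), if_neg (by rw [hz2]; decide)]
      rw [show A i z = A i (z * 1) by rw [mul_one], hAz]
    have h0 := apply_eq_sum (Char.IsGen.isClassFunction hθg) (1 : G)
    rw [hexp fun χ => (χ : G → ℂ) 1, hθv, if_neg (by simp), Finset.sum_insert (by simp [h01, h02]),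
      Finset.sum_pair h12] at h0
    simp only [h1, hA, Fin.sum_univ_three, hc, Matrix.cons_val_zero, Matrix.cons_val_one,
      Matrix.cons_val]
    linear_combination 2 * h0

end Cfsg.Agent.Invol
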