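import Cfsg.Agent.Invol.Count
import Mathlib.GroupTheory.QuotientGroup.Basic
import Mathlib.GroupTheory.GroupAction.Quotient
import Mathlib.GroupTheory.SpecificGroups.Alternating.Simple
import Mathlib.GroupTheory.Solvable
import Mathlib.GroupTheory.Sylow
import Mathlib.GroupTheory.Transfer
import Cfsg.Agent.S0219

/-!
Brauer–Fowler counting.
-/

set_option autoImplicit false

namespace Cfsg.Agent.Invol

variable {G : Type*} [Group G]

/-- The subgroup of elements sending `x` to `x` or `x⁻¹`. -/
def extCentralizer (x : G) : Subgroup G where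
  carrier := {g | g * x * g⁻¹ = x ∨ g * x * g⁻¹ = x⁻¹}
  one_mem' := by simp
  mul_mem' := by
    intro a b ha hb
    show a * b * x * (a * b)⁻¹ = x ∨ a * b * x * (a * b)⁻¹ = x⁻¹
    have e : a * b * x * (a * b)⁻¹ = a * (b * x * b⁻¹) * a⁻¹ := by group
    rw [e]
    rcases hb with hb | hb <;> rw [hb]
    · exact ha
    · rw [← conj_inv]
      rcases ha with ha | ha <;> rw [ha]
      · exact Or.inr rfl
      · exact Or.inl (inv_inv x)
  inv_mem' := by
    intro a ha
    show a⁻¹ * x * a⁻¹⁻¹ = x ∨ a⁻¹ * x * a⁻¹⁻¹ = x⁻¹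
    rcases ha with ha | ha
    · left
      nth_rw 1 [← ha]
      group
    · right
      calc a⁻¹ * x * a⁻¹⁻¹ = a⁻¹ * (x⁻¹)⁻¹ * a := by rw [inv_inv, inv_inv]
        _ = a⁻¹ * (a * x * a⁻¹)⁻¹ * a := by rw [ha]
        _ = x⁻¹ := by group

theorem mem_extCentralizer {x g : G} :
    g ∈ extCentralizer x ↔ g * x * g⁻¹ = x ∨ g * x * g⁻¹ = x⁻¹ := Iff.rfl

theorem index_eq_two_of_card_mul [Finite G] {H : Subgroup G} (h : 2 * Nat.card H = Nat.card G) :
    H.index = 2 := by
  have h1 := H.card_mul_index
  rw [← h, mul_comm 2] at h1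
  exact Nat.eq_of_mul_eq_mul_left Nat.card_pos h1

theorem centralizer_ne_top {x : G} (hx : x ∉ Subgroup.center G) :
    Subgroup.centralizer ({x} : Set G) ≠ ⊤ := fun h => hx (Subgroup.mem_center_iff.2 fun g =>
  Subgroup.mem_centralizer_singleton_iff.1 (h ▸ Subgroup.mem_top g))

theorem notMem_center_of_involution [Finite G] (hZ : Odd (Nat.card (Subgroup.center G))) {x : G}
    (hx : orderOf x = 2) : x ∉ Subgroup.center G := fun hc => by
  have hd := (Subgroup.orderOf_mk x hc).symm.dvd.trans (orderOf_dvd_natCard _)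
  rw [hx] at hd
  exact (Nat.not_even_iff_odd.2 hZ) (even_iff_two_dvd.2 hd)

/-- Brauer–Fowler: with `n` involutions, odd centre, no subgroup of index two and all proper
subgroups of order at most `M`, one has `2n² < (|G| + n)M`. -/
theorem brauerFowler_bound [Finite G] (heven : Even (Nat.card G))
    (hZ : Odd (Nat.card (Subgroup.center G))) (hno : ∀ H : Subgroup G, H.index ≠ 2) (M : ℕ)
    (hM : ∀ H : Subgroup G, H ≠ ⊤ → Nat.card H ≤ M) :
    0 < Nat.card {t : G // orderOf t = 2} ∧
      2 * Nat.card {t : G // orderOf t = 2} ^ 2 <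
        (Nat.card G + Nat.card {t : G // orderOf t = 2}) * M := by
  classical
  have := Fintype.ofFinite G
  have : Fact (Nat.Prime 2) := ⟨Nat.prime_two⟩
  obtain ⟨t, ht⟩ := exists_prime_orderOf_dvd_card' (G := G) 2 (even_iff_two_dvd.1 heven)
  set n := Nat.card {t : G // orderOf t = 2} with hn
  have hn0 : 0 < n := by
    have : Nonempty {t : G // orderOf t = 2} := ⟨⟨t, ht⟩⟩
    exact Nat.card_pos
  have hG1 : (⊥ : Subgroup G) ≠ ⊤ := by
    intro h
    have ht' : t ∈ (⊥ : Subgroup G) := h ▸ Subgroup.mem_top t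
    exact ne_one ht (Subgroup.mem_bot.1 ht')
  have hM1 : 1 ≤ M := le_trans Nat.card_pos (hM ⊥ hG1)
  let S : Finset G := Finset.univ.filter fun u => orderOf u = 2
  have hS : S.card = n := by rw [hn, Nat.card_eq_fintype_card, Fintype.card_subtype]
  have hSmem : ∀ u, u ∈ S ↔ orderOf u = 2 := fun u => by simp [S]
  let Pf : G → Finset (G × G) := fun x => (S ×ˢ S).filter fun p => p.1 * p.2 = x
  have hsum : n * n = ∑ x : G, (Pf x).card := by
    rw [← hS, ← Finset.card_product,
      Finset.card_eq_sum_card_fiberwise (f := fun p => p.1 * p.2) (fun p _ => Finset.mem_univ _)]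
  have hc1 : (Pf 1).card ≤ n := by
    rw [← hS]
    refine Finset.card_le_card_of_injOn Prod.fst (fun p hp => ?_) ?_
    · simp only [Pf, Finset.mem_coe, Finset.mem_filter, Finset.mem_product] at hp ⊢
      exact hp.1.1
    · intro p hp q hq hpq
      simp only [Pf, Finset.mem_coe, Finset.mem_filter, Finset.mem_product] at hp hq
      exact Prod.ext hpq (mul_left_cancel (a := p.1) (by rw [hp.2]; rw [hpq, hq.2]))
  have hinv : ∀ x ∈ S, (Pf x).card + 2 ≤ M := by
    intro x hx
    rw [hSmem] at hx
    set C := Subgroup.centralizer ({x} : Set G)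
    let Cf : Finset G := Finset.univ.filter fun v => v ∈ C
    have hCf : Cf.card ≤ M := by
      refine le_trans (le_of_eq ?_) (hM C (centralizer_ne_top (notMem_center_of_involution hZ hx)))
      exact (Fintype.card_subtype _).symm.trans (Nat.card_eq_fintype_card (α := C)).symm
    have hxC : x ∈ C := Subgroup.mem_centralizer_singleton_iff.2 rfl
    have hsub : (Pf x).image Prod.fst ⊆ (Cf.erase 1).erase x := by
      intro u hu
      obtain ⟨⟨a, b⟩, hp, rfl⟩ := Finset.mem_image.1 hu
      simp only [Pf, Finset.mem_filter, Finset.mem_product, hSmem] at hp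
      obtain ⟨⟨ha, hb⟩, rfl⟩ := hp
      refine Finset.mem_erase.2 ⟨fun h => ne_one hb (mul_eq_left.1 h.symm),
        Finset.mem_erase.2 ⟨ne_one ha, ?_⟩⟩
      simp only [Cf, Finset.mem_filter, Finset.mem_univ, true_and, C,
        Subgroup.mem_centralizer_singleton_iff]
      have h := conj_mul_self ha hb
      rw [inv_eq_self hx] at h
      exact mul_inv_eq_iff_eq_mul.1 h
    have hinj : Set.InjOn Prod.fst ((Pf x : Finset (G × G)) : Set (G × G)) := by
      intro p hp q hq hpq
      simp only [Pf, Finset.mem_coe, Finset.mem_filter] at hp hq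
      exact Prod.ext hpq (mul_left_cancel (a := p.1) (by rw [hp.2, hpq, hq.2]))
    have h1 := Finset.card_le_card hsub
    rw [Finset.card_image_of_injOn hinj, Finset.card_erase_of_mem (Finset.mem_erase.2
        ⟨ne_one hx, by simp [Cf, hxC]⟩), Finset.card_erase_of_mem (by simp [Cf])] at h1
    have h2 : 1 < Cf.card := Finset.one_lt_card.2 ⟨x, by simp [Cf, hxC], 1, by simp [Cf], ne_one hx⟩
    omega
  have hother : ∀ x, x ≠ 1 → x ∉ S → 2 * (Pf x).card ≤ M := by
    intro x hx1 hxS
    rw [hSmem] at hxS
    by_cases hne : (Pf x).Nonempty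
    swap
    · simp [Finset.not_nonempty_iff_eq_empty.1 hne]
    obtain ⟨⟨a, b⟩, hab⟩ := hne
    simp only [Pf, Finset.mem_filter, Finset.mem_product, hSmem] at hab
    obtain ⟨⟨ha, hb⟩, rfl⟩ := hab
    have hxx : a * b ≠ (a * b)⁻¹ := fun h =>
      hxS (orderOf_eq_two_iff.2 ⟨hx1, mul_eq_one_iff_eq_inv.2 h⟩)
    have hax := conj_mul_self ha hb
    set C := Subgroup.centralizer ({a * b} : Set G)
    set E := extCentralizer (a * b)
    let Cf : Finset G := Finset.univ.filter fun v => v ∈ C
    let Ef : Finset G := Finset.univ.filter fun v => v ∈ E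
    have hCmem : ∀ v, v ∈ C ↔ v * (a * b) * v⁻¹ = a * b := fun v => by
      rw [Subgroup.mem_centralizer_singleton_iff, mul_inv_eq_iff_eq_mul]
    let If : Finset G := Finset.univ.filter fun v => v * (a * b) * v⁻¹ = (a * b)⁻¹
    have hEf : Ef.card = Cf.card + If.card := by
      rw [← Finset.card_union_of_disjoint]
      · congr 1
        ext v
        simp [Ef, Cf, If, E, hCmem, mem_extCentralizer]
      · refine Finset.disjoint_left.2 fun v hv hv' => hxx ?_
        simp only [Cf, If, Finset.mem_filter, Finset.mem_univ, true_and, hCmem] at hv hv'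
        exact hv.symm.trans hv'
    have hIC : If.card = Cf.card := by
      refine Finset.card_bij' (fun v _ => a⁻¹ * v) (fun v _ => a * v) ?_ ?_ ?_ ?_
      · intro v hv
        simp only [If, Cf, Finset.mem_filter, Finset.mem_univ, true_and, hCmem] at hv ⊢
        calc a⁻¹ * v * (a * b) * (a⁻¹ * v)⁻¹ = a⁻¹ * (v * (a * b) * v⁻¹) * a := by group
          _ = a⁻¹ * (a * (a * b) * a⁻¹) * a := by rw [hv, hax]
          _ = a * b := by group
      · intro v hv
        simp only [If, Cf, Finset.mem_filter, Finset.mem_univ, true_and, hCmem] at hv ⊢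
        calc a * v * (a * b) * (a * v)⁻¹ = a * (v * (a * b) * v⁻¹) * a⁻¹ := by group
          _ = (a * b)⁻¹ := by rw [hv, hax]
      · intro v _; simp
      · intro v _; simp
    have hPle : (Pf (a * b)).card ≤ If.card := by
      refine Finset.card_le_card_of_injOn Prod.fst (fun p hp => ?_) ?_
      · simp only [Pf, If, Finset.mem_coe, Finset.mem_filter, Finset.mem_product, Finset.mem_univ,
          true_and, hSmem] at hp ⊢
        rw [← hp.2]
        exact conj_mul_self hp.1.1 hp.1.2
      · intro p hp q hq hpq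
        simp only [Pf, Finset.mem_coe, Finset.mem_filter] at hp hq
        exact Prod.ext hpq (mul_left_cancel (a := p.1) (by rw [hp.2, hpq, hq.2]))
    have hEc : Ef.card = Nat.card E := by
      exact ((Nat.card_eq_fintype_card (α := E)).trans (Fintype.card_subtype _)).symm
    have hEtop : E ≠ ⊤ := by
      intro htop
      apply hno C
      apply index_eq_two_of_card_mul
      have hCc : Cf.card = Nat.card C :=
        ((Nat.card_eq_fintype_card (α := C)).trans (Fintype.card_subtype _)).symm
      have hEt : Nat.card E = Nat.card G := by rw [htop, Subgroup.card_top]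
      omega
    have := hM E hEtop
    omega
  have key : ∑ x : G, 2 * (Pf x).card ≤ 2 * n + (n * (2 * M) - 4 * n) + (Fintype.card G - 1 - n) * M := by
    rw [← Finset.add_sum_erase _ _ (Finset.mem_univ (1 : G)), add_assoc]
    refine Nat.add_le_add (by omega) ?_
    have hsub : S ⊆ Finset.univ.erase (1 : G) := fun u hu =>
      Finset.mem_erase.2 ⟨ne_one ((hSmem u).1 hu), Finset.mem_univ _⟩
    rw [← Finset.sum_sdiff hsub, add_comm]
    refine Nat.add_le_add ?_ ?_
    · have h := Finset.sum_le_card_nsmul S (fun x => 2 * (Pf x).card) (2 * M - 4) (fun x hx => by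
        have := hinv x hx; omega)
      rw [smul_eq_mul, hS, Nat.mul_sub, mul_comm n 4] at h
      exact h
    · have h := Finset.sum_le_card_nsmul (Finset.univ.erase (1 : G) \ S) (fun x => 2 * (Pf x).card) M
        (fun x hx => by
          rw [Finset.mem_sdiff, Finset.mem_erase] at hx
          exact hother x hx.1.1 hx.2)
      rw [smul_eq_mul, Finset.card_sdiff_of_subset hsub, Finset.card_erase_of_mem (Finset.mem_univ _),
        Finset.card_univ, hS] at h
      exact h
  rw [← Finset.mul_sum, ← hsum] at key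
  refine ⟨hn0, ?_⟩
  rw [pow_two, Nat.card_eq_fintype_card]
  have hnG : n + 1 ≤ Fintype.card G := by
    rw [← hS, ← Finset.card_univ]
    have h : (insert (1 : G) S).card ≤ (Finset.univ : Finset G).card := Finset.card_le_univ _
    rwa [Finset.card_insert_of_notMem (by simp [hSmem])] at h
  obtain ⟨r, hr⟩ : ∃ r, Fintype.card G = n + 1 + r := ⟨Fintype.card G - (n + 1), by omega⟩
  rw [hr, show n + 1 + r - 1 - n = r by omega] at key
  rw [hr]
  obtain ⟨t', ht'⟩ : ∃ u, u ∈ S := ⟨t, (hSmem t).2 ht⟩
  have hM2 : 2 ≤ M := le_trans (by omega) (hinv t' ht')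
  have : n * (2 * M) - 4 * n = 2 * (n * M) - 4 * n := by ring_nf
  rw [this] at key
  have h4 : 4 * n ≤ 2 * (n * M) := by
    have := Nat.mul_le_mul_left n hM2; linarith
  have e : (n + 1 + r + n) * M = 2 * (n * M) + r * M + M := by ring
  rw [e]
  omega

/-- Every group of even order greater than two has a proper subgroup `H` with `|G| < |H|³`. -/
theorem exists_large_subgroup [Finite G] (heven : Even (Nat.card G)) (hgt : 2 < Nat.card G) :
    ∃ H : Subgroup G, H ≠ ⊤ ∧ Nat.card G < Nat.card H ^ 3 := by
  induction hn : Nat.card G using Nat.strong_induction_on generalizing G with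
  | _ N ih =>
  subst hn
  by_cases hidx : ∃ H : Subgroup G, H.index = 2
  · obtain ⟨H, hH⟩ := hidx
    refine ⟨H, fun h => by rw [h, Subgroup.index_top] at hH; omega, ?_⟩
    have h := H.card_mul_index
    rw [hH] at h
    have hh : 2 ≤ Nat.card H := by omega
    have h1 : 4 ≤ Nat.card H ^ 2 := by nlinarith
    have h2 : 4 * Nat.card H ≤ Nat.card H ^ 3 := by nlinarith
    omega
  push Not at hidx
  by_cases hZ : Odd (Nat.card (Subgroup.center G))
  · obtain ⟨H, hHtop, hmax⟩ : ∃ H : Subgroup G, H ≠ ⊤ ∧ ∀ K : Subgroup G, K ≠ ⊤ → Nat.card K ≤ Nat.card H := by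
      have hne : (⊥ : Subgroup G) ≠ ⊤ := by
        intro h
        have := Subgroup.card_bot (G := G)
        rw [h, Subgroup.card_top] at this
        omega
      have : Nonempty {H : Subgroup G // H ≠ ⊤} := ⟨⟨⊥, hne⟩⟩
      obtain ⟨⟨H, hH⟩, hmax⟩ := Finite.exists_max (fun H : {H : Subgroup G // H ≠ ⊤} => Nat.card H.1)
      exact ⟨H, hH, fun K hK => hmax ⟨K, hK⟩⟩
    refine ⟨H, hHtop, ?_⟩
    by_contra hcon
    push Not at hcon
    obtain ⟨hn0, hbound⟩ := brauerFowler_bound heven hZ hidx _ hmax
    set n := Nat.card {t : G // orderOf t = 2}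
    set M := Nat.card H
    have : Fact (Nat.Prime 2) := ⟨Nat.prime_two⟩
    obtain ⟨t, ht⟩ := exists_prime_orderOf_dvd_card' (G := G) 2 (even_iff_two_dvd.1 heven)
    have hle : Nat.card G ≤ n * M := by
      rw [← card_isConj_mul_card_centralizer t]
      refine Nat.mul_le_mul (Nat.card_le_card_of_injective
        (fun u => (⟨u.1, orderOf_eq_two_of_isConj u.2 ht⟩ : {v : G // orderOf v = 2})) ?_) ?_
      · exact fun u v h => Subtype.ext (congrArg (fun w : {v : G // orderOf v = 2} => w.1) h)
      · exact hmax _ (centralizer_ne_top (notMem_center_of_involution hZ ht))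
    have hM0 : 0 < M := Nat.card_pos
    have hnM : M ^ 2 ≤ n := by
      have h3 : M ^ 2 * M = M ^ 3 := by ring
      have : M ^ 2 * M ≤ n * M := by omega
      exact Nat.le_of_mul_le_mul_right this hM0
    nlinarith [Nat.mul_le_mul_left M hle, Nat.mul_le_mul_left n hnM]
  · have : Fact (Nat.Prime 2) := ⟨Nat.prime_two⟩
    rw [Nat.not_odd_iff_even, even_iff_two_dvd] at hZ
    obtain ⟨z, hz⟩ := exists_prime_orderOf_dvd_card' 2 hZ
    rw [← Subgroup.orderOf_coe] at hz
    set K := Subgroup.zpowers (z : G)
    have hKn : K.Normal := ⟨fun w hw g => by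
      have hc : w ∈ Subgroup.center G := (Subgroup.zpowers_le.2 z.2) hw
      rw [Subgroup.mem_center_iff.1 hc g, mul_inv_cancel_right]
      exact hw⟩
    have hKc : Nat.card K = 2 := by rw [Nat.card_zpowers, hz]
    have hcard := K.card_mul_index
    rw [hKc] at hcard
    by_cases h4 : Nat.card G = 4
    · refine ⟨K, fun h => ?_, by rw [hKc, h4]; norm_num⟩
      rw [h, Subgroup.card_top] at hKc; omega
    have hq : Nat.card (G ⧸ K) = K.index := rfl
    have hqeven : Even K.index := by
      by_contra hodd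
      have h2 : ¬ 2 ∣ K.index := fun h => hodd (even_iff_two_dvd.2 h)
      let T : Sylow 2 G := Sylow.ofCard K (by
        rw [hKc, ← hcard, Nat.factorization_mul (by norm_num) (Subgroup.index_ne_zero_of_finite),
          Finsupp.add_apply, Nat.factorization_eq_zero_of_not_dvd h2,
          Nat.Prime.factorization_self Nat.prime_two]
        norm_num)
      have hT : IsCyclic (T : Subgroup G) := (inferInstance : IsCyclic (Subgroup.zpowers (z : G)))
      obtain ⟨H, hH⟩ := Cfsg.Agent.S0219.result heven T hT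
      exact hidx H hH
    have hidx2 : 2 < K.index := by
      obtain ⟨m, hm⟩ := hqeven
      omega
    obtain ⟨Hb, hHb, hlt⟩ := ih (Nat.card (G ⧸ K)) (by rw [hq]; omega) (G := G ⧸ K)
      (by rw [hq]; exact hqeven) (by rw [hq]; exact hidx2) rfl
    refine ⟨Hb.comap (QuotientGroup.mk' K), fun h => hHb ?_, ?_⟩
    · rw [← Subgroup.map_comap_eq_self_of_surjective (QuotientGroup.mk'_surjective K) Hb, h,
        Subgroup.map_top_of_surjective _ (QuotientGroup.mk'_surjective K)]
    · have h1 := (Hb.comap (QuotientGroup.mk' K)).card_mul_index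
      rw [Subgroup.index_comap_of_surjective _ (QuotientGroup.mk'_surjective K)] at h1
      have h2 := Hb.card_mul_index
      rw [hq] at hlt h2
      have hcc : Nat.card (Hb.comap (QuotientGroup.mk' K)) = 2 * Nat.card Hb := by
        refine Nat.eq_of_mul_eq_mul_right (Nat.pos_of_ne_zero (Subgroup.index_ne_zero_of_finite (H := Hb))) ?_
        rw [h1, mul_assoc, h2, hcard]
      rw [hcc, mul_pow]
      omega

end Cfsg.Agent.Invol
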