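import Cfsg.Agent.Invol.QDTables

/-!
Transport of generators along isomorphisms, and the centralizer of an involution in a group without
subgroups of index two whose Sylow 2-subgroups are quasi-dihedral or wreathed.
-/

set_option autoImplicit false

namespace Cfsg.Agent.Invol

open Subgroup

universe u

theorem WRGen.map {A B : Type u} [Group A] [Group B] {x y z : A} {n : ℕ} (hh : WRGen x y z n)
    (e : A ≃* B) : WRGen (e x) (e y) (e z) n := by
  refine ⟨hh.two_le, (e.orderOf_eq x).trans hh.ordx, by rw [← map_mul, hh.comm, map_mul], ?_,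
    (e.orderOf_eq z).trans hh.ordz, by rw [← map_inv, ← map_mul, ← map_mul, hh.rel],
    (Nat.card_congr e.toEquiv).symm.trans hh.card⟩
  rw [eq_bot_iff]
  rintro b ⟨h1, h2⟩
  obtain ⟨i, rfl⟩ := mem_zpowers_iff.1 h1
  obtain ⟨j, hj⟩ := mem_zpowers_iff.1 h2
  rw [← map_zpow, ← map_zpow] at hj
  have h3 : x ^ i ∈ zpowers x ⊓ zpowers y := ⟨⟨i, rfl⟩, ⟨j, e.injective hj⟩⟩
  rw [hh.disj, mem_bot] at h3
  rw [← map_zpow, h3, map_one]
  exact one_mem _

theorem WRGen.ww_map {A B : Type u} [Group A] [Group B] {x y : A} (n : ℕ) (e : A ≃* B)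
    (i j : ZMod (2 ^ n)) : ww (e x) (e y) n i j = e (ww x y n i j) := by
  simp [ww]

theorem QDGen.map {A B : Type u} [Group A] [Group B] {x y : A} {n : ℕ} (hh : QDGen x y n)
    (e : A ≃* B) : QDGen (e x) (e y) n :=
  ⟨hh.three_le, (e.orderOf_eq x).trans hh.ordx, (e.orderOf_eq y).trans hh.ordy,
    by rw [← map_inv, ← map_mul, ← map_mul, hh.rel, map_pow],
    (Nat.card_congr e.toEquiv).symm.trans hh.card⟩

theorem QDGen.qc_map {A B : Type u} [Group A] [Group B] {x : A} (n : ℕ) (e : A ≃* B)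
    (i : ZMod (2 ^ n)) : qc (e x) n i = e (qc x n i) := by
  simp [qc]

variable {G : Type u} [Group G] [Finite G] {S : Sylow 2 G}

/-- The isomorphism with a conjugate Sylow subgroup. -/
theorem sylow_smul_equiv (S : Sylow 2 G) (g : G) :
    ∃ e : (S : Subgroup G) ≃* ((g • S : Sylow 2 G) : Subgroup G),
      ∀ s : (S : Subgroup G), (e s : G) = g * (s : G) * g⁻¹ :=
  ⟨S.equivSMul g, fun _ => rfl⟩

theorem exists_index_two_of_two_power {K : Subgroup G} [K.Normal] {k : ℕ} (hk : 1 ≤ k)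
    (hK : K.index = 2 ^ k) : ∃ H : Subgroup G, H.index = 2 := by
  have : Fact (Nat.Prime 2) := ⟨Nat.prime_two⟩
  obtain ⟨H, hH⟩ := Sylow.exists_subgroup_card_pow_prime (G := G ⧸ K) 2 (n := k - 1)
    (by rw [show Nat.card (G ⧸ K) = 2 ^ k from hK]; exact pow_dvd_pow 2 (Nat.sub_le k 1))
  refine ⟨H.comap (QuotientGroup.mk' K), ?_⟩
  rw [Subgroup.index_comap_of_surjective H (QuotientGroup.mk'_surjective K)]
  have h := H.card_mul_index
  rw [hH, show Nat.card (G ⧸ K) = 2 ^ k from hK, show 2 ^ k = 2 ^ (k - 1) * 2 by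
    rw [← pow_succ]; congr 1; omega] at h
  exact Nat.eq_of_mul_eq_mul_left (Nat.two_pow_pos _) h

/-- The conclusion on the centralizer of an involution. -/
def CentralData (R : Type u) [Group R] [Finite R] (P : Sylow 2 R) : Prop :=
  (∃ K : Subgroup R, K.Normal ∧ (∃ a : ℕ, K.index = 2 ^ a) ∧ (∀ H : Subgroup ↥K, H.index ≠ 2) ∧
    (∀ Q : Sylow 2 ↥K, ∃ m : ℕ, 1 ≤ m ∧ Nonempty ((Q : Subgroup ↥K) ≃* QuaternionGroup (2 ^ m)))) ∧
  ∀ Z₀ : Subgroup R, Z₀ ≤ (center (P : Subgroup R)).map (P : Subgroup R).subtype →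
    Cfsg.IsWeaklyClosed Z₀ (P : Subgroup R)

namespace WRGen

variable {x y z : (S : Subgroup G)} {n : ℕ} (hh : WRGen x y z n)
include hh

theorem U6_V6_of_no_index_two (hG : ∀ H : Subgroup G, H.index ≠ 2) : hh.U6 ∧ hh.V6 := by
  have h6 : hh.U6 := hh.U2_or_U6.resolve_left fun h2 => by
    obtain ⟨K, hKn, hKi, -⟩ := hh.exists_kernel h2
    obtain ⟨H, hH⟩ := exists_index_two_of_two_power (le_trans one_le_two hh.two_le) hKi
    exact hG H hH
  refine ⟨h6, ?_⟩
  by_contra hV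
  obtain ⟨N, -, hN, -⟩ := hh.index_two_of_not_fused hV
  exact hG N hN

theorem exists_fusing_centralizing (h : hh.V6) :
    ∃ m : G, m * wu x y n (wh n) (wh n) * m⁻¹ = wu x y n (wh n) (wh n) ∧
      m * wu x y n 0 (wh n) * m⁻¹ = wo x y z n 0 0 := by
  obtain ⟨m, hm, hmo, hm'⟩ : ∃ m ∈ normalizer (hh.vG : Set G), ¬ 2 ∣ orderOf m ∧
      m ∉ normalizer (hh.cG : Set G) := by
    rcases hh.V_auto with ⟨h', -⟩ | ⟨-, h'⟩
    · rw [WRGen.V6, h'] at h; omega
    · exact h'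
  have hfix : ∀ a, m * wu x y n a a * m⁻¹ = wu x y n a a := fun a =>
    mul_inv_eq_iff_eq_mul.2 (hh.scalar_fixed hm hmo a)
  obtain ⟨b, f, hf, e | e⟩ := (mem_normalizer_iff.1 hm _).1
    (hh.u_mem_vG (i := 0) (j := wh n) (by rw [sub_zero, hh.two_h]))
  · refine absurd (mem_normalizer_of_forall ?_) hm'
    rintro _ ⟨a, e', he', rfl⟩
    rcases hh.two_mul_eq_zero he' with rfl | rfl
    · rw [add_zero, hfix]; exact hh.scalar_mem_cG a
    · rw [show wu x y n a (a + wh n) = wu x y n a a * wu x y n 0 (wh n) by rw [hh.u_mul_u, add_zero],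
        ← MulAut.conj_apply, map_mul, MulAut.conj_apply, MulAut.conj_apply, hfix, e]
      exact hh.cG.mul_mem (hh.scalar_mem_cG a) ⟨b, f, hf, rfl⟩
  · rcases hh.involution_cases (e ▸ wo_mem b (b + f))
      ((Cfsg.Agent.Invol.orderOf_conj m _).trans hh.u_0h_order) with h | h | h | ⟨i, h⟩
    · exact absurd (h.symm.trans e) (hh.u_ne_o _ _ _ _)
    · exact absurd (h.symm.trans e) (hh.u_ne_o _ _ _ _)
    · exact absurd (h.symm.trans e) (hh.u_ne_o _ _ _ _)
    · refine ⟨wu x y n (-i) 0 * m, ?_, ?_⟩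
      · calc wu x y n (-i) 0 * m * wu x y n (wh n) (wh n) * (wu x y n (-i) 0 * m)⁻¹
            = wu x y n (-i) 0 * (m * wu x y n (wh n) (wh n) * m⁻¹) * (wu x y n (-i) 0)⁻¹ := by group
          _ = wu x y n (wh n) (wh n) := by rw [hfix, hh.u_conj_u]
      · calc wu x y n (-i) 0 * m * wu x y n 0 (wh n) * (wu x y n (-i) 0 * m)⁻¹
            = wu x y n (-i) 0 * (m * wu x y n 0 (wh n) * m⁻¹) * (wu x y n (-i) 0)⁻¹ := by group
          _ = wo x y z n 0 0 := by rw [h, hh.u_conj_o]; congr 1 <;> ring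

theorem central_data (hG : ∀ H : Subgroup G, H.index ≠ 2) :
    ∃ R : Sylow 2 ↥(centralizer ({wu x y n (wh n) (wh n)} : Set G)),
      Nat.card R = Nat.card S ∧ CentralData _ R := by
  obtain ⟨-, h6⟩ := hh.U6_V6_of_no_index_two hG
  set z0 := wu x y n (wh n) (wh n) with hz0
  set C := centralizer ({z0} : Set G) with hC
  have hSC : (S : Subgroup G) ≤ C := fun s hs => mem_centralizer_singleton_iff.2 (hh.scalar_comm hs _)
  set R : Sylow 2 C := S.subtype hSC
  let e : (S : Subgroup G) ≃* (R : Subgroup C) := (subgroupOfEquivOfLe hSC).symm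
  have hR := hh.map e
  have hu : ∀ i j, ((wu (e x) (e y) n i j : C) : G) = wu x y n i j := fun i j => by
    show (((ww (e x) (e y) n i j : (R : Subgroup C)) : C) : G) = _
    rw [ww_map]; rfl
  have ho : ∀ i j, ((wo (e x) (e y) (e z) n i j : C) : G) = wo x y z n i j := fun i j => by
    show (((ww (e x) (e y) n i j * e z : (R : Subgroup C)) : C) : G) = _
    rw [ww_map, ← map_mul]; rfl
  have h2 : hR.U2 := by
    rcases hR.U_auto with ⟨h, -⟩ | ⟨-, m, -, -, hm⟩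
    · exact h
    · refine absurd (Subtype.ext ?_) hm
      simp only [Subgroup.coe_mul, Subgroup.coe_inv, hu]
      rw [← hz0, mem_centralizer_singleton_iff.1 m.2, mul_inv_cancel_right]
  have hV : hR.V6 := by
    obtain ⟨m, hmz, hm⟩ := hh.exists_fusing_centralizing h6
    refine hR.V6_of_fuses (hR.wu_mem_uG 0 (wh n)) (isConj_iff.2
      ⟨(⟨m, mem_centralizer_singleton_iff.2 (mul_inv_eq_iff_eq_mul.1 hmz)⟩ : C), Subtype.ext ?_⟩).symm
    simp only [Subgroup.coe_mul, Subgroup.coe_inv, hu, ho]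
    exact hm
  obtain ⟨⟨K, hKn, hKi, hKq, hK2⟩, hZ⟩ := hR.quaternion_case h2 hV
  exact ⟨R, (Nat.card_congr e.toEquiv).symm, ⟨K, hKn, ⟨n, hKi⟩, hK2, hKq⟩, hZ⟩

end WRGen

namespace QDGen

variable {x y : (S : Subgroup G)} {n : ℕ} (hh : QDGen x y n)
include hh

theorem T6_Q6_of_no_index_two (hG : ∀ H : Subgroup G, H.index ≠ 2) : hh.T6 ∧ hh.Q6 := by
  refine ⟨by_contra fun h => ?_, by_contra fun h => ?_⟩
  · obtain ⟨N, -, hN, -⟩ := hh.index_two_of_T2 h
    exact hG N hN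
  · obtain ⟨N, -, hN, -⟩ := hh.index_two_of_Q2 h
    exact hG N hN

theorem exists_fusing_centralizing (h : hh.Q6) :
    ∃ m : G, m * qu x n (qh n) * m⁻¹ = qu x n (qh n) ∧
      m * qu x n (qq n) * m⁻¹ = qv x y n 1 := by
  obtain ⟨m, hm, -, hm'⟩ : ∃ m ∈ normalizer (hh.qG : Set G), ¬ 2 ∣ orderOf m ∧
      m ∉ normalizer ((zpowers (qu x n (qq n)) : Subgroup G) : Set G) := by
    rcases hh.Q_auto with ⟨h', -⟩ | ⟨-, h'⟩
    · rw [QDGen.Q6, h'] at h; omega
    · exact h'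
  have hAQ : qu x n (qq n) ∈ hh.qG := ⟨qq n, by linear_combination 2 * hh.two_q + hh.two_h, Or.inl rfl⟩
  obtain ⟨i, hi, e | e⟩ := (mem_normalizer_iff.1 hm _).1 hAQ
  · exfalso
    refine hm' (mem_normalizer_of_map_eq' (eq_of_le_of_card_ge ?_ ?_))
    · rw [MonoidHom.map_zpowers]
      exact zpowers_le.2 (by
        show m * qu x n (qq n) * m⁻¹ ∈ _
        rw [e]; exact hh.qu_mem_zpowers_q hi)
    · rw [card_map_of_injective (MulAut.conj m).injective]
  obtain ⟨k, rfl⟩ : ∃ k, i = 2 * k := by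
    obtain ⟨m', hm'⟩ := hh.q_even'
    rcases hh.four_mul_eq_zero hi with rfl | rfl | rfl | rfl
    exacts [⟨0, (mul_zero _).symm⟩, ⟨qq n, hh.two_q.symm⟩, ⟨m', hm'⟩, ⟨-m', by rw [hm', mul_neg]⟩]
  set s := qu x n (-k * (1 + qq n)) with hs
  have hsz : ∀ v, m * v * m⁻¹ = v → s * v = v * s → s * m * v * (s * m)⁻¹ = v := fun v h1 h2 => by
    calc s * m * v * (s * m)⁻¹ = s * (m * v * m⁻¹) * s⁻¹ := by group
      _ = v := by rw [h1, h2, mul_inv_cancel_right]
  have hA2 : qu x n (qh n) = qu x n (qq n) * qu x n (qq n) := by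
    rw [hh.qu_mul_qu, ← two_mul, hh.two_q]
  refine ⟨s * m, hsz _ ?_ (hh.z_comm (qu_mem _)), ?_⟩
  · rw [hA2, ← MulAut.conj_apply, map_mul, MulAut.conj_apply, e, ← hA2, hh.qv_mul_qv]
    congr 1
    linear_combination k * hh.two_h
  · calc s * m * qu x n (qq n) * (s * m)⁻¹ = s * (m * qu x n (qq n) * m⁻¹) * s⁻¹ := by group
      _ = qv x y n 1 := by rw [e, hs, hh.qu_conj_qv, hh.solve]; congr 1; ring

theorem central_data (hG : ∀ H : Subgroup G, H.index ≠ 2) :
    ∃ R : Sylow 2 ↥(centralizer ({qu x n (qh n)} : Set G)),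
      Nat.card R = Nat.card S ∧ CentralData _ R := by
  obtain ⟨-, h6⟩ := hh.T6_Q6_of_no_index_two hG
  set z0 := qu x n (qh n) with hz0
  set C := centralizer ({z0} : Set G) with hC
  have hSC : (S : Subgroup G) ≤ C := fun s hs => mem_centralizer_singleton_iff.2 (hh.z_comm hs)
  set R : Sylow 2 C := S.subtype hSC
  let e : (S : Subgroup G) ≃* (R : Subgroup C) := (subgroupOfEquivOfLe hSC).symm
  have hR := hh.map e
  have hu : ∀ i, ((qu (e x) n i : C) : G) = qu x n i := fun i => by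
    show (((qc (e x) n i : (R : Subgroup C)) : C) : G) = _
    rw [qc_map]; rfl
  have hv : ∀ i, ((qv (e x) (e y) n i : C) : G) = qv x y n i := fun i => by
    show (((qc (e x) n i * e y : (R : Subgroup C)) : C) : G) = _
    rw [qc_map, ← map_mul]; rfl
  have hT : ¬ hR.T6 := fun h => by
    rcases hR.T_auto with ⟨h', -⟩ | ⟨-, m, -, -, hm⟩
    · rw [QDGen.T6, h'] at h; omega
    · refine hm (Subtype.ext ?_)
      simp only [Subgroup.coe_mul, Subgroup.coe_inv, hu]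
      rw [← hz0, mem_centralizer_singleton_iff.1 m.2, mul_inv_cancel_right]
  have hQ : hR.Q6 := by
    obtain ⟨m, hmz, hm⟩ := hh.exists_fusing_centralizing h6
    refine hR.Q6_of_fuses (isConj_iff.2
      ⟨(⟨m, mem_centralizer_singleton_iff.2 (mul_inv_eq_iff_eq_mul.1 hmz)⟩ : C), Subtype.ext ?_⟩).symm
    simp only [Subgroup.coe_mul, Subgroup.coe_inv, hu, hv]
    exact hm
  obtain ⟨K, hKn, hKi, hKq, hK2⟩ := hR.quaternion_case hT hQ
  exact ⟨R, (Nat.card_congr e.toEquiv).symm, ⟨K, hKn, ⟨1, hKi.trans (pow_one 2).symm⟩, hK2, hKq⟩,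
    fun Z₀ hZ => hR.center_weakly_closed hT Z₀ hZ⟩

end QDGen

end Cfsg.Agent.Invol
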