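import Cfsg.Agent.Invol.Automiser

/-!
The normalizer of a cyclic 2-subgroup centralized by a Sylow 2-subgroup centralizes it.
-/

set_option autoImplicit false

namespace Cfsg.Agent.Invol

open Subgroup

theorem normalizer_le_centralizer_of_cyclic {G : Type*} [Group G] [Finite G] (S : Sylow 2 G)
    {Z : Subgroup G} (hZ : IsPGroup 2 Z) (hcyc : IsCyclic Z)
    (hS : (S : Subgroup G) ≤ centralizer (Z : Set G)) :
    normalizer (Z : Set G) ≤ centralizer (Z : Set G) := by
  have : Fact (Nat.Prime 2) := ⟨Nat.prime_two⟩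
  rw [← relIndex_eq_one]
  by_contra hne
  obtain ⟨q, hq, hqd⟩ := Nat.exists_prime_and_dvd hne
  rcases eq_or_ne q 2 with rfl | hq2
  · exact (S.subtype (hS.trans (centralizer_le_normalizer _))).not_dvd_index
      (hqd.trans (index_dvd_of_le (comap_mono hS)))
  · have := Fact.mk hq
    let T : Sylow q (normalizer (Z : Set G)) := default
    refine T.not_dvd_index (hqd.trans (index_dvd_of_le fun t ht => ?_))
    obtain ⟨j, hj⟩ := IsPGroup.iff_orderOf.1 T.2 ⟨t, ht⟩
    rw [Subgroup.orderOf_mk, ← Subgroup.orderOf_coe] at hj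
    have ht2 : ¬ 2 ∣ orderOf (t : G) := fun h2 => by
      rw [hj] at h2
      exact hq2 ((Nat.prime_dvd_prime_iff_eq Nat.prime_two hq).1 (Nat.prime_two.dvd_of_dvd_pow h2)).symm
    exact mem_subgroupOf.2 (mem_centralizer_iff.2 fun v hv =>
      (odd_fix_cyclic ht2 hZ hcyc t.2 v hv).symm)

end Cfsg.Agent.Invol
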