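import Mathlib
import Cfsg.Agent.Coprime.Tools

/-!
# Coprime automorphisms centralizing an involution centralizer

If an automorphism `β` of prime order `r ∤ |G|` fixes `C(τ)` pointwise (`τ` an involution), its
fixed subgroup `F` contains a Sylow 2-subgroup, controls the conjugates of `τ` it contains, and
a count of the conjugates of `τ` over the cosets of `F` shows that the products of two
conjugates of `τ` lying in `F` lie in the normal core of `F`.
-/

namespace Cfsg.Agent.Invol.FixedCentralizer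

open Subgroup
open scoped Pointwise

theorem exists_fixed_mem {X : Type*} (f : Equiv.Perm X) {r : ℕ} [Fact r.Prime] (hf : f ^ r = 1)
    {s : Set X} [Finite s] (hs : Set.MapsTo f s s) (hcard : ¬ r ∣ Nat.card s) :
    ∃ x ∈ s, f x = x := by
  let g : Equiv.Perm s := Equiv.ofBijective _
    (Finite.injective_iff_bijective.1 (hs.restrict_inj.2 f.injective.injOn))
  have hg : g ^ r ^ 1 = 1 := by
    rw [pow_one]
    have key : ∀ n : ℕ, ∀ x : s, ((g ^ n) x : X) = (f ^ n) x := by
      intro n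
      induction n with
      | zero => intro x; simp
      | succ n ih =>
        intro x
        rw [pow_succ', pow_succ', Equiv.Perm.mul_apply, Equiv.Perm.mul_apply, ← ih]
        rfl
    ext x
    rw [key, hf]
    rfl
  have := Fintype.ofFinite s
  rw [Nat.card_eq_fintype_card] at hcard
  obtain ⟨x, hx⟩ := Equiv.Perm.exists_fixed_point_of_prime hcard hg
  exact ⟨x.1, x.2, congrArg Subtype.val hx⟩

variable {G : Type*} [Group G]

/-- The fixed subgroup of an automorphism. -/
def fix (β : MulAut G) : Subgroup G := β.toMonoidHom.eqLocus (MonoidHom.id G)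

theorem mem_fix {β : MulAut G} {x : G} : x ∈ fix β ↔ β x = x := Iff.rfl

theorem perm_pow_eq_one {M : Type*} [Monoid M] {X : Type*} {β : MulAut G}
    [MulAction (MulAut G) X] {r : ℕ} (hβ : β ^ r = 1) :
    (MulAction.toPerm β : Equiv.Perm X) ^ r = 1 := by
  change (MulAction.toPermHom (MulAut G) X β) ^ r = 1
  rw [← map_pow, hβ, map_one]

section

variable [Finite G] {β : MulAut G} {r : ℕ} [hr : Fact r.Prime] (hβ : β ^ r = 1)
  (hcop : ¬ r ∣ Nat.card G)

include hβ hcop

/-- A left coset of a `β`-invariant subgroup which is mapped to itself contains a fixed element. -/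
theorem exists_fixed_in_coset {H : Subgroup G} (hH : ∀ x ∈ H, β x ∈ H) {g : G}
    (hg : g⁻¹ * β g ∈ H) : ∃ h ∈ H, β (g * h) = g * h := by
  have hcard : Nat.card {x : G | g⁻¹ * x ∈ H} = Nat.card H :=
    Nat.card_congr
      { toFun := fun x => ⟨g⁻¹ * x.1, x.2⟩
        invFun := fun h => ⟨g * h.1, by simp⟩
        left_inv := fun x => by simp
        right_inv := fun h => by simp }
  obtain ⟨x, hx, hfix⟩ := exists_fixed_mem (MulAction.toPerm β : Equiv.Perm G)
    (perm_pow_eq_one (M := G) hβ) (s := {x : G | g⁻¹ * x ∈ H}) (fun x hx => by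
      change g⁻¹ * β x ∈ H
      have : g⁻¹ * β x = (g⁻¹ * β g) * β (g⁻¹ * x) := by
        rw [map_mul, map_inv]; group
      rw [this]
      exact H.mul_mem hg (hH _ hx))
    (by rw [hcard]; exact fun h => hcop (h.trans (card_subgroup_dvd_card H)))
  exact ⟨g⁻¹ * x, hx, by rw [mul_inv_cancel_left]; exact hfix⟩

/-- An invariant subgroup has an invariant Sylow subgroup. -/
theorem exists_invariant_sylow (p : ℕ) [Fact p.Prime] {Y : Subgroup G} (hY : ∀ x ∈ Y, β x ∈ Y) :
    ∃ Q : Sylow p Y, ∀ x ∈ (Q : Subgroup Y).map Y.subtype, β x ∈ (Q : Subgroup Y).map Y.subtype := by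
  set s : Set (Subgroup G) := {R | R ≤ Y ∧ Nat.card R = p ^ (Nat.card Y).factorization p} with hs
  have hbij : Nat.card s = Nat.card (Sylow p Y) := by
    symm
    refine Nat.card_congr (Equiv.ofBijective (fun Q => ⟨(Q : Subgroup Y).map Y.subtype,
      map_subtype_le _, by rw [card_map_of_injective Y.subtype_injective, Q.card_eq_multiplicity]⟩)
      ⟨fun Q Q' h => ?_, fun R => ?_⟩)
    · exact Sylow.ext (map_injective Y.subtype_injective (congrArg Subtype.val h))
    · obtain ⟨R, hRY, hR⟩ := R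
      refine ⟨Sylow.ofCard (R.subgroupOf Y) (by rw [Coprime.card_subgroupOf hRY, hR]), ?_⟩
      exact Subtype.ext (by simp [subgroupOf_map_subtype, hRY])
  obtain ⟨R, ⟨hRY, hR⟩, hfix⟩ := exists_fixed_mem
    (MulAction.toPerm β : Equiv.Perm (Subgroup G)) (perm_pow_eq_one (M := G) hβ) (s := s)
    (by
      rintro R ⟨hRY, hR⟩
      refine ⟨?_, ?_⟩
      · intro x hx
        change x ∈ β • R at hx
        rw [mem_pointwise_smul_iff_inv_smul_mem] at hx
        have h := hY _ (hRY hx)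
        rwa [show β (β⁻¹ • x) = x from smul_inv_smul β x] at h
      · change Nat.card ↥(β • R) = _
        rw [← hR]
        exact (Nat.card_congr (Subgroup.equivSMul β R).toEquiv).symm)
    (by
      rw [hbij]
      intro h
      obtain ⟨Q⟩ := (inferInstance : Nonempty (Sylow p Y))
      exact hcop ((h.trans Q.card_dvd_index).trans ((index_dvd_card _).trans
        (card_subgroup_dvd_card Y))))
  refine ⟨Sylow.ofCard (R.subgroupOf Y) (by rw [Coprime.card_subgroupOf hRY, hR]), fun x hx => ?_⟩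
  simp only [Sylow.coe_ofCard, subgroupOf_map_subtype, hRY, inf_of_le_left] at hx ⊢
  have := smul_mem_pointwise_smul x β R hx
  change β • R = R at hfix
  rwa [hfix] at this

variable {τ : G} (hτ : orderOf τ = 2) (hfixC : ∀ c ∈ centralizer ({τ} : Set G), β c = c)

include hτ hfixC

theorem tau_mem_fix : τ ∈ fix β :=
  hfixC _ (mem_centralizer_singleton_iff.2 rfl)

omit hτ in
/-- Fixed conjugates of `τ` are conjugate in the fixed subgroup. -/
theorem mem_fix_of_conj_mem {g : G} (h : g * τ * g⁻¹ ∈ fix β) : g ∈ fix β := by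
  rw [mem_fix, map_mul, map_mul, map_inv, hfixC τ (mem_centralizer_singleton_iff.2 rfl)] at h
  obtain ⟨c, hc, hgc⟩ := exists_fixed_in_coset hβ hcop
    (H := centralizer ({τ} : Set G)) (fun x hx => by rw [hfixC x hx]; exact hx) (g := g)
    (by
      rw [mem_centralizer_singleton_iff]
      calc g⁻¹ * β g * τ = g⁻¹ * (β g * τ * (β g)⁻¹) * β g := by group
        _ = τ * (g⁻¹ * β g) := by rw [h]; group)
  rw [map_mul, hfixC c hc] at hgc
  exact mul_right_cancel hgc

/-- The fixed subgroup contains a Sylow 2-subgroup. -/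
theorem exists_fixed_sylow : ∃ S : Sylow 2 G, (S : Subgroup G) ≤ fix β := by
  have hzp : IsPGroup 2 (zpowers τ) :=
    IsPGroup.of_card (n := 1) (by rw [Nat.card_zpowers, hτ, pow_one])
  obtain ⟨R, hR⟩ := (Set.toFinite {R : Subgroup G | τ ∈ R ∧ R ≤ fix β ∧ IsPGroup 2 R}).exists_maximal
    ⟨zpowers τ, mem_zpowers τ, zpowers_le.2 (tau_mem_fix hβ hcop hτ hfixC), hzp⟩
  obtain ⟨hτR, hRF, hR2⟩ := hR.prop
  obtain ⟨S, hRS⟩ := hR2.exists_le_sylow
  refine ⟨S, ?_⟩
  by_contra hne
  have hlt : R < (S : Subgroup G) :=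
    lt_of_le_of_ne hRS fun h => hne (h ▸ hRF)
  set N := normalizer (R : Set G) ⊓ (S : Subgroup G) with hN
  have hnt : R.subgroupOf (S : Subgroup G) < ⊤ :=
    lt_top_iff_ne_top.2 fun h => hlt.not_ge (subgroupOf_eq_top.1 h)
  haveI := S.2.isNilpotent
  have hnc := Group.normalizerCondition_of_isNilpotent (R.subgroupOf (S : Subgroup G)) hnt
  obtain ⟨⟨x, hxS⟩, hxn, hxR⟩ := SetLike.exists_of_lt hnc
  rw [mem_subgroupOf] at hxR
  have hxN : x ∈ normalizer (R : Set G) := by
    rw [mem_normalizer_iff]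
    intro y
    by_cases hyS : y ∈ (S : Subgroup G)
    · simpa [mem_subgroupOf] using (mem_normalizer_iff.1 hxn ⟨y, hyS⟩)
    · refine ⟨fun hy => absurd (hRS hy) hyS, fun hy => absurd ?_ hyS⟩
      have := S.toSubgroup.mul_mem (S.toSubgroup.mul_mem (S.toSubgroup.inv_mem hxS) (hRS hy)) hxS
      simpa [mul_assoc] using this
  have hxF : x ∈ fix β := by
    have h1 : x * τ * x⁻¹ ∈ fix β := hRF ((mem_normalizer_iff.1 hxN τ).1 hτR)
    exact mem_fix_of_conj_mem hβ hcop hfixC h1
  have hbig : R ⊔ zpowers x ≤ (S : Subgroup G) := sup_le hRS (zpowers_le.2 hxS)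
  exact hxR (hR.2 ⟨mem_sup_left hτR, sup_le hRF (zpowers_le.2 hxF), S.2.to_le hbig⟩ le_sup_left
    (mem_sup_right (mem_zpowers x)))

/-- Every invariant 2-subgroup is fixed pointwise. -/
theorem le_fix_of_invariant {R : Subgroup G} (hR2 : IsPGroup 2 R) (hR : ∀ x ∈ R, β x ∈ R) :
    R ≤ fix β := by
  obtain ⟨P, hP⟩ := (Set.toFinite {P : Subgroup G | R ≤ P ∧ IsPGroup 2 P ∧ ∀ x ∈ P, β x ∈ P}).exists_maximal
    ⟨R, le_rfl, hR2, hR⟩
  obtain ⟨hRP, hP2, hPinv⟩ := hP.prop
  have hNinv : ∀ x ∈ normalizer (P : Set G), β x ∈ normalizer (P : Set G) := by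
    intro x hx
    refine Subgroup.mem_normalizer_iff.2 fun y => ?_
    have hsurj : P.map β.toMonoidHom = P :=
      eq_of_le_of_card_ge (by rintro _ ⟨z, hz, rfl⟩; exact hPinv z hz)
        (card_map_of_injective (K := P) (f := β.toMonoidHom) β.injective).ge
    have hiff : ∀ z, z ∈ P ↔ β z ∈ P := fun z =>
      ⟨hPinv z, fun hz => by
        rw [← hsurj] at hz
        obtain ⟨w, hw, hwz⟩ := hz
        exact β.injective hwz ▸ hw⟩
    obtain ⟨y, rfl⟩ := β.surjective y
    rw [← hiff, mem_normalizer_iff.1 hx y, hiff, map_mul, map_mul, map_inv]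
  obtain ⟨Q, hQ⟩ := exists_invariant_sylow hβ hcop 2 hNinv
  set Q' := (Q : Subgroup (normalizer (P : Set G))).map (normalizer (P : Set G)).subtype with hQ'
  have hPN : P ≤ normalizer (P : Set G) := le_normalizer
  haveI : (P.subgroupOf (normalizer (P : Set G))).Normal := normal_in_normalizer
  have hPQ : P ≤ Q' := by
    intro x hx
    have hPp : IsPGroup 2 (P.subgroupOf (normalizer (P : Set G))) := hP2.comap_subtype
    exact ⟨⟨x, hPN hx⟩, hPp.le_sylow_of_normal Q hx, rfl⟩
  have hQP : Q' ≤ P := hP.2 ⟨hRP.trans hPQ, Q.2.map _, hQ⟩ hPQ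
  obtain ⟨T, hPT⟩ := hP2.exists_le_sylow
  have hTP : (T : Subgroup G) ≤ P := by
    by_contra hne
    have hnt : P.subgroupOf (T : Subgroup G) < ⊤ :=
      lt_top_iff_ne_top.2 fun h => hne (subgroupOf_eq_top.1 h)
    haveI := T.2.isNilpotent
    obtain ⟨⟨x, hxT⟩, hxn, hxP⟩ :=
      SetLike.exists_of_lt (Group.normalizerCondition_of_isNilpotent _ hnt)
    rw [mem_subgroupOf] at hxP
    have hxN : x ∈ normalizer (P : Set G) := by
      rw [mem_normalizer_iff]
      intro y
      by_cases hyT : y ∈ (T : Subgroup G)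
      · simpa [mem_subgroupOf] using (mem_normalizer_iff.1 hxn ⟨y, hyT⟩)
      · refine ⟨fun hy => absurd (hPT hy) hyT, fun hy => absurd ?_ hyT⟩
        have := T.toSubgroup.mul_mem (T.toSubgroup.mul_mem (T.toSubgroup.inv_mem hxT) (hPT hy)) hxT
        simpa [mul_assoc] using this
    set U := (P ⊔ zpowers x).subgroupOf (normalizer (P : Set G))
    have hU : IsPGroup 2 U :=
      (T.2.to_le (sup_le hPT (zpowers_le.2 hxT))).comap_subtype
    obtain ⟨Q2, hUQ⟩ := hU.exists_le_sylow
    have hc : Nat.card P < Nat.card Q2 := by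
      have hlt : P < P ⊔ zpowers x :=
        left_lt_sup.2 fun h => hxP (h (mem_zpowers x))
      calc Nat.card P < Nat.card ↥(P ⊔ zpowers x) :=
            Set.Finite.card_lt_card (Set.toFinite _) hlt
        _ = Nat.card U := (Coprime.card_subgroupOf (sup_le hPN (zpowers_le.2 hxN))).symm
        _ ≤ Nat.card Q2 := card_le_of_le hUQ
    have hQc : Nat.card Q2 = Nat.card Q := by
      rw [Sylow.card_eq_multiplicity, Sylow.card_eq_multiplicity]
    have := card_le_of_le hQP
    rw [hQ', card_map_of_injective (normalizer (P : Set G)).subtype_injective] at this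
    omega
  have hPeq : (T : Subgroup G) = P := le_antisymm hTP hPT
  obtain ⟨S, hS⟩ := exists_fixed_sylow hβ hcop hτ hfixC
  obtain ⟨g, hg⟩ := MulAction.exists_smul_eq G S T
  have hmem : ∀ y, y ∈ P ↔ g⁻¹ * y * g ∈ (S : Subgroup G) := by
    intro y
    rw [← hPeq, ← hg, Sylow.coe_subgroup_smul, Coprime.mem_conj_smul]
  have hconjfix : ∀ y ∈ (S : Subgroup G), β g * y * (β g)⁻¹ ∈ P := by
    intro y hy
    have h1 : g * y * g⁻¹ ∈ P := (hmem _).2 (by simpa [mul_assoc] using hy)
    have h2 := hPinv _ h1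
    rwa [map_mul, map_mul, map_inv, mem_fix.1 (hS hy)] at h2
  have hgN : g⁻¹ * β g ∈ normalizer ((S : Subgroup G) : Set G) := by
    have hfin : (S : Subgroup G).map (MulAut.conj (g⁻¹ * β g)).toMonoidHom = S := by
      refine eq_of_le_of_card_ge ?_ (card_map_of_injective
        (K := (S : Subgroup G)) (MulAut.conj (g⁻¹ * β g)).injective).ge
      rintro _ ⟨z, hz, rfl⟩
      have := (hmem _).1 (hconjfix z hz)
      simpa [mul_assoc, MulAut.conj_apply, mul_inv_rev] using this
    refine mem_normalizer_iff.2 fun y => ?_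
    constructor
    · intro hy
      rw [← hfin]
      exact ⟨y, hy, by simp only [MulEquiv.coe_toMonoidHom, MulAut.conj_apply]⟩
    · intro hy
      rw [← hfin] at hy
      obtain ⟨z, hz, hzy⟩ := hy
      simp only [MulEquiv.coe_toMonoidHom, MulAut.conj_apply] at hzy
      have : z = y := mul_left_cancel (mul_right_cancel hzy)
      exact this ▸ hz
  have hSNinv : ∀ x ∈ normalizer ((S : Subgroup G) : Set G),
      β x ∈ normalizer ((S : Subgroup G) : Set G) := by
    intro x hx
    rw [mem_normalizer_iff]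
    intro y
    obtain ⟨y, rfl⟩ := β.surjective y
    have hiff : ∀ z, β z ∈ (S : Subgroup G) ↔ z ∈ (S : Subgroup G) := fun z =>
      ⟨fun hz => by
        have := mem_fix.1 (hS hz)
        exact β.injective this ▸ hz, fun hz => by rwa [mem_fix.1 (hS hz)]⟩
    rw [hiff, mem_normalizer_iff.1 hx y, ← hiff, map_mul, map_mul, map_inv]
  obtain ⟨n, hn, hgn⟩ := exists_fixed_in_coset hβ hcop hSNinv hgN
  intro y hy
  have hy' : (g * n)⁻¹ * y * (g * n) ∈ (S : Subgroup G) := by
    have := (mem_normalizer_iff''.1 hn _).1 ((hmem y).1 (hRP hy))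
    simpa [mul_assoc] using this
  have := (fix β).mul_mem ((fix β).mul_mem hgn (hS hy')) ((fix β).inv_mem hgn)
  simpa [mul_assoc] using this

/-- For `g ∉ F` the conjugates of `τ` in the coset `uF` inject into those in `F`. -/
theorem exists_conj_to_fix {u : G} (hu2 : u * u = 1) :
    ∃ w : G, w * u * w⁻¹ ∈ fix β ∧
      ∀ d ∈ fix β, u * d * u ∈ fix β → w * d * w⁻¹ = d := by
  set D : Subgroup G := fix β ⊓ (fix β).map (MulAut.conj u).toMonoidHom with hD
  have huinv : u⁻¹ = u := inv_eq_of_mul_eq_one_right hu2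
  have hmemD : ∀ d, d ∈ D ↔ d ∈ fix β ∧ u * d * u ∈ fix β := by
    intro d
    rw [hD, Subgroup.mem_inf]
    refine and_congr_right fun _ => ⟨?_, fun h => ⟨u * d * u, h, ?_⟩⟩
    · rintro ⟨y, hy, rfl⟩
      simp only [MulEquiv.coe_toMonoidHom, MulAut.conj_apply, huinv]
      simpa [mul_assoc, hu2, ← mul_assoc u u] using hy
    · simp [MulAut.conj_apply, huinv, mul_assoc, hu2, ← mul_assoc u u]
  set W := centralizer (D : Set G) with hW
  have hinvD : ∀ d ∈ D, u * d * u ∈ D := fun d hd => by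
    rw [hmemD] at hd ⊢
    refine ⟨hd.2, ?_⟩
    simpa [mul_assoc, hu2, ← mul_assoc u u] using hd.1
  have huN : zpowers u ≤ normalizer (W : Set G) := by
    refine zpowers_le.2 (mem_normalizer_iff.2 fun y => ?_)
    have key : ∀ z, z ∈ W → u * z * u⁻¹ ∈ W := by
      intro z hz
      rw [hW, mem_centralizer_iff] at hz ⊢
      intro d hd
      have h := hz _ (hinvD d hd)
      calc d * (u * z * u⁻¹) = u * ((u * d * u) * z) * u⁻¹ := by
            simp [mul_assoc, huinv, ← mul_assoc u u, hu2]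
        _ = u * (z * (u * d * u)) * u⁻¹ := by rw [h]
        _ = u * z * u⁻¹ * d := by simp [mul_assoc, huinv, hu2]
    refine ⟨key y, fun h => ?_⟩
    have := key _ h
    simpa [mul_assoc, huinv, hu2, ← mul_assoc u u] using this
  set Y := W ⊔ zpowers u with hY
  have huW : β u * u ∈ W := by
    rw [hW, mem_centralizer_iff]
    intro d hd
    have h1 := mem_fix.1 ((hmemD d).1 (hd : d ∈ D)).1
    have h2 := mem_fix.1 ((hmemD d).1 (hd : d ∈ D)).2
    rw [map_mul, map_mul, h1] at h2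
    have hu3 : β u * β u = 1 := by rw [← map_mul, hu2, map_one]
    calc d * (β u * u) = β u * (β u * d * β u) * u := by
          rw [← mul_assoc (β u), ← mul_assoc (β u), hu3, one_mul, mul_assoc]
      _ = β u * u * d := by rw [h2]; simp [mul_assoc, hu2]
  have hWinv : ∀ x ∈ W, β x ∈ W := by
    intro x hx
    rw [hW, mem_centralizer_iff] at hx ⊢
    intro d hd
    have h1 := mem_fix.1 ((hmemD d).1 (hd : d ∈ D)).1
    have := congrArg β (hx d hd)
    rwa [map_mul, map_mul, h1] at this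
  have hYinv : ∀ x ∈ Y, β x ∈ Y := by
    intro x hx
    have hle : Y ≤ Y.comap β.toMonoidHom := by
      refine sup_le (fun z hz => mem_sup_left (hWinv z hz)) (zpowers_le.2 ?_)
      have := Y.mul_mem (mem_sup_left huW : β u * u ∈ Y) (Y.inv_mem (mem_sup_right (mem_zpowers u)))
      simpa [mul_assoc] using this
    exact hle hx
  obtain ⟨Q, hQ⟩ := exists_invariant_sylow hβ hcop 2 hYinv
  have hQF := le_fix_of_invariant hβ hcop hτ hfixC (Q.2.map Y.subtype) hQ
  have huY : u ∈ Y := mem_sup_right (mem_zpowers u)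
  have hu' : IsPGroup 2 (zpowers (⟨u, huY⟩ : Y)) := by
    intro ⟨z, hz⟩
    refine ⟨1, Subtype.ext ?_⟩
    obtain ⟨k, rfl⟩ := mem_zpowers_iff.1 hz
    change ((⟨u, huY⟩ : Y) ^ k) ^ 2 ^ 1 = 1
    rw [pow_one, ← zpow_natCast, zpow_comm, zpow_natCast,
      show (⟨u, huY⟩ : Y) ^ 2 = 1 from Subtype.ext (by simp [pow_two, hu2]), one_zpow]
  obtain ⟨Q2, hQ2⟩ := hu'.exists_le_sylow
  obtain ⟨y, hy⟩ := MulAction.exists_smul_eq Y Q2 Q
  have hyu : (y : G) * u * (y : G)⁻¹ ∈ fix β := by
    apply hQF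
    refine ⟨y * ⟨u, huY⟩ * y⁻¹, ?_, rfl⟩
    change _ ∈ (Q : Subgroup Y)
    rw [← hy, Sylow.coe_subgroup_smul]
    exact Coprime.conj_mem_conj_smul (hQ2 (mem_zpowers _))
  obtain ⟨w, hw, z, hz, hwz⟩ := (Coprime.mem_sup_of_le_normalizer huN).1 y.2
  refine ⟨w, ?_, fun d hd hd' => ?_⟩
  · obtain ⟨k, rfl⟩ := mem_zpowers_iff.1 hz
    rw [← hwz] at hyu
    have : w * u ^ k * u * (w * u ^ k)⁻¹ = w * u * w⁻¹ := by group
    rwa [this] at hyu
  · have := mem_centralizer_iff.1 hw d ((hmemD d).2 ⟨hd, hd'⟩)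
    rw [← this, mul_inv_cancel_right]

/-- The conjugates of `τ` in the fixed subgroup have products in its normal core. -/
theorem mul_mem_normalCore {g₁ g₂ : G} (h₁ : g₁ * τ * g₁⁻¹ ∈ fix β)
    (h₂ : g₂ * τ * g₂⁻¹ ∈ fix β) :
    g₁ * τ * g₁⁻¹ * (g₂ * τ * g₂⁻¹) ∈ (fix β).normalCore := by
  classical
  have := Fintype.ofFinite G
  set F := fix β with hF
  set U : Finset G := Finset.univ.filter fun u => IsConj τ u with hU
  set K : Finset G := U.filter fun u => u ∈ F with hK
  have hmemU : ∀ u, u ∈ U ↔ ∃ g, g * τ * g⁻¹ = u := fun u => by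
    simp [hU, isConj_iff]
  have hUcard : U.card = (centralizer ({τ} : Set G)).index := by
    rw [Subgroup.index, ← Nat.card_eq_finsetCard]
    refine (Nat.card_congr (Equiv.ofBijective (fun q => Quotient.liftOn' q
      (fun g => (⟨g * τ * g⁻¹, (hmemU _).2 ⟨g, rfl⟩⟩ : U)) ?_) ⟨?_, ?_⟩)).symm
    · intro a b hab
      rw [QuotientGroup.leftRel_apply, mem_centralizer_singleton_iff] at hab
      apply Subtype.ext
      calc a * τ * a⁻¹ = a * (τ * (a⁻¹ * b)) * b⁻¹ := by group
        _ = b * τ * b⁻¹ := by rw [← hab]; group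
    · intro x y
      refine Quotient.inductionOn₂' x y fun a b h => ?_
      apply Quotient.sound'
      rw [QuotientGroup.leftRel_apply, mem_centralizer_singleton_iff]
      have h' : a * τ * a⁻¹ = b * τ * b⁻¹ := congrArg Subtype.val h
      calc a⁻¹ * b * τ = a⁻¹ * (b * τ * b⁻¹) * b := by group
        _ = τ * (a⁻¹ * b) := by rw [← h']; group
    · rintro ⟨u, hu⟩
      obtain ⟨g, rfl⟩ := (hmemU u).1 hu
      exact ⟨QuotientGroup.mk g, rfl⟩
  have hτF : τ ∈ F := tau_mem_fix hβ hcop hτ hfixC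
  have hCF : centralizer ({τ} : Set G) ≤ F := fun c hc => hfixC c hc
  have hKcard : K.card = (centralizer ({τ} : Set G)).relIndex F := by
    rw [Subgroup.relIndex, Subgroup.index, ← Nat.card_eq_finsetCard]
    refine (Nat.card_congr (Equiv.ofBijective (fun q => Quotient.liftOn' q
      (fun g : F => (⟨(g : G) * τ * (g : G)⁻¹, by
        rw [hK, Finset.mem_filter]
        exact ⟨(hmemU _).2 ⟨g, rfl⟩, F.mul_mem (F.mul_mem g.2 hτF) (F.inv_mem g.2)⟩⟩ : K)) ?_)
      ⟨?_, ?_⟩)).symm
    · intro a b hab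
      rw [QuotientGroup.leftRel_apply, mem_subgroupOf, mem_centralizer_singleton_iff] at hab
      apply Subtype.ext
      simp only [Subgroup.coe_mul, Subgroup.coe_inv] at hab
      calc (a : G) * τ * (a : G)⁻¹ = a * (τ * ((a : G)⁻¹ * b)) * (b : G)⁻¹ := by group
        _ = b * τ * (b : G)⁻¹ := by rw [← hab]; group
    · intro x y
      refine Quotient.inductionOn₂' x y fun a b h => ?_
      apply Quotient.sound'
      rw [QuotientGroup.leftRel_apply, mem_subgroupOf, mem_centralizer_singleton_iff]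
      have h' : (a : G) * τ * (a : G)⁻¹ = b * τ * (b : G)⁻¹ := congrArg Subtype.val h
      simp only [Subgroup.coe_mul, Subgroup.coe_inv]
      calc (a : G)⁻¹ * b * τ = (a : G)⁻¹ * (b * τ * (b : G)⁻¹) * b := by group
        _ = τ * ((a : G)⁻¹ * b) := by rw [← h']; group
    · rintro ⟨u, hu⟩
      rw [hK, Finset.mem_filter] at hu
      obtain ⟨g, rfl⟩ := (hmemU u).1 hu.1
      exact ⟨QuotientGroup.mk ⟨g, mem_fix_of_conj_mem hβ hcop hfixC hu.2⟩, rfl⟩
  let π : G → G ⧸ F := QuotientGroup.mk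
  -- the map from a nonempty fibre into `K`
  have hemb : ∀ q : G ⧸ F, ∀ u ∈ U.filter (fun v => π v = q), ∃ w : G,
      (∀ v ∈ U.filter (fun v => π v = q), w * v * w⁻¹ ∈ K) ∧
      (∀ v ∈ U.filter (fun v => π v = q), w * v * w⁻¹ = w * u * w⁻¹ * (u * v) ∧
        u * v ∈ F ∧ u * (u * v) * u = (u * v)⁻¹) := by
    intro q u hu
    have hu' := Finset.mem_filter.1 hu
    have hsq : ∀ v ∈ U, v * v = 1 := by
      intro v hv
      obtain ⟨g, rfl⟩ := (hmemU v).1 hv
      have : τ * τ = 1 := by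
        have h := pow_orderOf_eq_one τ
        rwa [hτ, pow_two] at h
      calc g * τ * g⁻¹ * (g * τ * g⁻¹) = g * (τ * τ) * g⁻¹ := by group
        _ = 1 := by rw [this]; group
    have hu2 := hsq u hu'.1
    obtain ⟨w, hwu, hwd⟩ := exists_conj_to_fix hβ hcop hτ hfixC hu2
    refine ⟨w, ?_⟩
    have key : ∀ v ∈ U.filter (fun v => π v = q), w * v * w⁻¹ = w * u * w⁻¹ * (u * v) ∧
        u * v ∈ F ∧ u * (u * v) * u = (u * v)⁻¹ := by
      intro v hv
      have hv' := Finset.mem_filter.1 hv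
      have huinv : u⁻¹ = u := inv_eq_of_mul_eq_one_right hu2
      have hvinv : v⁻¹ = v := inv_eq_of_mul_eq_one_right (hsq v hv'.1)
      have hd : u * v ∈ F := by
        have := QuotientGroup.eq.1 (hu'.2.trans hv'.2.symm : π u = π v)
        rwa [huinv] at this
      have hd' : u * (u * v) * u = (u * v)⁻¹ := by
        rw [mul_inv_rev, huinv, hvinv, ← mul_assoc u u, hu2, one_mul]
      have hwd' := hwd (u * v) hd (by rw [hd']; exact F.inv_mem hd)
      refine ⟨?_, hd, hd'⟩
      calc w * v * w⁻¹ = w * (u * (u * v)) * w⁻¹ := by rw [← mul_assoc u u, hu2, one_mul]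
        _ = w * u * w⁻¹ * (w * (u * v) * w⁻¹) := by group
        _ = w * u * w⁻¹ * (u * v) := by rw [hwd']
    refine ⟨fun v hv => ?_, key⟩
    rw [hK, Finset.mem_filter]
    refine ⟨?_, ?_⟩
    · obtain ⟨g, rfl⟩ := (hmemU v).1 (Finset.mem_filter.1 hv).1
      exact (hmemU _).2 ⟨w * g, by group⟩
    · obtain ⟨h3, h4, -⟩ := key v hv
      rw [h3]
      exact F.mul_mem hwu h4
  have hfib : ∀ q : G ⧸ F, (U.filter fun v => π v = q).card ≤ K.card := by
    intro q
    rcases (U.filter fun v => π v = q).eq_empty_or_nonempty with he | ⟨u, hu⟩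
    · rw [he]; simp
    obtain ⟨w, hw, -⟩ := hemb q u hu
    exact Finset.card_le_card_of_injOn (fun v => w * v * w⁻¹) hw
      (fun a _ b _ h => mul_left_cancel (mul_right_cancel h))
  have heq : ∀ q : G ⧸ F, (U.filter fun v => π v = q).card = K.card := by
    have hsum := Finset.card_eq_sum_card_fiberwise (f := π) (s := U)
      (t := (Finset.univ : Finset (G ⧸ F))) (fun _ _ => Finset.mem_univ _)
    have htot : ∑ _q : G ⧸ F, K.card = U.card := by
      rw [Finset.sum_const, smul_eq_mul, Finset.card_univ, ← Nat.card_eq_fintype_card,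
        ← Subgroup.index, hKcard, hUcard, mul_comm, relIndex_mul_index hCF]
    intro q
    exact (Finset.sum_eq_sum_iff_of_le fun q _ => hfib q).1 (hsum.symm.trans htot.symm) q
      (Finset.mem_univ q)
  have hmemK : ∀ {g : G}, g * τ * g⁻¹ ∈ F → g * τ * g⁻¹ ∈ K := fun {g} hg => by
    rw [hK, Finset.mem_filter]; exact ⟨(hmemU _).2 ⟨g, rfl⟩, hg⟩
  intro b
  change b * _ * b⁻¹ ∈ F
  set q : G ⧸ F := π b⁻¹
  have hne : (U.filter fun v => π v = q).Nonempty := by
    rw [← Finset.card_pos, heq]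
    exact Finset.card_pos.2 ⟨_, hmemK h₁⟩
  obtain ⟨u, hu⟩ := hne
  obtain ⟨w, hw, key⟩ := hemb q u hu
  have himg : (U.filter fun v => π v = q).image (fun v => w * v * w⁻¹) = K := by
    refine Finset.eq_of_subset_of_card_le (Finset.image_subset_iff.2 hw) ?_
    rw [Finset.card_image_of_injective _ fun a c h => mul_left_cancel (mul_right_cancel h), heq]
  obtain ⟨v₁, hv₁, e₁⟩ := Finset.mem_image.1 (himg.symm ▸ hmemK h₁)
  obtain ⟨v₂, hv₂, e₂⟩ := Finset.mem_image.1 (himg.symm ▸ hmemK h₂)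
  obtain ⟨a₁, d₁, i₁⟩ := key v₁ hv₁
  obtain ⟨a₂, d₂, i₂⟩ := key v₂ hv₂
  set s := w * u * w⁻¹ with hs
  set x := g₁ * τ * g₁⁻¹ * (g₂ * τ * g₂⁻¹) with hx
  -- `s` inverts `u * v₁`, so the product is `(u * v₁)⁻¹ * (u * v₂)`
  have hu2 : u * u = 1 := by
    obtain ⟨g, rfl⟩ := (hmemU u).1 (Finset.mem_filter.1 hu).1
    have h := pow_orderOf_eq_one τ
    rw [hτ, pow_two] at h
    calc g * τ * g⁻¹ * (g * τ * g⁻¹) = g * (τ * τ) * g⁻¹ := by group
      _ = 1 := by rw [h]; group
  have hss : s * s = 1 := by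
    rw [hs]
    calc w * u * w⁻¹ * (w * u * w⁻¹) = w * (u * u) * w⁻¹ := by group
      _ = 1 := by rw [hu2]; group
  have hsinv : s * (u * v₁) * s = (u * v₁)⁻¹ := by
    have hsq : g₁ * τ * g₁⁻¹ * (g₁ * τ * g₁⁻¹) = 1 := by
      have h := pow_orderOf_eq_one τ
      rw [hτ, pow_two] at h
      calc g₁ * τ * g₁⁻¹ * (g₁ * τ * g₁⁻¹) = g₁ * (τ * τ) * g₁⁻¹ := by group
        _ = 1 := by rw [h]; group
    rw [← e₁, a₁] at hsq
    calc s * (u * v₁) * s = s * (u * v₁) * (s * (u * v₁)) * (u * v₁)⁻¹ := by group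
      _ = (u * v₁)⁻¹ := by rw [hsq, one_mul]
  have hxd : x = (u * v₁)⁻¹ * (u * v₂) := by
    rw [hx, ← e₁, ← e₂, a₁, a₂, ← hsinv]
    simp only [mul_assoc]
  have hxu : u * x * u ∈ F := by
    have hxe : u * x * u = (u * (u * v₁) * u)⁻¹ * (u * (u * v₂) * u) := by
      have huinv : u⁻¹ = u := inv_eq_of_mul_eq_one_right hu2
      rw [hxd]
      simp [mul_assoc, huinv, ← mul_assoc u u, hu2]
    rw [hxe, i₁, i₂, inv_inv]
    exact F.mul_mem d₁ (F.inv_mem d₂)
  have hb : b * u ∈ F := by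
    have := QuotientGroup.eq.1 (Finset.mem_filter.1 hu).2.symm
    rwa [inv_inv] at this
  have := F.mul_mem (F.mul_mem hb hxu) (F.inv_mem hb)
  have hfinal : b * u * (u * x * u) * (b * u)⁻¹ = b * x * b⁻¹ := by
    have huinv : u⁻¹ = u := inv_eq_of_mul_eq_one_right hu2
    simp [mul_assoc, huinv, ← mul_assoc u u, hu2]
  rwa [hfinal] at this

end

end Cfsg.Agent.Invol.FixedCentralizer
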