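import Cfsg.Agent.Invol.QDSub
import Cfsg.Agent.Core.Frattini
import Mathlib.GroupTheory.Abelianization.Defs
import Mathlib.GroupTheory.Nilpotent
import Mathlib.GroupTheory.Sylow

/-!
The maximal subgroups and the derived subgroup of a quasi-dihedral group, and its quaternion
subgroups of order eight.
-/

set_option autoImplicit false

namespace Cfsg.Agent.Invol

open scoped commutatorElement

variable {S : Type*} [Group S] {x y : S} {n : ℕ}

/-- Doubling `ZMod M → ZMod (2 ^ n)` for `2 * M = 2 ^ n`. -/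
def dbl (n M : ℕ) (i : ZMod M) : ZMod (2 ^ n) := ((2 * i.val : ℕ) : ZMod (2 ^ n))

theorem dbl_natCast {n M : ℕ} [NeZero M] (hM : 2 * M = 2 ^ n) (k : ℕ) :
    dbl n M (k : ZMod M) = 2 * (k : ZMod (2 ^ n)) := by
  have h0 : ((2 * M : ℕ) : ZMod (2 ^ n)) = 0 := by rw [hM, ZMod.natCast_self]
  rw [dbl, ZMod.val_natCast]
  conv_rhs => rw [← Nat.mod_add_div k M]
  push_cast at h0 ⊢
  linear_combination -((k / M : ℕ) : ZMod (2 ^ n)) * h0

theorem dbl_add {n M : ℕ} [NeZero M] (hM : 2 * M = 2 ^ n) (i j : ZMod M) :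
    dbl n M (i + j) = dbl n M i + dbl n M j := by
  conv_lhs => rw [← ZMod.natCast_zmod_val i, ← ZMod.natCast_zmod_val j, ← Nat.cast_add, dbl_natCast hM]
  simp only [dbl]
  push_cast
  ring

theorem dbl_sub {n M : ℕ} [NeZero M] (hM : 2 * M = 2 ^ n) (i j : ZMod M) :
    dbl n M (i - j) = dbl n M i - dbl n M j := by
  rw [eq_sub_iff_add_eq, ← dbl_add hM, sub_add_cancel]

theorem dbl_inj {n M : ℕ} [NeZero M] (hM : 2 * M = 2 ^ n) {i j : ZMod M}
    (h : dbl n M i = dbl n M j) : i = j := by
  have hlt : ∀ a : ZMod M, 2 * a.val < 2 ^ n := fun a => by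
    have := a.val_lt
    omega
  have := congrArg ZMod.val h
  rw [dbl, dbl, ZMod.val_cast_of_lt (hlt i), ZMod.val_cast_of_lt (hlt j)] at this
  exact ZMod.val_injective _ (Nat.eq_of_mul_eq_mul_left two_pos this)

theorem isCoatom_of_index_two {G : Type*} [Group G] [Finite G] {H : Subgroup G} (h : H.index = 2) :
    IsCoatom H := by
  refine ⟨fun e => by rw [e, Subgroup.index_top] at h; omega, fun K hK => ?_⟩
  have hd := Subgroup.index_dvd_of_le hK.le
  rw [h] at hd
  rcases (Nat.dvd_prime Nat.prime_two).1 hd with e | e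
  · exact Subgroup.index_eq_one.1 e
  · exfalso
    have h1 := H.card_mul_index
    rw [← K.card_mul_index, h, e] at h1
    exact hK.ne (Subgroup.eq_of_le_of_card_ge hK.le (Nat.eq_of_mul_eq_mul_right two_pos h1).ge)

namespace QDGen

variable (hh : QDGen x y n)
include hh

theorem pGroup : IsPGroup 2 S := IsPGroup.of_card hh.card

theorem half : 2 * 2 ^ (n - 1) = 2 ^ n := by
  have := hh.three_le
  rw [← pow_succ', show n - 1 + 1 = n by omega]

theorem quarter : 2 * (2 * 2 ^ (n - 2)) = 2 ^ n := by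
  have := hh.three_le
  rw [← pow_succ', ← pow_succ', show n - 2 + 1 + 1 = n by omega]

/-- The dihedral maximal subgroup as an embedding. -/
noncomputable def toD : DihedralGroup (2 ^ (n - 1)) →* S :=
  MonoidHom.mk'
    (fun g => match g with
      | .r i => qc x n (dbl n _ i)
      | .sr i => qc x n (-dbl n _ i) * y)
    (by
      have hM := hh.half
      have hzero : ∀ i : ZMod (2 ^ (n - 1)), qh n * dbl n _ i = 0 := fun i => by
        simp only [dbl]; push_cast; exact hh.h_mul_even _
      rintro (i | i) (j | j)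
      · simp only [DihedralGroup.r_mul_r, dbl_add hM, hh.c_add]
      · simp only [DihedralGroup.r_mul_sr, dbl_sub hM, hh.c_mul_cy]
        congr 2
        ring
      · simp only [DihedralGroup.sr_mul_r, dbl_add hM, hh.cy_mul_c]
        congr 2
        linear_combination -hzero j
      · simp only [DihedralGroup.sr_mul_sr, dbl_sub hM, hh.cy_mul_cy]
        congr 1
        linear_combination hzero j)

/-- The quaternion maximal subgroup as an embedding. -/
noncomputable def toQ : QuaternionGroup (2 ^ (n - 2)) →* S :=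
  MonoidHom.mk'
    (fun g => match g with
      | .a i => qc x n (dbl n _ i)
      | .xa i => qc x n (1 - dbl n _ i) * y)
    (by
      have hM := hh.quarter
      have hzero : ∀ i : ZMod (2 * 2 ^ (n - 2)), qh n * dbl n _ i = 0 := fun i => by
        simp only [dbl]; push_cast; exact hh.h_mul_even _
      have hmid : dbl n (2 * 2 ^ (n - 2)) ((2 ^ (n - 2) : ℕ) : ZMod (2 * 2 ^ (n - 2))) = qh n := by
        rw [dbl_natCast hM, ← hh.two_q, qq]; push_cast; rfl
      rintro (i | i) (j | j)
      · simp only [QuaternionGroup.a_mul_a, dbl_add hM, hh.c_add]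
      · simp only [QuaternionGroup.a_mul_xa, dbl_sub hM, hh.c_mul_cy]
        congr 2
        ring
      · simp only [QuaternionGroup.xa_mul_a, dbl_add hM, hh.cy_mul_c]
        congr 2
        linear_combination -hzero j
      · simp only [QuaternionGroup.xa_mul_xa, dbl_sub hM, dbl_add hM, hh.cy_mul_cy, hmid]
        congr 1
        linear_combination hzero j)

theorem toD_inj : Function.Injective hh.toD := by
  rintro (i | i) (j | j) h <;> simp only [toD, MonoidHom.mk'_apply] at h
  · rw [dbl_inj hh.half (hh.c_inj h)]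
  · exact absurd h (hh.c_ne _ _)
  · exact absurd h.symm (hh.c_ne _ _)
  · rw [dbl_inj hh.half (neg_inj.1 (hh.cy_inj h))]

theorem toQ_inj : Function.Injective hh.toQ := by
  rintro (i | i) (j | j) h <;> simp only [toQ, MonoidHom.mk'_apply] at h
  · rw [dbl_inj hh.quarter (hh.c_inj h)]
  · exact absurd h (hh.c_ne _ _)
  · exact absurd h.symm (hh.c_ne _ _)
  · rw [dbl_inj hh.quarter (sub_right_injective (hh.cy_inj h))]

theorem mem_range_toD {s : S} :
    s ∈ hh.toD.range ↔ (∃ m, s = qc x n (2 * m)) ∨ ∃ m, s = qc x n (2 * m) * y := by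
  constructor
  · rintro ⟨i | i, rfl⟩ <;> simp only [toD, MonoidHom.mk'_apply, dbl]
    · exact Or.inl ⟨i.val, by push_cast; rfl⟩
    · exact Or.inr ⟨-(i.val : ZMod (2 ^ n)), by push_cast; rw [mul_neg]⟩
  · rintro (⟨m, rfl⟩ | ⟨m, rfl⟩)
    · exact ⟨.r ((m.val : ℕ)), by
        simp only [toD, MonoidHom.mk'_apply, dbl_natCast hh.half, ZMod.natCast_zmod_val]⟩
    · exact ⟨.sr (((-m).val : ℕ)), by
        simp only [toD, MonoidHom.mk'_apply, dbl_natCast hh.half, ZMod.natCast_zmod_val]
        congr 2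
        ring⟩

theorem mem_range_toQ {s : S} :
    s ∈ hh.toQ.range ↔ (∃ m, s = qc x n (2 * m)) ∨ ∃ m, s = qc x n (2 * m + 1) * y := by
  constructor
  · rintro ⟨i | i, rfl⟩ <;> simp only [toQ, MonoidHom.mk'_apply, dbl]
    · exact Or.inl ⟨i.val, by push_cast; rfl⟩
    · exact Or.inr ⟨-(i.val : ZMod (2 ^ n)), by push_cast; congr 2; ring⟩
  · rintro (⟨m, rfl⟩ | ⟨m, rfl⟩)
    · exact ⟨.a ((m.val : ℕ)), by
        simp only [toQ, MonoidHom.mk'_apply, dbl_natCast hh.quarter, ZMod.natCast_zmod_val]⟩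
    · exact ⟨.xa (((-m).val : ℕ)), by
        simp only [toQ, MonoidHom.mk'_apply, dbl_natCast hh.quarter, ZMod.natCast_zmod_val]
        congr 2
        ring⟩

theorem card_range_toD : Nat.card hh.toD.range = 2 ^ n := by
  rw [← Nat.card_congr (MonoidHom.ofInjective hh.toD_inj).toEquiv, Nat.card_eq_fintype_card,
    DihedralGroup.card, hh.half]

theorem card_range_toQ : Nat.card hh.toQ.range = 2 ^ n := by
  rw [← Nat.card_congr (MonoidHom.ofInjective hh.toQ_inj).toEquiv, Nat.card_eq_fintype_card,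
    QuaternionGroup.card, ← hh.quarter]
  ring

theorem index_of_card {H : Subgroup S} (h : Nat.card H = 2 ^ n) : H.index = 2 := by
  have h1 := H.card_mul_index
  rw [h, hh.card, pow_succ] at h1
  exact Nat.eq_of_mul_eq_mul_left (Nat.two_pow_pos n) h1

theorem coatom_x : IsCoatom (Subgroup.zpowers x) :=
  have := hh.finite
  isCoatom_of_index_two hh.index_x

theorem coatom_toD : IsCoatom hh.toD.range :=
  have := hh.finite
  isCoatom_of_index_two (hh.index_of_card hh.card_range_toD)

theorem coatom_toQ : IsCoatom hh.toQ.range :=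
  have := hh.finite
  isCoatom_of_index_two (hh.index_of_card hh.card_range_toQ)

theorem c_mem_x (i : ZMod (2 ^ n)) : qc x n i ∈ Subgroup.zpowers x := Subgroup.npow_mem_zpowers x _

/-- An even power of `x` is a commutator. -/
theorem even_mem_commutator (m : ZMod (2 ^ n)) : qc x n (2 * m) ∈ commutator S := by
  obtain ⟨j, hj⟩ := hh.conj_shift 0 m
  rw [c_zero, one_mul, zero_add] at hj
  rw [commutator_def]
  have h := Subgroup.commutator_mem_commutator (Subgroup.mem_top (qc x n j)) (Subgroup.mem_top y)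
  rwa [commutatorElement_def, hj, mul_assoc, hh.y_inv, hh.y_sq, mul_one] at h

theorem frattini_le : ∀ s ∈ frattini S, ∃ m, s = qc x n (2 * m) := by
  intro s hs
  have h1 : s ∈ Subgroup.zpowers x := frattini_le_coatom hh.coatom_x hs
  have h2 := hh.mem_range_toD.1 (frattini_le_coatom hh.coatom_toD hs)
  rcases h2 with h2 | ⟨m, rfl⟩
  · exact h2
  · exfalso
    refine hh.y_notMem ?_
    have := mul_mem (inv_mem (hh.c_mem_x (2 * m))) h1
    rwa [inv_mul_cancel_left] at this

theorem commutator_eq_frattini : commutator S = frattini S := by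
  have := hh.finite
  haveI : Group.IsNilpotent S := hh.pGroup.isNilpotent
  refine le_antisymm Cfsg.Agent.Core.commutator_le_frattini fun s hs => ?_
  obtain ⟨m, rfl⟩ := hh.frattini_le s hs
  exact hh.even_mem_commutator m

theorem commutator_eq : commutator S = Subgroup.zpowers (qc x n 2) := by
  refine le_antisymm (fun s hs => ?_) (Subgroup.zpowers_le.2 ?_)
  · rw [hh.commutator_eq_frattini] at hs
    obtain ⟨m, rfl⟩ := hh.frattini_le s hs
    rw [← ZMod.natCast_zmod_val m, show (2 : ZMod (2 ^ n)) * (m.val : ℕ) = (m.val : ℕ) * 2 by ring,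
      ← hh.c_pow]
    exact Subgroup.npow_mem_zpowers _ _
  · have := hh.even_mem_commutator 1
    rwa [mul_one] at this

theorem normal_cases (N : Subgroup S) [hN : N.Normal] (hne : N ≠ ⊤) :
    N = Subgroup.zpowers x ∨ N = hh.toD.range ∨ N = hh.toQ.range ∨ N ≤ commutator S := by
  have := hh.finite
  by_cases hout : ∃ i, qc x n i * y ∈ N
  · obtain ⟨i, hi⟩ := hout
    have heven : ∀ m, qc x n (2 * m) ∈ N := fun m => by
      obtain ⟨j, hj⟩ := hh.conj_shift i m
      have h1 := hN.conj_mem _ hi (qc x n j)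
      rw [hj] at h1
      have h2 := mul_mem h1 (inv_mem hi)
      rwa [mul_inv_rev, ← hh.c_neg, hh.y_inv, mul_assoc, ← mul_assoc y, hh.y_sq, one_mul,
        ← hh.c_add, show i + 2 * m + -i = 2 * m by ring] at h2
    obtain ⟨l, rfl | rfl⟩ := parity i
    · refine Or.inr (Or.inl ?_)
      have hle : hh.toD.range ≤ N := fun s hs => by
        rcases hh.mem_range_toD.1 hs with ⟨m, rfl⟩ | ⟨m, rfl⟩
        · exact heven m
        · have := mul_mem (heven (m - l)) hi
          rwa [hh.c_mul_cy, show 2 * (m - l) + 2 * l = 2 * m by ring] at this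
      rcases hle.eq_or_lt with e | e
      · exact e.symm
      · exact absurd (hh.coatom_toD.2 N e) hne
    · refine Or.inr (Or.inr (Or.inl ?_))
      have hle : hh.toQ.range ≤ N := fun s hs => by
        rcases hh.mem_range_toQ.1 hs with ⟨m, rfl⟩ | ⟨m, rfl⟩
        · exact heven m
        · have := mul_mem (heven (m - l)) hi
          rwa [hh.c_mul_cy, show 2 * (m - l) + (2 * l + 1) = 2 * m + 1 by ring] at this
      rcases hle.eq_or_lt with e | e
      · exact e.symm
      · exact absurd (hh.coatom_toQ.2 N e) hne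
  push Not at hout
  by_cases hodd : ∃ m, qc x n (2 * m + 1) ∈ N
  · obtain ⟨m, hm⟩ := hodd
    refine Or.inl (le_antisymm (fun s hs => ?_) (Subgroup.zpowers_le.2 ?_))
    · rcases hh.cases s with ⟨i, rfl⟩ | ⟨i, rfl⟩
      · exact hh.c_mem_x i
      · exact absurd hs (hout i)
    · have h1 : qc x n (2 * m + 1) ∈ Subgroup.zpowers x := hh.c_mem_x _
      have h2 : Subgroup.zpowers (qc x n (2 * m + 1)) = Subgroup.zpowers x := by
        refine Subgroup.eq_of_le_of_card_ge (Subgroup.zpowers_le.2 h1) ?_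
        rw [Nat.card_zpowers, Nat.card_zpowers, hh.ordx]
        refine le_of_eq ?_
        have hd : orderOf (qc x n (2 * m + 1)) ∣ 2 ^ n :=
          (orderOf_dvd_of_mem_zpowers h1).trans hh.ordx.dvd
        obtain ⟨j, hj, he⟩ := (Nat.dvd_prime_pow Nat.prime_two).1 hd
        rcases eq_or_lt_of_le hj with rfl | hlt
        · exact he.symm
        · exfalso
          have h3 : qc x n (2 * m + 1) ^ 2 ^ (n - 1) = 1 := orderOf_dvd_iff_pow_eq_one.1
            (he ▸ pow_dvd_pow 2 (by omega))
          rw [hh.c_pow, hh.c_eq_one] at h3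
          push_cast at h3
          refine hh.h_ne ?_
          rw [qh] at *
          have h5 := hh.h_mul_odd m
          rw [qh] at h5
          rw [← h5]
          exact h3
      exact (Subgroup.zpowers_le.2 hm) (h2 ▸ Subgroup.mem_zpowers x)
  · push Not at hodd
    refine Or.inr (Or.inr (Or.inr fun s hs => ?_))
    rcases hh.cases s with ⟨i, rfl⟩ | ⟨i, rfl⟩
    · obtain ⟨m, rfl | rfl⟩ := parity i
      · exact hh.even_mem_commutator m
      · exact absurd hs (hodd m)
    · exact absurd hs (hout i)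

theorem coatom_cases (M : Subgroup S) (hM : IsCoatom M) :
    M = Subgroup.zpowers x ∨ M = hh.toD.range ∨ M = hh.toQ.range := by
  have := hh.finite
  haveI : Group.IsNilpotent S := hh.pGroup.isNilpotent
  haveI := Cfsg.Agent.Core.normal_of_isCoatom hM
  rcases hh.normal_cases M hM.1 with h | h | h | h
  · exact Or.inl h
  · exact Or.inr (Or.inl h)
  · exact Or.inr (Or.inr h)
  · exfalso
    have hle : commutator S < Subgroup.zpowers x := by
      refine lt_of_le_of_ne (hh.commutator_eq_frattini ▸ frattini_le_coatom hh.coatom_x) fun e => ?_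
      have hx : x ∈ frattini S := hh.commutator_eq_frattini ▸ e ▸ Subgroup.mem_zpowers x
      obtain ⟨m, hm⟩ := hh.frattini_le x hx
      nth_rewrite 1 [← hh.c_one] at hm
      exact hh.even_ne_odd m 0 ((hh.c_inj hm).symm.trans (by ring))
    exact hh.coatom_x.1 (hM.2 _ (lt_of_le_of_lt h hle))

theorem center_eq : Subgroup.center S = Subgroup.zpowers (qc x n (qh n)) := by
  refine le_antisymm (fun s hs => ?_) (Subgroup.zpowers_le.2 hh.h_mem_center)
  rw [Subgroup.mem_center_iff] at hs
  rcases hh.cases s with ⟨i, rfl⟩ | ⟨i, rfl⟩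
  · have h := hs y
    rw [hh.y_mul] at h
    have := hh.cy_inj h
    rcases hh.two_mul_eq_zero (hh.cancel_two_sub (j := i) (by linear_combination -this)) with e | e <;>
      rw [e]
    · rw [c_zero]; exact one_mem _
    · exact Subgroup.mem_zpowers _
  · exfalso
    have h := hs (qc x n 1)
    rw [hh.cy_mul_c, hh.c_mul_cy] at h
    have h2 := hh.cancel_two_sub (j := 1) (by linear_combination hh.cy_inj h)
    refine hh.q_ne ?_
    rw [hh.q_even, ← mul_one ((2 : ZMod (2 ^ n)) * 2 ^ (n - 3))]
    linear_combination (2 : ZMod (2 ^ n)) ^ (n - 3) * h2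

theorem involution_closure :
    Subgroup.closure {s : S | orderOf s = 2} = hh.toD.range := by
  refine le_antisymm ((Subgroup.closure_le _).2 fun s hs => ?_) fun s hs => ?_
  · rcases hh.order_two.1 hs with rfl | ⟨m, rfl⟩
    · refine hh.mem_range_toD.2 (Or.inl ⟨qq n, ?_⟩)
      rw [hh.two_q]
    · exact hh.mem_range_toD.2 (Or.inr ⟨m, rfl⟩)
  · have hy : y ∈ Subgroup.closure {s : S | orderOf s = 2} := Subgroup.subset_closure hh.ordy
    rcases hh.mem_range_toD.1 hs with ⟨m, rfl⟩ | ⟨m, rfl⟩
    · have h := mul_mem (Subgroup.subset_closure (k := {s : S | orderOf s = 2})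
        (hh.order_two.2 (Or.inr ⟨m, rfl⟩))) hy
      rwa [mul_assoc, hh.y_sq, mul_one] at h
    · exact Subgroup.subset_closure (hh.order_two.2 (Or.inr ⟨m, rfl⟩))

/-- A quaternion subgroup of order eight is generated by `c q` and an outside element of order 4. -/
theorem q8_eq {Q : Subgroup S} (e : Q ≃* QuaternionGroup 2) : ∃ m : ZMod (2 ^ n),
    Q = Subgroup.closure {qc x n (qq n), qc x n (2 * m + 1) * y} := by
  have := hh.finite
  have hcard : Nat.card Q = 8 := by
    rw [Nat.card_congr e.toEquiv, Nat.card_eq_fintype_card, QuaternionGroup.card]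
  set z := qc x n (qh n) with hz
  -- order four elements of `Q` and the involution
  have hel : ∀ g ∈ Q, g = 1 ∨ g = z ∨ orderOf g = 4 := fun g hg => by
    by_cases h4 : orderOf g = 4
    · exact Or.inr (Or.inr h4)
    by_cases h1 : g = 1
    · exact Or.inl h1
    refine Or.inr (Or.inl ?_)
    have hd : orderOf (e ⟨g, hg⟩) ∣ 4 := orderOf_dvd_of_pow_eq_one (by
      have hexp := Monoid.pow_exponent_eq_one (e ⟨g, hg⟩)
      have : Monoid.exponent (QuaternionGroup 2) = 4 := by
        rw [QuaternionGroup.exponent, show lcm 2 2 = 2 from rfl]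
      rwa [this] at hexp)
    rw [e.orderOf_eq, Subgroup.orderOf_mk] at hd
    have h2 : orderOf g = 2 := by
      obtain ⟨j, hj, he⟩ := (Nat.dvd_prime_pow Nat.prime_two (m := 2)).1 hd
      interval_cases j
      · exact absurd (orderOf_eq_one_iff.1 (by simpa using he)) h1
      · simpa using he
      · exact absurd he h4
    obtain ⟨w, hw⟩ : ∃ w ∈ Q, orderOf w = 4 :=
      ⟨_, (e.symm (QuaternionGroup.xa 0)).2, by
        rw [Subgroup.orderOf_coe, MulEquiv.orderOf_eq, QuaternionGroup.orderOf_xa]⟩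
    have hw2 : orderOf (w * w) = 2 := by
      rw [← pow_two, orderOf_pow_of_dvd two_ne_zero (by rw [hw.2]; norm_num), hw.2]
    have hsq : w * w = z := by
      rcases hh.order_four.1 hw.2 with (rfl | rfl) | ⟨m, rfl⟩
      · rw [← hh.c_add, ← two_mul, hh.two_q]
      · rw [← hh.c_add, hz]; congr 1; linear_combination -hh.two_q - hh.two_h
      · rw [hh.cy_sq, hh.h_mul_odd]
    -- `Q` has a single involution
    have huniq : ∀ u v : QuaternionGroup 2, orderOf u = 2 → orderOf v = 2 → u = v := by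
      intro u v hu hv
      rcases u with i | i
      · rcases v with j | j
        · rw [QuaternionGroup.orderOf_a] at hu hv
          have key : ∀ i : ZMod (2 * 2), (2 * 2) / Nat.gcd (2 * 2) i.val = 2 → i = 2 := by decide
          rw [key i hu, key j hv]
        · rw [QuaternionGroup.orderOf_xa] at hv; omega
      · rw [QuaternionGroup.orderOf_xa] at hu; omega
    have := huniq (e ⟨g, hg⟩) (e ⟨w * w, mul_mem hw.1 hw.1⟩)
      (by rw [e.orderOf_eq, Subgroup.orderOf_mk, h2]) (by rw [e.orderOf_eq, Subgroup.orderOf_mk, hw2])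
    rw [← hsq]
    exact congrArg Subtype.val (e.injective this)
  obtain ⟨m, hm⟩ : ∃ m, qc x n (2 * m + 1) * y ∈ Q := by
    by_contra! hall
    have hle : Q ≤ Subgroup.zpowers (qc x n (qq n)) := fun g hg => by
      have hzq : z ∈ Subgroup.zpowers (qc x n (qq n)) := by
        rw [hz, ← hh.two_q, two_mul, hh.c_add]
        exact mul_mem (Subgroup.mem_zpowers _) (Subgroup.mem_zpowers _)
      rcases hel g hg with rfl | rfl | h4
      · exact one_mem _
      · exact hzq
      · rcases hh.order_four.1 h4 with (rfl | rfl) | ⟨m, rfl⟩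
        · exact Subgroup.mem_zpowers _
        · rw [hh.c_neg]; exact inv_mem (Subgroup.mem_zpowers _)
        · exact absurd hg (hall m)
    have := Subgroup.card_le_of_le hle
    rw [hcard, Nat.card_zpowers, hh.order_four.2 (Or.inl (Or.inl rfl))] at this
    omega
  have hq : qc x n (qq n) ∈ Q := by
    by_contra hnot
    have hle : Q ≤ Subgroup.zpowers (qc x n (2 * m + 1) * y) := fun g hg => by
      have hzv : z ∈ Subgroup.zpowers (qc x n (2 * m + 1) * y) := by
        rw [hz, ← hh.h_mul_odd m, ← hh.cy_sq]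
        exact mul_mem (Subgroup.mem_zpowers _) (Subgroup.mem_zpowers _)
      rcases hel g hg with rfl | rfl | h4
      · exact one_mem _
      · exact hzv
      · rcases hh.order_four.1 h4 with (rfl | rfl) | ⟨l, rfl⟩
        · exact absurd hg hnot
        · exact absurd (by simpa [hh.c_neg] using inv_mem hg) hnot
        · have hp := mul_mem hg hm
          have hmemQ := hel _ hp
          rw [hh.cy_mul_cy] at hp hmemQ
          have hback : qc x n (2 * l + 1) * y = qc x n (2 * l + 1 + (qh n * (2 * m + 1) - (2 * m + 1))) *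
              (qc x n (2 * m + 1) * y)⁻¹ := by
            rw [← hh.cy_mul_cy, mul_inv_cancel_right]
          rw [hback]
          refine mul_mem ?_ (inv_mem (Subgroup.mem_zpowers _))
          rcases hmemQ with h | h | h
          · rw [h]; exact one_mem _
          · rw [h]; exact hzv
          · rcases hh.order_four.1 h with (h' | h') | ⟨k, h'⟩
            · exact absurd (h' ▸ hp) hnot
            · rw [h', hh.c_neg] at hp
              exact absurd (inv_mem_iff.1 hp) hnot
            · exact absurd h' (hh.c_ne _ _)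
    have := Subgroup.card_le_of_le hle
    rw [hcard, Nat.card_zpowers, hh.order_four.2 (Or.inr ⟨m, rfl⟩)] at this
    omega
  refine ⟨m, ?_⟩
  set C := Subgroup.closure {qc x n (qq n), qc x n (2 * m + 1) * y} with hC
  have hle : C ≤ Q := (Subgroup.closure_le _).2 (by rintro g (rfl | rfl); exacts [hq, hm])
  refine (Subgroup.eq_of_le_of_card_ge hle ?_).symm
  have hlt : Subgroup.zpowers (qc x n (qq n)) < C := by
    refine lt_of_le_of_ne (Subgroup.zpowers_le.2 (Subgroup.subset_closure (Or.inl rfl))) fun e' => ?_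
    have : qc x n (2 * m + 1) * y ∈ Subgroup.zpowers (qc x n (qq n)) :=
      e' ▸ Subgroup.subset_closure (Or.inr rfl)
    have := (Subgroup.zpowers_le.2 (hh.c_mem_x _)) this
    exact hh.y_notMem (by simpa using mul_mem (inv_mem (hh.c_mem_x (2 * m + 1))) this)
  obtain ⟨k, hk⟩ := Subgroup.card_dvd_of_le hlt.le
  have h4 : Nat.card (Subgroup.zpowers (qc x n (qq n))) = 4 := by
    rw [Nat.card_zpowers, hh.order_four.2 (Or.inl (Or.inl rfl))]
  have hk1 : k ≠ 1 := fun e' => hlt.ne (Subgroup.eq_of_le_of_card_ge hlt.le (by rw [hk, e', mul_one]))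
  have hk0 : k ≠ 0 := fun e' => (Nat.card_pos (α := C)).ne' (by rw [hk, e', mul_zero])
  rw [hcard, hk, h4]
  omega

theorem q8_mem_x {m j : ZMod (2 ^ n)}
    (h : qc x n j ∈ Subgroup.closure {qc x n (qq n), qc x n (2 * m + 1) * y}) : 4 * j = 0 := by
  have key : ∀ g ∈ Subgroup.closure {qc x n (qq n), qc x n (2 * m + 1) * y},
      (∀ i, g = qc x n i → 4 * i = 0) ∧ (∀ i, g = qc x n i * y → 4 * (i - (2 * m + 1)) = 0) := by
    have hneg : ∀ i : ZMod (2 ^ n), 4 * (qh n * i) = 0 := fun i => by linear_combination 2 * i * hh.two_h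
    have h4q : 4 * qq n = 0 := by linear_combination 2 * hh.two_q + hh.two_h
    intro g hg
    induction hg using Subgroup.closure_induction with
    | mem a ha =>
      rcases ha with rfl | rfl
      · exact ⟨fun i e => (hh.c_inj e) ▸ h4q, fun i e => absurd e (hh.c_ne _ _)⟩
      · exact ⟨fun i e => absurd e.symm (hh.c_ne _ _),
          fun i e => by rw [← hh.cy_inj e, sub_self, mul_zero]⟩
    | one => exact ⟨fun i e => by rw [← hh.c_inj (c_zero.trans e), mul_zero],
        fun i e => absurd e.symm (hh.cy_ne_one i)⟩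
    | mul a b _ _ iha ihb =>
      rcases hh.cases a with ⟨i, rfl⟩ | ⟨i, rfl⟩ <;> rcases hh.cases b with ⟨k, rfl⟩ | ⟨k, rfl⟩
      · refine ⟨fun l e => ?_, fun l e => ?_⟩
        · rw [← hh.c_add] at e
          rw [← hh.c_inj e]; linear_combination iha.1 i rfl + ihb.1 k rfl
        · rw [← hh.c_add] at e; exact absurd e (hh.c_ne _ _)
      · refine ⟨fun l e => ?_, fun l e => ?_⟩
        · rw [hh.c_mul_cy] at e; exact absurd e.symm (hh.c_ne _ _)
        · rw [hh.c_mul_cy] at e
          rw [← hh.cy_inj e]; linear_combination iha.1 i rfl + ihb.2 k rfl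
      · refine ⟨fun l e => ?_, fun l e => ?_⟩
        · rw [hh.cy_mul_c] at e; exact absurd e.symm (hh.c_ne _ _)
        · rw [hh.cy_mul_c] at e
          rw [← hh.cy_inj e]; linear_combination iha.2 i rfl - ihb.1 k rfl + hneg k
      · refine ⟨fun l e => ?_, fun l e => ?_⟩
        · rw [hh.cy_mul_cy] at e
          rw [← hh.c_inj e]; linear_combination iha.2 i rfl - ihb.2 k rfl + hneg k
        · rw [hh.cy_mul_cy] at e; exact absurd e (hh.c_ne _ _)
    | inv a _ iha =>
      rcases hh.cases a with ⟨i, rfl⟩ | ⟨i, rfl⟩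
      · refine ⟨fun l e => ?_, fun l e => ?_⟩
        · rw [← hh.c_neg] at e; rw [← hh.c_inj e]; linear_combination -iha.1 i rfl
        · rw [← hh.c_neg] at e; exact absurd e (hh.c_ne _ _)
      · have hi : (qc x n i * y)⁻¹ = qc x n (i + qh n * i) * y := inv_eq_of_mul_eq_one_right (by
          rw [hh.cy_mul_cy, hh.c_eq_one]; linear_combination i * hh.h_sq)
        refine ⟨fun l e => ?_, fun l e => ?_⟩
        · rw [hi] at e; exact absurd e.symm (hh.c_ne _ _)
        · rw [hi] at e; rw [← hh.cy_inj e]; linear_combination iha.2 i rfl + hneg i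
  exact (key _ h).1 j rfl

theorem mem_q8_of_four {m j : ZMod (2 ^ n)} (h : 4 * j = 0) :
    qc x n j ∈ Subgroup.closure {qc x n (qq n), qc x n (2 * m + 1) * y} := by
  have hq : qc x n (qq n) ∈ Subgroup.closure {qc x n (qq n), qc x n (2 * m + 1) * y} :=
    Subgroup.subset_closure (Or.inl rfl)
  rcases hh.four_mul_eq_zero h with rfl | rfl | rfl | rfl
  · rw [c_zero]; exact one_mem _
  · rw [← hh.two_q, two_mul (qq n), hh.c_add (qq n)]; exact mul_mem hq hq
  · exact hq
  · rw [hh.c_neg]; exact inv_mem hq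

theorem q8_conj {Q₁ Q₂ : Subgroup S} (e₁ : Q₁ ≃* QuaternionGroup 2) (e₂ : Q₂ ≃* QuaternionGroup 2) :
    ∃ s : S, Q₁.map (MulAut.conj s).toMonoidHom = Q₂ := by
  obtain ⟨m, rfl⟩ := hh.q8_eq e₁
  obtain ⟨l, rfl⟩ := hh.q8_eq e₂
  obtain ⟨j, hj⟩ := hh.conj_shift (2 * m + 1) (l - m)
  rw [show 2 * m + 1 + 2 * (l - m) = 2 * l + 1 by ring] at hj
  refine ⟨qc x n j, ?_⟩
  rw [MonoidHom.map_closure, Set.image_pair]
  congr 2
  · show qc x n j * qc x n (qq n) * (qc x n j)⁻¹ = _
    rw [← hh.c_add, add_comm, hh.c_add, mul_inv_cancel_right]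
  · rw [Set.singleton_eq_singleton_iff]
    exact hj

theorem q8_centralizer {Q : Subgroup S} (e : Q ≃* QuaternionGroup 2) :
    Subgroup.centralizer (Q : Set S) = (Subgroup.center Q).map Q.subtype := by
  obtain ⟨m, hQ⟩ := hh.q8_eq e
  have hq : qc x n (qq n) ∈ Q := hQ ▸ Subgroup.subset_closure (Or.inl rfl)
  have hv : qc x n (2 * m + 1) * y ∈ Q := hQ ▸ Subgroup.subset_closure (Or.inr rfl)
  refine le_antisymm (fun s hs => ?_) ?_
  · rw [Subgroup.mem_centralizer_iff] at hs
    have hsQ : s ∈ Q := by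
      rcases hh.cases s with ⟨j, rfl⟩ | ⟨j, rfl⟩
      · have h := hs _ hv
        rw [hh.cy_mul_c, hh.c_mul_cy] at h
        have h2 := hh.cancel_two_sub (j := j) (by linear_combination -hh.cy_inj h)
        rw [hQ]
        exact hh.mem_q8_of_four (by linear_combination 2 * h2)
      · exfalso
        have h := hs _ hq
        rw [hh.c_mul_cy, hh.cy_mul_c] at h
        exact hh.h_ne (by linear_combination hh.cy_inj h - hh.two_q + qh n * hh.q_even + 2 ^ (n - 3) * hh.two_h)
    exact ⟨⟨s, hsQ⟩, Subgroup.mem_center_iff.2 fun g => Subtype.ext (hs g g.2), rfl⟩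
  · rintro _ ⟨s, hs, rfl⟩
    exact Subgroup.mem_centralizer_iff.2 fun g hg =>
      congrArg Subtype.val (Subgroup.mem_center_iff.1 hs ⟨g, hg⟩)

theorem q8_relIndex {Q : Subgroup S} (e : Q ≃* QuaternionGroup 2) :
    Q.relIndex (Subgroup.normalizer (Q : Set S)) = 2 := by
  have := hh.finite
  obtain ⟨m, hQ⟩ := hh.q8_eq e
  have hq : qc x n (qq n) ∈ Q := hQ ▸ Subgroup.subset_closure (Or.inl rfl)
  have hv : qc x n (2 * m + 1) * y ∈ Q := hQ ▸ Subgroup.subset_closure (Or.inr rfl)
  have hx4 : ∀ j, qc x n j ∈ Q ↔ 4 * j = 0 := fun j => by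
    rw [hQ]; exact ⟨hh.q8_mem_x, hh.mem_q8_of_four⟩
  have hN : ∀ j, qc x n j ∈ Subgroup.normalizer (Q : Set S) ↔ 4 * ((2 - qh n) * j) = 0 := fun j => by
    have hconj : qc x n j * (qc x n (2 * m + 1) * y) * (qc x n j)⁻¹ =
        qc x n ((2 - qh n) * j) * (qc x n (2 * m + 1) * y) := by
      rw [hh.c_conj_cy, hh.c_mul_cy, add_comm]
    constructor
    · intro h
      have h1 := (Subgroup.mem_normalizer_iff.1 h _).1 hv
      rw [hconj, Q.mul_mem_cancel_right hv] at h1
      exact (hx4 _).1 h1
    · intro h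
      refine Subgroup.mem_normalizer_iff_map_conj_eq.2 (Subgroup.eq_of_le_of_card_ge ?_ ?_)
      · conv_lhs => rw [hQ, MonoidHom.map_closure, Set.image_pair]
        refine (Subgroup.closure_le _).2 ?_
        rintro g (rfl | rfl)
        · show qc x n j * qc x n (qq n) * (qc x n j)⁻¹ ∈ Q
          rw [← hh.c_add, add_comm, hh.c_add, mul_inv_cancel_right]
          exact hq
        · show qc x n j * (qc x n (2 * m + 1) * y) * (qc x n j)⁻¹ ∈ Q
          rw [hconj]
          exact mul_mem ((hx4 _).2 h) hv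
      · rw [Subgroup.card_map_of_injective (MulAut.conj _).injective]
  set q' : ZMod (2 ^ n) := 2 ^ (n - 3) * (1 + qq n) with hq'
  have hq'eq : (2 - qh n) * q' = qq n := by rw [hq', hh.solve, ← hh.q_even]
  have h4q : 4 * qq n = 0 := by linear_combination 2 * hh.two_q + hh.two_h
  have hq'4 : 4 * q' ≠ 0 := fun h => hh.h_ne (by
    rw [← hh.two_q, ← hq'eq]; linear_combination h - q' * hh.two_h)
  rw [Subgroup.relIndex, Subgroup.index_eq_two_iff]
  refine ⟨⟨qc x n q', (hN _).2 (by rw [hq'eq, h4q])⟩, fun b => ?_⟩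
  simp only [Subgroup.mem_subgroupOf, Subgroup.coe_mul]
  obtain ⟨j, g, hg, hbe⟩ : ∃ j, ∃ g ∈ Q, (b : S) = g * qc x n j := by
    rcases hh.cases (b : S) with ⟨j, hj⟩ | ⟨j, hj⟩
    · exact ⟨j, 1, one_mem _, by rw [one_mul, hj]⟩
    · refine ⟨qh n * (j - (2 * m + 1)) - (j - (2 * m + 1)), _, hv, ?_⟩
      rw [hj, hh.cy_mul_c]
      congr 2
      linear_combination -(j - (2 * m + 1)) * hh.h_sq + (j - (2 * m + 1)) * hh.two_h
  have hjN := (hN j).1 (by
    have h1 := mul_mem (inv_mem (Subgroup.le_normalizer hg)) b.2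
    rwa [hbe, inv_mul_cancel_left] at h1)
  have hor : qc x n j ∈ Q ∨ qc x n j * qc x n q' ∈ Q := by
    rw [← hh.c_add, hx4, hx4]
    have h8 : 2 * (4 * j) = 0 := by linear_combination hjN + 2 * j * hh.two_h
    rcases hh.two_mul_eq_zero h8 with h | h
    · exact Or.inl h
    · refine Or.inr ?_
      have e1 : 4 * q' = qh n := by linear_combination 2 * hq'eq + q' * hh.two_h + hh.two_q
      linear_combination h + e1 + hh.two_h
  have hnot : qc x n q' ∉ Q := fun h => hq'4 ((hx4 _).1 h)
  rw [hbe, mul_assoc, Q.mul_mem_cancel_left hg, Q.mul_mem_cancel_left hg]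
  rcases hor with h | h
  · exact Or.inr ⟨h, fun h2 => hnot ((Q.mul_mem_cancel_left h).1 h2)⟩
  · exact Or.inl ⟨h, fun h2 => hnot ((Q.mul_mem_cancel_left h2).1 h)⟩

end QDGen

end Cfsg.Agent.Invol
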