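import Cfsg.Agent.Invol.QDFusion

/-!
The fusion tables of a group with a quasi-dihedral Sylow 2-subgroup.
-/

set_option autoImplicit false

namespace Cfsg.Agent.Invol

open Subgroup

universe u

variable {G : Type u} [Group G]

theorem sylow_conj_into [Finite G] (S : Sylow 2 G) {N : Subgroup G} (hSN : (S : Subgroup G) ≤ N)
    {W : Subgroup G} (hW : IsPGroup 2 W) (hle : W ≤ N) :
    ∃ d ∈ N, W.map (MulAut.conj d).toMonoidHom ≤ (S : Subgroup G) := by
  obtain ⟨R, hR⟩ := (hW.comap_subtype (K := N)).exists_le_sylow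
  obtain ⟨c, hc⟩ := MulAction.exists_smul_eq N R (S.subtype hSN)
  refine ⟨c, c.2, ?_⟩
  rintro _ ⟨w, hw, rfl⟩
  have h1 : c * ⟨w, hle hw⟩ * c⁻¹ ∈ ((S.subtype hSN : Sylow 2 _) : Subgroup N) := by
    rw [← hc, Sylow.coe_subgroup_smul]
    exact ⟨⟨w, hle hw⟩, hR (mem_subgroupOf.2 hw), rfl⟩
  exact h1

variable {S : Sylow 2 G} {x y : (S : Subgroup G)} {n : ℕ}

/-- The four-group has automiser of order six. -/
def QDGen.T6 (hh : QDGen x y n) : Prop :=
  (centralizer (hh.tG : Set G)).relIndex (normalizer (hh.tG : Set G)) = 6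

/-- The quaternion group of order eight has automiser of order six. -/
def QDGen.Q6 (hh : QDGen x y n) : Prop :=
  (hh.qG ⊔ centralizer (hh.qG : Set G)).relIndex (normalizer (hh.qG : Set G)) = 6

namespace QDGen

variable (hh : QDGen x y n)
include hh

theorem mem_toQ {g : G} :
    g ∈ hh.toQ.range.map (S : Subgroup G).subtype ↔
      (∃ m, g = qu x n (2 * m)) ∨ ∃ m, g = qv x y n (2 * m + 1) := by
  constructor
  · rintro ⟨s, hs, rfl⟩
    rcases hh.mem_range_toQ.1 hs with ⟨m, rfl⟩ | ⟨m, rfl⟩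
    exacts [Or.inl ⟨m, rfl⟩, Or.inr ⟨m, rfl⟩]
  · rintro (⟨m, rfl⟩ | ⟨m, rfl⟩)
    exacts [⟨_, hh.mem_range_toQ.2 (Or.inl ⟨m, rfl⟩), rfl⟩, ⟨_, hh.mem_range_toQ.2 (Or.inr ⟨m, rfl⟩), rfl⟩]

theorem mem_toD {g : G} :
    g ∈ hh.toD.range.map (S : Subgroup G).subtype ↔
      (∃ m, g = qu x n (2 * m)) ∨ ∃ m, g = qv x y n (2 * m) := by
  constructor
  · rintro ⟨s, hs, rfl⟩
    rcases hh.mem_range_toD.1 hs with ⟨m, rfl⟩ | ⟨m, rfl⟩
    exacts [Or.inl ⟨m, rfl⟩, Or.inr ⟨m, rfl⟩]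
  · rintro (⟨m, rfl⟩ | ⟨m, rfl⟩)
    exacts [⟨_, hh.mem_range_toD.2 (Or.inl ⟨m, rfl⟩), rfl⟩, ⟨_, hh.mem_range_toD.2 (Or.inr ⟨m, rfl⟩), rfl⟩]

theorem q_even' : ∃ m, qq n = 2 * m := ⟨_, hh.q_even⟩

theorem even_mem {H : Subgroup G} (hH : H.index = 2) (m : ZMod (2 ^ n)) : qu x n (2 * m) ∈ H := by
  rw [two_mul, ← hh.qu_mul_qu]
  exact (Subgroup.mul_mem_iff_of_index_two hH).2 Iff.rfl

variable [Finite G]

theorem tG_iso_conj {V : Subgroup G} (hV : V ≤ (S : Subgroup G)) (hK : IsKleinFour V) :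
    ∃ s ∈ (S : Subgroup G), hh.tG.map (MulAut.conj s).toMonoidHom = V := by
  have hk : ∀ W : Subgroup G, W ≤ (S : Subgroup G) → IsKleinFour W → IsKleinFour (W.subgroupOf (S : Subgroup G)) :=
    fun W hW h => ⟨(Nat.card_congr (subgroupOfEquivOfLe hW).toEquiv).trans h.card_four,
      (Monoid.exponent_eq_of_mulEquiv (subgroupOfEquivOfLe hW)).trans h.exponent_two⟩
  obtain ⟨m, hm⟩ := hh.klein_eq (hk _ hh.tG_le hh.tG_klein)
  obtain ⟨s, hs⟩ := hh.klein_conj (hk _ hh.tG_le hh.tG_klein) hm (hk _ hV hK)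
  refine ⟨s, s.2, ?_⟩
  rw [← map_subgroupOf_eq_of_le hV, ← hs]
  conv_lhs => rw [← map_subgroupOf_eq_of_le hh.tG_le]
  rw [Subgroup.map_map, Subgroup.map_map]
  rfl

theorem qG_iso_conj {V : Subgroup G} (hV : V ≤ (S : Subgroup G)) (e : V ≃* QuaternionGroup 2) :
    ∃ s ∈ (S : Subgroup G), hh.qG.map (MulAut.conj s).toMonoidHom = V := by
  obtain ⟨eQ⟩ := hh.exists_qG_iso
  obtain ⟨s, hs⟩ := hh.q8_conj ((subgroupOfEquivOfLe hh.qG_le).trans eQ) ((subgroupOfEquivOfLe hV).trans e)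
  refine ⟨s, s.2, ?_⟩
  rw [← map_subgroupOf_eq_of_le hV, ← hs]
  conv_lhs => rw [← map_subgroupOf_eq_of_le hh.qG_le]
  rw [Subgroup.map_map, Subgroup.map_map]
  rfl

theorem qv_h_isConj : IsConj (qv x y n 0) (qv x y n (qh n)) :=
  isConj_iff.2 ⟨_, hh.qv_h_conj⟩

theorem fuses_of_T6 (h : hh.T6) : IsConj (qu x n (qh n)) (qv x y n 0) := by
  rcases hh.T_auto with ⟨h', -⟩ | ⟨-, m, hm, -, hmz⟩
  · rw [QDGen.T6, h'] at h; omega
  rcases (mem_normalizer_iff.1 hm (qu x n (qh n))).1 (Or.inr (Or.inl rfl)) with e | e | e | e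
  · exact absurd (hh.z_order.symm.trans (orderOf_eq_one_iff.2 (conj_eq_one_iff.1 e))) (by norm_num)
  · exact absurd e hmz
  · exact isConj_iff.2 ⟨m, e⟩
  · exact (isConj_iff.2 ⟨m, e⟩).trans hh.qv_h_isConj.symm

theorem T6_of_fuses (hc : IsConj (qv x y n 0) (qu x n (qh n))) : hh.T6 := by
  obtain ⟨g, hg⟩ := isConj_iff.1 hc
  have hcomm : ∀ a ∈ hh.tG, ∀ b ∈ hh.tG, a * b = b * a := fun a ha b hb =>
    congrArg Subtype.val (mul_comm_of_exponent_two hh.tG_klein.exponent_two (⟨a, ha⟩ : hh.tG) ⟨b, hb⟩)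
  have hle : hh.tG.map (MulAut.conj g).toMonoidHom ≤ centralizer ({qu x n (qh n)} : Set G) := by
    rintro _ ⟨w, hw, rfl⟩
    rw [mem_centralizer_singleton_iff, ← hg]
    show MulAut.conj g w * MulAut.conj g (qv x y n 0) = MulAut.conj g (qv x y n 0) * MulAut.conj g w
    rw [← map_mul, ← map_mul, hcomm w hw _ (Or.inr (Or.inr (Or.inl rfl)))]
  obtain ⟨c, hc0, hcS⟩ := sylow_conj_into_centralizer S (fun s hs => hh.z_comm hs)
    ((S.2.to_le hh.tG_le).map (MulAut.conj g).toMonoidHom) hle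
  rw [map_conj_conj] at hcS
  have hK : IsKleinFour (hh.tG.map (MulAut.conj (c * g)).toMonoidHom) := by
    let e := hh.tG.equivMapOfInjective (MulAut.conj (c * g)).toMonoidHom (MulAut.conj (c * g)).injective
    exact ⟨(Nat.card_congr e.toEquiv).symm.trans hh.tG_klein.card_four,
      (Monoid.exponent_eq_of_mulEquiv e).symm.trans hh.tG_klein.exponent_two⟩
  obtain ⟨s, hs, hse⟩ := hh.tG_iso_conj hcS hK
  set m := s⁻¹ * (c * g) with hm
  have hmN : m ∈ normalizer (hh.tG : Set G) := mem_normalizer_of_map_eq' (by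
    rw [hm, ← map_conj_conj, ← hse, map_conj_conj, inv_mul_cancel, map_one]
    exact Subgroup.map_id _)
  have hmy : m * qv x y n 0 * m⁻¹ = qu x n (qh n) := by
    calc m * qv x y n 0 * m⁻¹ = s⁻¹ * (c * (g * qv x y n 0 * g⁻¹) * c⁻¹) * s := by rw [hm]; group
      _ = s⁻¹ * (qu x n (qh n) * s) := by rw [hg, hc0, mul_assoc]
      _ = qu x n (qh n) := by rw [← hh.z_comm hs, inv_mul_cancel_left]
  rcases hh.T_auto with ⟨-, h⟩ | ⟨h, -⟩
  · exfalso
    exact hh.qu_ne_qv _ _ (mul_left_cancel (mul_right_cancel ((h m hmN).trans hmy.symm)))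
  · exact h

theorem fuses_of_Q6 (h : hh.Q6) : IsConj (qu x n (qq n)) (qv x y n 1) := by
  rcases hh.Q_auto with ⟨h', -⟩ | ⟨-, m, hm, -, hmC⟩
  · rw [QDGen.Q6, h'] at h; omega
  have ho : orderOf (m * qu x n (qq n) * m⁻¹) = 4 := (Cfsg.Agent.Invol.orderOf_conj m _).trans hh.q_order
  have hAQ : qu x n (qq n) ∈ hh.qG :=
    ⟨qq n, by linear_combination 2 * hh.two_q + hh.two_h, Or.inl rfl⟩
  obtain ⟨i, hi, e | e⟩ := (mem_normalizer_iff.1 hm _).1 hAQ
  · exfalso
    refine hmC (mem_normalizer_of_map_eq' (eq_of_le_of_card_ge ?_ ?_))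
    · rw [MonoidHom.map_zpowers]
      exact zpowers_le.2 (by
        show m * qu x n (qq n) * m⁻¹ ∈ _
        rw [e]; exact hh.qu_mem_zpowers_q hi)
    · rw [card_map_of_injective (MulAut.conj m).injective]
  · obtain ⟨k, rfl | rfl⟩ := parity i
    · refine (isConj_iff.2 ⟨m, e⟩).trans ?_
      rw [add_comm]; exact (hh.isConj_odd' k).symm
    · exfalso
      refine hh.h_ne ?_
      rw [← hh.h_mul_odd k]
      linear_combination (2 : ZMod (2 ^ n)) ^ (n - 3) * hi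
        + (2 * k + 1) * (2 * hh.q_even - hh.two_q)

theorem Q6_of_fuses (hc : IsConj (qv x y n 1) (qu x n (qq n))) : hh.Q6 := by
  obtain ⟨g, hg⟩ := isConj_iff.1 hc
  obtain ⟨eQ⟩ := hh.exists_qG_iso
  set A := qu x n (qq n) with hA
  have h1i : ∀ i, 4 * i = 0 → qu x n i ∈ normalizer ((zpowers (qv x y n 1) : Subgroup G) : Set G) := by
    intro i hi
    refine mem_normalizer_of_map_eq' ?_
    rw [MonoidHom.map_zpowers, show (MulAut.conj (qu x n i)).toMonoidHom (qv x y n 1) =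
      qu x n i * qv x y n 1 * (qu x n i)⁻¹ from rfl, hh.qu_conj_qv]
    have hhi : qh n * i = 0 := by
      rcases hh.four_mul_eq_zero hi with rfl | rfl | rfl | rfl
      · exact mul_zero _
      · exact hh.h_sq
      · exact hh.h_q
      · rw [mul_neg, hh.h_q, neg_zero]
    rcases hh.two_mul_eq_zero (i := 2 * i) (by linear_combination hi) with e | e
    · rw [show 1 + (2 - qh n) * i = 1 by linear_combination e - hhi]
    · rw [show 1 + (2 - qh n) * i = 1 + qh n by linear_combination e - hhi,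
        show qv x y n (1 + qh n) = (qv x y n 1)⁻¹ from (inv_eq_of_mul_eq_one_right (by
          rw [hh.qv_mul_qv, show (1 : ZMod (2 ^ n)) + (qh n * (1 + qh n) - (1 + qh n)) = 0 by
            linear_combination hh.h_sq, qu_zero])).symm, zpowers_inv]
  have hN : hh.qG.map (MulAut.conj g).toMonoidHom ≤ normalizer ((zpowers A : Subgroup G) : Set G) := by
    have h := le_normalizer_map (MulAut.conj g).toMonoidHom (H := zpowers (qv x y n 1))
    rw [MonoidHom.map_zpowers, show (MulAut.conj g).toMonoidHom (qv x y n 1) = A from hg] at h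
    refine (Subgroup.map_mono ?_).trans h
    rintro _ ⟨i, hi, rfl | rfl⟩
    · exact h1i i hi
    · rw [show qv x y n (1 + i) = qu x n i * qv x y n 1 by rw [hh.qu_mul_qv, add_comm]]
      exact mul_mem (h1i i hi) (le_normalizer (mem_zpowers _))
  obtain ⟨d, hd, hdS⟩ := sylow_conj_into S hh.sylow_le_normalizer_q
    ((S.2.to_le hh.qG_le).map (MulAut.conj g).toMonoidHom) hN
  rw [map_conj_conj] at hdS
  obtain ⟨s, hs, hse⟩ := hh.qG_iso_conj hdS
    ((hh.qG.equivMapOfInjective (MulAut.conj (d * g)).toMonoidHom (MulAut.conj (d * g)).injective).symm.trans eQ)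
  set m := s⁻¹ * (d * g) with hm
  have hmN : m ∈ normalizer (hh.qG : Set G) := mem_normalizer_of_map_eq' (by
    rw [hm, ← map_conj_conj, ← hse, map_conj_conj, inv_mul_cancel, map_one]
    exact Subgroup.map_id _)
  have hmem : m * qv x y n 1 * m⁻¹ ∈ zpowers A := by
    have h1 : s⁻¹ * d ∈ normalizer ((zpowers A : Subgroup G) : Set G) :=
      mul_mem (inv_mem (hh.sylow_le_normalizer_q hs)) hd
    have h2 : m * qv x y n 1 * m⁻¹ = (s⁻¹ * d) * (g * qv x y n 1 * g⁻¹) * (s⁻¹ * d)⁻¹ := by rw [hm]; group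
    rw [h2, hg]
    exact (mem_normalizer_iff.1 h1 A).1 (mem_zpowers A)
  rcases hh.Q_auto with ⟨-, h⟩ | ⟨h, -⟩
  · exfalso
    obtain ⟨k, -, hk⟩ := hh.mem_zpowers_q ((mem_normalizer_iff.1 (h hmN) _).2 hmem)
    exact hh.qu_ne_qv _ _ hk.symm
  · exact h

theorem T2_or_T6 :
    (centralizer (hh.tG : Set G)).relIndex (normalizer (hh.tG : Set G)) = 2 ∨ hh.T6 :=
  hh.T_auto.imp And.left And.left

theorem Q2_or_Q6 :
    (hh.qG ⊔ centralizer (hh.qG : Set G)).relIndex (normalizer (hh.qG : Set G)) = 2 ∨ hh.Q6 :=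
  hh.Q_auto.imp And.left And.left

theorem involution_isConj {t : G} (ht : orderOf t = 2) :
    IsConj (qu x n (qh n)) t ∨ IsConj (qv x y n 0) t := by
  have : Fact (Nat.Prime 2) := ⟨Nat.prime_two⟩
  obtain ⟨d, hd⟩ := exists_conj_mem_of_isPGroup S (x := t) ⟨1, by rw [ht, pow_one]⟩
  have hc : IsConj t (d * t * d⁻¹) := isConj_iff.2 ⟨d, rfl⟩
  rcases hh.involution_cases hd ((Cfsg.Agent.Invol.orderOf_conj d t).trans ht) with e | ⟨m, e⟩ <;>
    rw [e] at hc
  · exact Or.inl hc.symm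
  · exact Or.inr ((hh.isConj_even' m).trans hc.symm)

theorem four_isConj {t : G} (ht : orderOf t = 4) :
    IsConj (qu x n (qq n)) t ∨ IsConj (qv x y n 1) t := by
  have : Fact (Nat.Prime 2) := ⟨Nat.prime_two⟩
  obtain ⟨d, hd⟩ := exists_conj_mem_of_isPGroup S (x := t) ⟨2, by rw [ht]; norm_num⟩
  have hc : IsConj t (d * t * d⁻¹) := isConj_iff.2 ⟨d, rfl⟩
  rcases hh.four_cases hd ((Cfsg.Agent.Invol.orderOf_conj d t).trans ht) with (e | e) | ⟨m, e⟩ <;>
    rw [e] at hc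
  · exact Or.inl hc.symm
  · exact Or.inl (hh.isConj_neg_q.trans hc.symm)
  · exact Or.inr ((hh.isConj_odd' m).trans hc.symm)

theorem count_two_T6 (h : hh.T6) :
    Nat.card {C : ConjClasses G // ∃ t : G, orderOf t = 2 ∧ ConjClasses.mk t = C} = 1 := by
  classical
  rw [card_classes_eq 2 {ConjClasses.mk (qu x n (qh n))} (fun t ht => ?_) (fun C hC => ?_)]
  · rfl
  · rw [Finset.mem_singleton, ConjClasses.mk_eq_mk_iff_isConj]
    rcases hh.involution_isConj ht with e | e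
    exacts [e.symm, ((hh.fuses_of_T6 h).trans e).symm]
  · rw [Finset.mem_singleton] at hC
    exact ⟨_, hh.z_order, hC.symm⟩

theorem count_two_T2 (h : ¬ hh.T6) :
    Nat.card {C : ConjClasses G // ∃ t : G, orderOf t = 2 ∧ ConjClasses.mk t = C} = 2 := by
  classical
  rw [card_classes_eq 2 {ConjClasses.mk (qu x n (qh n)), ConjClasses.mk (qv x y n 0)}
    (fun t ht => ?_) (fun C hC => ?_)]
  · refine Finset.card_pair ?_
    rw [ne_eq, ConjClasses.mk_eq_mk_iff_isConj]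
    exact fun hc => h (hh.T6_of_fuses hc.symm)
  · simp only [Finset.mem_insert, Finset.mem_singleton, ConjClasses.mk_eq_mk_iff_isConj]
    exact (hh.involution_isConj ht).imp IsConj.symm IsConj.symm
  · simp only [Finset.mem_insert, Finset.mem_singleton] at hC
    rcases hC with rfl | rfl
    exacts [⟨_, hh.z_order, rfl⟩, ⟨_, hh.y_order, rfl⟩]

theorem count_four_Q6 (h : hh.Q6) :
    Nat.card {C : ConjClasses G // ∃ t : G, orderOf t = 4 ∧ ConjClasses.mk t = C} = 1 := by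
  classical
  rw [card_classes_eq 4 {ConjClasses.mk (qu x n (qq n))} (fun t ht => ?_) (fun C hC => ?_)]
  · rfl
  · rw [Finset.mem_singleton, ConjClasses.mk_eq_mk_iff_isConj]
    rcases hh.four_isConj ht with e | e
    exacts [e.symm, ((hh.fuses_of_Q6 h).trans e).symm]
  · rw [Finset.mem_singleton] at hC
    exact ⟨_, hh.q_order, hC.symm⟩

theorem count_four_Q2 (h : ¬ hh.Q6) :
    Nat.card {C : ConjClasses G // ∃ t : G, orderOf t = 4 ∧ ConjClasses.mk t = C} = 2 := by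
  classical
  rw [card_classes_eq 4 {ConjClasses.mk (qu x n (qq n)), ConjClasses.mk (qv x y n 1)}
    (fun t ht => ?_) (fun C hC => ?_)]
  · refine Finset.card_pair ?_
    rw [ne_eq, ConjClasses.mk_eq_mk_iff_isConj]
    exact fun hc => h (hh.Q6_of_fuses hc.symm)
  · simp only [Finset.mem_insert, Finset.mem_singleton, ConjClasses.mk_eq_mk_iff_isConj]
    exact (hh.four_isConj ht).imp IsConj.symm IsConj.symm
  · simp only [Finset.mem_insert, Finset.mem_singleton] at hC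
    rcases hC with rfl | rfl
    exacts [⟨_, hh.q_order, rfl⟩, ⟨_, hh.v_order, rfl⟩]

theorem index_two_of_T2 (h : ¬ hh.T6) : ∃ N : Subgroup G, N.Normal ∧ N.index = 2 ∧ qv x y n 0 ∉ N := by
  have hM : (hh.toQ.range.map (S : Subgroup G).subtype).relIndex (S : Subgroup G) = 2 := by
    show ((hh.toQ.range.map (S : Subgroup G).subtype).comap (S : Subgroup G).subtype).index = 2
    rw [comap_map_eq_self_of_injective (S : Subgroup G).subtype_injective]
    exact hh.index_of_card hh.card_range_toQ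
  refine TwoTransfer.exists_index_two S _ hM _ (qv_mem _) (fun k g hk _ => ?_) fun g hg hgM => ?_
  · have h1 : qv x y n 0 ^ (2 ^ k) = 1 := by
      obtain ⟨i, rfl⟩ : ∃ i, k = i + 1 := ⟨k - 1, by omega⟩
      have h3 := pow_orderOf_eq_one (qv x y n 0)
      rw [hh.y_order] at h3
      rw [pow_succ', pow_mul, h3, one_pow]
    rw [h1, mul_one, inv_mul_cancel]
    exact one_mem _
  · have ho : orderOf (g⁻¹ * qv x y n 0 * g) = 2 := by
      have := Cfsg.Agent.Invol.orderOf_conj g⁻¹ (qv x y n 0)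
      rw [inv_inv, hh.y_order] at this
      exact this
    rcases hh.involution_cases hg ho with e | ⟨m, e⟩
    · exact h (hh.T6_of_fuses (isConj_iff.2 ⟨g⁻¹, by rw [inv_inv]; exact e⟩))
    · rcases hh.mem_toQ.1 hgM with ⟨k, hk⟩ | ⟨k, hk⟩
      · exact hh.qu_ne_qv _ _ (hk.symm.trans e)
      · exact hh.even_ne_odd m k (hh.qv_inj (e.symm.trans hk))

theorem index_two_of_Q2 (h : ¬ hh.Q6) : ∃ N : Subgroup G, N.Normal ∧ N.index = 2 ∧ qv x y n 1 ∉ N := by
  have hM : (hh.toD.range.map (S : Subgroup G).subtype).relIndex (S : Subgroup G) = 2 := by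
    show ((hh.toD.range.map (S : Subgroup G).subtype).comap (S : Subgroup G).subtype).index = 2
    rw [comap_map_eq_self_of_injective (S : Subgroup G).subtype_injective]
    exact hh.index_of_card hh.card_range_toD
  refine TwoTransfer.exists_index_two S _ hM _ (qv_mem _) (fun k g hk hgS => ?_) fun g hg hgM => ?_
  · obtain ⟨i, rfl⟩ : ∃ i, k = i + 1 := ⟨k - 1, by omega⟩
    rcases Nat.eq_zero_or_pos i with rfl | hi
    · have h2 : qv x y n 1 ^ 2 ^ (0 + 1) = qu x n (qh n) := by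
        rw [zero_add, pow_one, pow_two, hh.qv_mul_qv]; congr 1; ring
      rw [h2] at hgS ⊢
      have ho : orderOf (g⁻¹ * qu x n (qh n) * g) = 2 := by
        have := Cfsg.Agent.Invol.orderOf_conj g⁻¹ (qu x n (qh n))
        rw [inv_inv, hh.z_order] at this
        exact this
      rcases hh.involution_cases hgS ho with e | ⟨m, e⟩ <;> rw [e]
      · exact hh.mem_toD.2 (Or.inl ⟨qq n, by rw [hh.two_q]⟩)
      · exact hh.mem_toD.2 (Or.inr ⟨m, rfl⟩)
    · have h1 : qv x y n 1 ^ (2 ^ (i + 1)) = 1 := by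
        obtain ⟨j, rfl⟩ : ∃ j, i = j + 1 := ⟨i - 1, by omega⟩
        have h3 := pow_orderOf_eq_one (qv x y n 1)
        rw [hh.v_order] at h3
        rw [show 2 ^ (j + 1 + 1) = 4 * 2 ^ j by rw [pow_succ, pow_succ]; ring, pow_mul, h3, one_pow]
      rw [h1, mul_one, inv_mul_cancel]
      exact one_mem _
  · have ho : orderOf (g⁻¹ * qv x y n 1 * g) = 4 := by
      have := Cfsg.Agent.Invol.orderOf_conj g⁻¹ (qv x y n 1)
      rw [inv_inv, hh.v_order] at this
      exact this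
    have hgc : IsConj (qv x y n 1) (g⁻¹ * qv x y n 1 * g) := isConj_iff.2 ⟨g⁻¹, by rw [inv_inv]⟩
    rcases hh.four_cases hg ho with (e | e) | ⟨m, e⟩ <;> rw [e] at hgc hgM
    · exact h (hh.Q6_of_fuses hgc)
    · exact h (hh.Q6_of_fuses (hgc.trans hh.isConj_neg_q.symm))
    · rcases hh.mem_toD.1 hgM with ⟨k, hk⟩ | ⟨k, hk⟩
      · exact hh.qu_ne_qv _ _ hk.symm
      · exact hh.even_ne_odd k m (hh.qv_inj hk).symm

theorem qv_even_notMem {N : Subgroup G} (hN : N.Normal) (h : qv x y n 0 ∉ N) (m : ZMod (2 ^ n)) :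
    qv x y n (2 * m) ∉ N := fun hm => h (by
  obtain ⟨g, hg⟩ := isConj_iff.1 (hh.isConj_even' m).symm
  exact hg ▸ hN.conj_mem _ hm g)

theorem qv_odd_notMem {N : Subgroup G} (hN : N.Normal) (h : qv x y n 1 ∉ N) (m : ZMod (2 ^ n)) :
    qv x y n (2 * m + 1) ∉ N := fun hm => h (by
  obtain ⟨g, hg⟩ := isConj_iff.1 (hh.isConj_odd' m).symm
  exact hg ▸ hN.conj_mem _ hm g)

theorem no_index_two_T6_Q6 (hT : hh.T6) (hQ : hh.Q6) (H : Subgroup G) : H.index ≠ 2 := by
  have : Fact (Nat.Prime 2) := ⟨Nat.prime_two⟩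
  intro hH
  have hn := Subgroup.normal_of_index_eq_two hH
  have h0 : qv x y n 0 ∈ H := by
    obtain ⟨g, hg⟩ := isConj_iff.1 (hh.fuses_of_T6 hT)
    rw [← hg]
    exact hn.conj_mem _ (by rw [hh.h_even]; exact hh.even_mem hH _) g
  have h1 : qv x y n 1 ∈ H := by
    obtain ⟨g, hg⟩ := isConj_iff.1 (hh.fuses_of_Q6 hQ)
    obtain ⟨m, hm⟩ := hh.q_even'
    rw [← hg]
    exact hn.conj_mem _ (by rw [hm]; exact hh.even_mem hH _) g
  have hx : ∀ i, qu x n i ∈ H := by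
    intro i
    obtain ⟨m, rfl | rfl⟩ := parity i
    · exact hh.even_mem hH m
    · rw [← hh.qu_mul_qu]
      refine H.mul_mem (hh.even_mem hH m) ?_
      have h2 := H.mul_mem h1 h0
      rwa [hh.qv_mul_qv, mul_zero, sub_zero, add_zero] at h2
  refine index_ne_of_sylow_le S (fun s hs => ?_) hH
  rcases hh.casesG hs with ⟨i, rfl⟩ | ⟨i, rfl⟩
  · exact hx i
  · rw [show qv x y n i = qu x n i * qv x y n 0 by rw [hh.qu_mul_qv, add_zero]]
    exact H.mul_mem (hx i) h0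

theorem complement_T2_Q2 (hT : ¬ hh.T6) (hQ : ¬ hh.Q6) : Cfsg.HasNormalPComplement 2 G := by
  have : Fact (Nat.Prime 2) := ⟨Nat.prime_two⟩
  obtain ⟨N, hN, hNi, h0⟩ := hh.index_two_of_T2 hT
  obtain ⟨M, hM, hMi, h1⟩ := hh.index_two_of_Q2 hQ
  obtain ⟨j, hj⟩ := relIndex_normal_inf_dvd (a := 1) (hNi.trans (pow_one 2).symm) hMi
  refine complement_of_normal_two_power _ hj ?_
  let P : Sylow 2 ↥(N ⊓ M) := default
  obtain ⟨e⟩ := sylow_equiv_inf S (N ⊓ M) P
  have hle : (S : Subgroup G) ⊓ (N ⊓ M) ≤ zpowers (qu x n 1) := by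
    rintro s ⟨hs, hsN, hsM⟩
    rcases hh.casesG hs with ⟨i, rfl⟩ | ⟨i, rfl⟩
    · have h := pow_mem (mem_zpowers (qu x n 1)) i.val
      rwa [show qu x n 1 ^ i.val = qu x n i from (SubmonoidClass.coe_pow _ _).symm.trans
        ((congrArg Subtype.val (hh.c_pow 1 i.val)).trans (by
          show qu x n _ = _; rw [ZMod.natCast_zmod_val, mul_one]))] at h
    · exfalso
      obtain ⟨m, rfl | rfl⟩ := parity i
      · exact hh.qv_even_notMem hN h0 m hsN
      · exact hh.qv_odd_notMem hM h1 m hsM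
  have hcyc : IsCyclic ↥((S : Subgroup G) ⊓ (N ⊓ M)) :=
    isCyclic_of_injective (Subgroup.inclusion hle) (Subgroup.inclusion_injective hle)
  exact HSub.hasNormalPComplement_of_cyclic P (fun q hq _ => hq.two_le)
    (isCyclic_of_surjective e.symm e.symm.surjective)

theorem quaternion_case (hT : ¬ hh.T6) (hQ : hh.Q6) :
    ∃ K : Subgroup G, K.Normal ∧ K.index = 2 ∧
      (∀ P : Sylow 2 K, ∃ m : ℕ, 1 ≤ m ∧ Nonempty ((P : Subgroup K) ≃* QuaternionGroup (2 ^ m))) ∧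
      ∀ H : Subgroup K, H.index ≠ 2 := by
  have : Fact (Nat.Prime 2) := ⟨Nat.prime_two⟩
  obtain ⟨K, hKn, hKi, h0⟩ := hh.index_two_of_T2 hT
  have hAK : qu x n (qq n) ∈ K := by rw [hh.q_even]; exact hh.even_mem hKi _
  have h1K : qv x y n 1 ∈ K := by
    obtain ⟨g, hg⟩ := isConj_iff.1 (hh.fuses_of_Q6 hQ)
    exact hg ▸ hKn.conj_mem _ hAK g
  have hKS : (S : Subgroup G) ⊓ K = hh.toQ.range.map (S : Subgroup G).subtype := by
    ext s
    constructor
    · rintro ⟨hs, hsK⟩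
      refine hh.mem_toQ.2 ?_
      rcases hh.casesG hs with ⟨i, rfl⟩ | ⟨i, rfl⟩ <;> obtain ⟨m, rfl | rfl⟩ := parity i
      · exact Or.inl ⟨m, rfl⟩
      · exfalso
        rw [← hh.qu_mul_qu] at hsK
        have h2 := (K.mul_mem_cancel_left (hh.even_mem hKi m)).1 hsK
        have h3 := K.mul_mem (inv_mem h1K) h2
        have hi : qv x y n 1 * qv x y n 0 = qu x n 1 := by
          rw [hh.qv_mul_qv, mul_zero, sub_zero, add_zero]
        rw [← hi, inv_mul_cancel_left] at h3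
        exact h0 h3
      · exact absurd hsK (hh.qv_even_notMem hKn h0 m)
      · exact Or.inr ⟨m, rfl⟩
    · intro hs
      refine ⟨map_subtype_le _ hs, ?_⟩
      rcases hh.mem_toQ.1 hs with ⟨m, rfl⟩ | ⟨m, rfl⟩
      · exact hh.even_mem hKi m
      · obtain ⟨g, hg⟩ := isConj_iff.1 (hh.isConj_odd' m)
        exact hg ▸ hKn.conj_mem _ h1K g
  refine ⟨K, hKn, hKi, fun P => ?_, fun H hH => ?_⟩
  · obtain ⟨e⟩ := sylow_equiv_inf S K P
    have := hh.three_le
    exact ⟨n - 2, by omega, ⟨((e.trans (MulEquiv.subgroupCongr hKS)).trans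
      (equivMapOfInjective hh.toQ.range _ (S : Subgroup G).subtype_injective).symm).trans
      (MonoidHom.ofInjective hh.toQ_inj).symm⟩⟩
  obtain ⟨m, hm, hmo, hmC⟩ : ∃ m ∈ normalizer (hh.qG : Set G), ¬ 2 ∣ orderOf m ∧
      m ∉ normalizer ((zpowers (qu x n (qq n)) : Subgroup G) : Set G) := by
    rcases hh.Q_auto with ⟨h, -⟩ | ⟨-, h⟩
    · rw [QDGen.Q6, h] at hQ; omega
    · exact h
  have hmK : m ∈ K := odd_mem_of_index_two hKi hmo
  set A := qu x n (qq n) with hA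
  have hA2 : A * A = qu x n (qh n) := by rw [hA, hh.qu_mul_qu, ← two_mul, hh.two_q]
  have hAQ : A ∈ hh.qG := ⟨qq n, by linear_combination 2 * hh.two_q + hh.two_h, Or.inl rfl⟩
  set b := m * A * m⁻¹ with hb
  have hbC : b ∉ zpowers A := fun h => hmC (mem_normalizer_of_map_eq' (eq_of_le_of_card_ge
    (by rw [MonoidHom.map_zpowers]; exact zpowers_le.2 h)
    (by rw [card_map_of_injective (MulAut.conj m).injective])))
  obtain ⟨i, hi, hbe⟩ : ∃ i, 4 * i = 0 ∧ b = qv x y n (1 + i) := by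
    obtain ⟨i, hi, e | e⟩ := (mem_normalizer_iff.1 hm _).1 hAQ
    · exact absurd (by rw [hb, e]; exact hh.qu_mem_zpowers_q hi) hbC
    · exact ⟨i, hi, e⟩
  have hmz : m * qu x n (qh n) * m⁻¹ = qu x n (qh n) := by
    have h1 : b * b = qu x n (qh n) := by
      rw [hbe, hh.qv_mul_qv]; congr 1
      rcases hh.four_mul_eq_zero hi with rfl | rfl | rfl | rfl
      · ring
      · linear_combination hh.h_sq
      · linear_combination hh.h_q
      · linear_combination -hh.h_q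
    calc m * qu x n (qh n) * m⁻¹ = b * b := by rw [← hA2, hb]; group
      _ = qu x n (qh n) := h1
  have hfix : ∀ j : ℕ, m ^ (2 ^ j) * A * (m ^ (2 ^ j))⁻¹ = A → False := by
    intro j hj
    obtain ⟨k, hk⟩ := exists_pow_eq_self_of_coprime (x := m) (n := 2 ^ j)
      (Nat.Coprime.pow_left _ ((Nat.Prime.coprime_iff_not_dvd Nat.prime_two).2 hmo))
    refine hbC ?_
    have hc : Commute (m ^ (2 ^ j)) A := mul_inv_eq_iff_eq_mul.1 hj
    have hc' : Commute m A := hk ▸ hc.pow_left k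
    rw [hb, hc'.eq, mul_inv_cancel_right]
    exact mem_zpowers A
  have main : ∀ H : Subgroup K, H.index = 2 →
      (⟨A, hAK⟩ : K) ∈ H ∧ (⟨_, h1K⟩ : K) ∈ H := by
    intro H hH
    have hHn : H.Normal := Subgroup.normal_of_index_eq_two hH
    have hmul := fun p q : K => Subgroup.mul_mem_iff_of_index_two hH (a := p) (b := q)
    have hconj : ∀ (v : G) (hv : v ∈ K),
        (⟨m * v * m⁻¹, hKn.conj_mem _ hv m⟩ : K) ∈ H ↔ (⟨v, hv⟩ : K) ∈ H := fun v hv =>
      ⟨fun h => by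
        have := hHn.conj_mem _ h (⟨m, hmK⟩⁻¹)
        rwa [show (⟨m, hmK⟩ : K)⁻¹ * ⟨m * v * m⁻¹, hKn.conj_mem _ hv m⟩ * (⟨m, hmK⟩ : K)⁻¹⁻¹ = ⟨v, hv⟩ from
          Subtype.ext (by simp [mul_assoc])] at this,
      fun h => hHn.conj_mem _ h ⟨m, hmK⟩⟩
    have hbK : b ∈ K := hKn.conj_mem _ hAK m
    set b' := m * b * m⁻¹ with hb'
    have hb'K : b' ∈ K := hKn.conj_mem _ hbK m
    have hPb : (⟨b, hbK⟩ : K) ∈ H ↔ (⟨A, hAK⟩ : K) ∈ H := hconj A hAK
    have hPb' : (⟨b', hb'K⟩ : K) ∈ H ↔ (⟨A, hAK⟩ : K) ∈ H := (hconj b hbK).trans hPb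
    have hbQ : b ∈ hh.qG := (mem_normalizer_iff.1 hm _).1 hAQ
    have hm2 : ∀ v : G, m * (m * v * m⁻¹) * m⁻¹ = m ^ 2 * v * (m ^ 2)⁻¹ := fun v => by
      rw [pow_two]; group
    obtain ⟨j, hj, hb'e⟩ : ∃ j, 4 * j = 0 ∧ b' = qv x y n (1 + j) := by
      obtain ⟨j, hj, e | e⟩ := (mem_normalizer_iff.1 hm _).1 hbQ
      · exfalso
        have ho : orderOf b' = 4 :=
          (Cfsg.Agent.Invol.orderOf_conj m _).trans ((Cfsg.Agent.Invol.orderOf_conj m _).trans hh.q_order)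
        have hj' : j = qq n ∨ j = -qq n := by
          rcases hh.four_mul_eq_zero hj with rfl | rfl | h | h
          · rw [hb', e, qu_zero, orderOf_one] at ho; omega
          · rw [hb', e, hh.z_order] at ho; omega
          · exact Or.inl h
          · exact Or.inr h
        rcases hj' with rfl | rfl
        · exact hfix 1 (by rw [pow_one, ← hm2, ← hb]; exact e)
        · refine hfix 2 ?_
          have h2 : m ^ 2 * A * (m ^ 2)⁻¹ = A⁻¹ := by rw [← hm2, ← hb, hA, hh.qu_inv]; exact e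
          calc m ^ 2 ^ 2 * A * (m ^ 2 ^ 2)⁻¹ = m ^ 2 * (m ^ 2 * A * (m ^ 2)⁻¹) * (m ^ 2)⁻¹ := by
                rw [show (2 : ℕ) ^ 2 = 2 + 2 from rfl, pow_add]; group
            _ = (m ^ 2 * A * (m ^ 2)⁻¹)⁻¹ := by conv_lhs => rw [h2]
                                                group
            _ = A := by rw [h2, inv_inv]
      · exact ⟨j, hj, e⟩
    set d := b⁻¹ * b' with hd
    have hdK : d ∈ K := mul_mem (inv_mem hbK) hb'K
    have hsplit : (⟨b', hb'K⟩ : K) = ⟨b, hbK⟩ * ⟨d, hdK⟩ := Subtype.ext (mul_inv_cancel_left b b').symm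
    obtain ⟨l, hl, hdl⟩ : ∃ l, 4 * l = 0 ∧ d = qu x n l := by
      refine ⟨qh n * (j - i) - (j - i), by linear_combination 2 * (j - i) * hh.two_h - hj + hi, ?_⟩
      rw [hd, hbe, hb'e, inv_mul_eq_iff_eq_mul, hh.qv_mul_qu]; congr 1
      linear_combination -(j - i) * hh.h_sq + (j - i) * hh.two_h
    have hPA : (⟨A, hAK⟩ : K) ∈ H := by
      rcases hh.four_mul_eq_zero hl with rfl | rfl | rfl | rfl
      · exfalso
        have h' : m * b * m⁻¹ = m * A * m⁻¹ := by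
          rw [← hb, ← hb']
          exact (inv_mul_eq_one.1 (hdl.trans qu_zero)).symm
        exact hbC ((mul_left_cancel (mul_right_cancel h')) ▸ mem_zpowers A)
      · exfalso
        have h' : m * b * m⁻¹ = m * (A * qu x n (qh n)) * m⁻¹ :=
          calc m * b * m⁻¹ = b * qu x n (qh n) := by rw [← hdl]; exact (mul_inv_cancel_left b b').symm
            _ = m * A * m⁻¹ * (m * qu x n (qh n) * m⁻¹) := by rw [hmz]
            _ = m * (A * qu x n (qh n)) * m⁻¹ := by group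
        exact hbC ((mul_left_cancel (mul_right_cancel h')) ▸
          mul_mem (mem_zpowers A) (hA2 ▸ mul_mem (mem_zpowers A) (mem_zpowers A)))
      · have hd' : (⟨d, hdK⟩ : K) = ⟨A, hAK⟩ := Subtype.ext hdl
        rw [hsplit, hd', hmul] at hPb'
        tauto
      · have hd' : (⟨d, hdK⟩ : K) = (⟨A, hAK⟩ : K)⁻¹ := Subtype.ext (hdl.trans (hh.qu_inv _).symm)
        rw [hsplit, hd', hmul, inv_mem_iff] at hPb'
        tauto
    refine ⟨hPA, ?_⟩
    have hi' : qu x n (-i) ∈ zpowers A := hh.qu_mem_zpowers_q (by rw [mul_neg, hi, neg_zero])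
    have hiK : qu x n (-i) ∈ K := (zpowers_le.2 hAK) hi'
    have hiH : (⟨_, hiK⟩ : K) ∈ H := by
      obtain ⟨k, hk⟩ := mem_zpowers_iff.1 hi'
      rw [show (⟨_, hiK⟩ : K) = (⟨A, hAK⟩ : K) ^ k from Subtype.ext (by simp [hk])]
      exact zpow_mem hPA k
    have := mul_mem hiH (hPb.2 hPA)
    rwa [show (⟨_, hiK⟩ : K) * ⟨b, hbK⟩ = ⟨_, h1K⟩ from Subtype.ext (by
      show qu x n (-i) * b = _; rw [hbe, hh.qu_mul_qv]; congr 1; ring)] at this
  obtain ⟨hAH, hvH⟩ := main H hH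
  let f : K →* K := (MulAut.conjNormal (qv x y n 0) : K ≃* K).toMonoidHom
  have hf : Function.Surjective f := (MulAut.conjNormal (qv x y n 0) : K ≃* K).surjective
  obtain ⟨-, hvH'⟩ := main (H.comap f) (by rw [Subgroup.index_comap_of_surjective H hf, hH])
  have hwK : qv x y n (qh n - 1) ∈ K := by
    refine (hKS.ge ?_).2
    exact hh.mem_toQ.2 (Or.inr ⟨qq n - 1, by congr 1; linear_combination -hh.two_q⟩)
  have hwH : (⟨_, hwK⟩ : K) ∈ H := by
    have h : f ⟨_, h1K⟩ ∈ H := hvH'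
    rwa [show f ⟨_, h1K⟩ = ⟨_, hwK⟩ from Subtype.ext (by
      show ((MulAut.conjNormal (qv x y n 0) ⟨_, h1K⟩ : K) : G) = _
      rw [MulAut.conjNormal_apply]
      show qv x y n 0 * qv x y n 1 * (qv x y n 0)⁻¹ = _
      rw [mul_inv_eq_iff_eq_mul, hh.qv_mul_qv, hh.qv_mul_qv]; congr 1; ring)] at h
  have hDK : qu x n (-2) ∈ K := by
    rw [show (-2 : ZMod (2 ^ n)) = 2 * (-1) by ring]; exact hh.even_mem hKi _
  have hDH : (⟨_, hDK⟩ : K) ∈ H := by
    rw [show (⟨_, hDK⟩ : K) = ⟨_, hwK⟩ * ⟨_, h1K⟩ from Subtype.ext (by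
      show qu x n (-2) = qv x y n _ * qv x y n _
      rw [hh.qv_mul_qv]; congr 1; linear_combination -hh.two_h)]
    exact mul_mem hwH hvH
  have hpow : ∀ (l : ZMod (2 ^ n)) (hl : qu x n (2 * l) ∈ K), (⟨_, hl⟩ : K) ∈ H := by
    intro l hl
    rw [show (⟨_, hl⟩ : K) = ⟨_, hDK⟩ ^ (-l).val from Subtype.ext (by
      rw [SubmonoidClass.coe_pow]
      show qu x n (2 * l) = qu x n (-2) ^ (-l).val
      refine (((SubmonoidClass.coe_pow _ _).symm.trans
        (congrArg Subtype.val (hh.c_pow (-2) (-l).val))).trans ?_).symm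
      show qu x n _ = _
      rw [ZMod.natCast_zmod_val]; congr 1; ring)]
    exact pow_mem hDH _
  obtain ⟨P, hP⟩ := exists_sylow_eq_inf S K
  refine index_ne_of_sylow_le P (fun v hv => ?_) hH
  rw [hP] at hv
  have hv' : (v : G) ∈ (S : Subgroup G) ⊓ K := hv
  rw [hKS] at hv'
  rcases hh.mem_toQ.1 hv' with ⟨l, e⟩ | ⟨l, e⟩
  · rw [show v = ⟨_, hh.even_mem hKi l⟩ from Subtype.ext e]
    exact hpow l _
  · rw [show v = ⟨_, hh.even_mem hKi l⟩ * ⟨_, h1K⟩ from Subtype.ext (e.trans (by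
      show _ = qu x n _ * qv x y n 1; rw [hh.qu_mul_qv]))]
    exact mul_mem (hpow l _) hvH

theorem dihedral_case (hT : hh.T6) (hQ : ¬ hh.Q6) :
    ∃ K : Subgroup G, K.Normal ∧ K.index = 2 ∧
      (∀ P : Sylow 2 K, ∃ m : ℕ, Nonempty ((P : Subgroup K) ≃* DihedralGroup m)) ∧
      ∀ H : Subgroup K, H.index ≠ 2 := by
  have : Fact (Nat.Prime 2) := ⟨Nat.prime_two⟩
  obtain ⟨K, hKn, hKi, h1⟩ := hh.index_two_of_Q2 hQ
  have hzK : qu x n (qh n) ∈ K := by rw [hh.h_even]; exact hh.even_mem hKi _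
  have h0K : qv x y n 0 ∈ K := by
    obtain ⟨g, hg⟩ := isConj_iff.1 (hh.fuses_of_T6 hT)
    exact hg ▸ hKn.conj_mem _ hzK g
  have hKS : (S : Subgroup G) ⊓ K = hh.toD.range.map (S : Subgroup G).subtype := by
    ext s
    constructor
    · rintro ⟨hs, hsK⟩
      refine hh.mem_toD.2 ?_
      rcases hh.casesG hs with ⟨i, rfl⟩ | ⟨i, rfl⟩ <;> obtain ⟨m, rfl | rfl⟩ := parity i
      · exact Or.inl ⟨m, rfl⟩
      · exfalso
        have h3 := K.mul_mem hsK h0K
        rw [hh.qu_mul_qv, add_zero] at h3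
        exact hh.qv_odd_notMem hKn h1 m h3
      · exact Or.inr ⟨m, rfl⟩
      · exact absurd hsK (hh.qv_odd_notMem hKn h1 m)
    · intro hs
      refine ⟨map_subtype_le _ hs, ?_⟩
      rcases hh.mem_toD.1 hs with ⟨m, rfl⟩ | ⟨m, rfl⟩
      · exact hh.even_mem hKi m
      · obtain ⟨g, hg⟩ := isConj_iff.1 (hh.isConj_even' m)
        exact hg ▸ hKn.conj_mem _ h0K g
  refine ⟨K, hKn, hKi, fun P => ?_, fun H hH => ?_⟩
  · obtain ⟨e⟩ := sylow_equiv_inf S K P
    exact ⟨2 ^ (n - 1), ⟨((e.trans (MulEquiv.subgroupCongr hKS)).trans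
      (equivMapOfInjective hh.toD.range _ (S : Subgroup G).subtype_injective).symm).trans
      (MonoidHom.ofInjective hh.toD_inj).symm⟩⟩
  obtain ⟨m, hm, hmo, hmz⟩ : ∃ m ∈ normalizer (hh.tG : Set G), ¬ 2 ∣ orderOf m ∧
      m * qu x n (qh n) * m⁻¹ ≠ qu x n (qh n) := by
    rcases hh.T_auto with ⟨h, -⟩ | ⟨-, h⟩
    · rw [QDGen.T6, h] at hT; omega
    · exact h
  have hmK : m ∈ K := odd_mem_of_index_two hKi hmo
  have hAK : qu x n (qq n) ∈ K := by rw [hh.q_even]; exact hh.even_mem hKi _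
  have main : ∀ H : Subgroup K, H.index = 2 → (⟨_, hzK⟩ : K) ∈ H ∧ (⟨_, h0K⟩ : K) ∈ H := by
    intro H hH
    have hHn : H.Normal := Subgroup.normal_of_index_eq_two hH
    have hz : (⟨_, hzK⟩ : K) ∈ H := by
      rw [show (⟨_, hzK⟩ : K) = ⟨_, hAK⟩ * ⟨_, hAK⟩ from Subtype.ext (by
        show _ = qu x n _ * qu x n _; rw [hh.qu_mul_qu, ← two_mul, hh.two_q])]
      exact (Subgroup.mul_mem_iff_of_index_two hH).2 Iff.rfl
    refine ⟨hz, ?_⟩
    have hc := hHn.conj_mem _ hz ⟨m, hmK⟩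
    rcases (mem_normalizer_iff.1 hm (qu x n (qh n))).1 (Or.inr (Or.inl rfl)) with e | e | e | e
    · exact absurd (hh.z_order.symm.trans (orderOf_eq_one_iff.2 (conj_eq_one_iff.1 e))) (by norm_num)
    · exact absurd e hmz
    · rwa [show (⟨m, hmK⟩ : K) * ⟨_, hzK⟩ * ⟨m, hmK⟩⁻¹ = ⟨_, h0K⟩ from Subtype.ext e] at hc
    · have := mul_mem hz hc
      rwa [show (⟨_, hzK⟩ : K) * ((⟨m, hmK⟩ : K) * ⟨_, hzK⟩ * ⟨m, hmK⟩⁻¹) = ⟨_, h0K⟩ from Subtype.ext (by
        show qu x n (qh n) * (m * qu x n (qh n) * m⁻¹) = _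
        rw [e, hh.qu_mul_qv, ← two_mul, hh.two_h])] at this
  obtain ⟨hzH, h0H⟩ := main H hH
  let f : K →* K := (MulAut.conjNormal (qu x n 1) : K ≃* K).toMonoidHom
  have hf : Function.Surjective f := (MulAut.conjNormal (qu x n 1) : K ≃* K).surjective
  obtain ⟨-, h0H'⟩ := main (H.comap f) (by rw [Subgroup.index_comap_of_surjective H hf, hH])
  have hwK : qv x y n (2 - qh n) ∈ K := by
    refine (hKS.ge ?_).2
    exact hh.mem_toD.2 (Or.inr ⟨1 - qq n, by congr 1; linear_combination hh.two_q⟩)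
  have hwH : (⟨_, hwK⟩ : K) ∈ H := by
    have h : f ⟨_, h0K⟩ ∈ H := h0H'
    rwa [show f ⟨_, h0K⟩ = ⟨_, hwK⟩ from Subtype.ext (by
      show ((MulAut.conjNormal (qu x n 1) ⟨_, h0K⟩ : K) : G) = _
      rw [MulAut.conjNormal_apply]
      exact (hh.qu_conj_qv _ _).trans (by congr 1; ring))] at h
  have hDK : qu x n (2 * 1) ∈ K := hh.even_mem hKi _
  have hDH : (⟨_, hDK⟩ : K) ∈ H := by
    rw [show (⟨_, hDK⟩ : K) = ⟨_, hzK⟩ * (⟨_, hwK⟩ * ⟨_, h0K⟩) from Subtype.ext (by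
      show qu x n _ = qu x n _ * (qv x y n _ * qv x y n _)
      rw [hh.qv_mul_qv, hh.qu_mul_qu]; congr 1; ring)]
    exact mul_mem hzH (mul_mem hwH h0H)
  have hpow : ∀ (l : ZMod (2 ^ n)) (hl : qu x n (2 * l) ∈ K), (⟨_, hl⟩ : K) ∈ H := by
    intro l hl
    rw [show (⟨_, hl⟩ : K) = ⟨_, hDK⟩ ^ l.val from Subtype.ext (by
      rw [SubmonoidClass.coe_pow]
      show qu x n (2 * l) = qu x n (2 * 1) ^ l.val
      refine (((SubmonoidClass.coe_pow _ _).symm.trans
        (congrArg Subtype.val (hh.c_pow (2 * 1) l.val))).trans ?_).symm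
      show qu x n _ = _
      rw [ZMod.natCast_zmod_val]; congr 1; ring)]
    exact pow_mem hDH _
  obtain ⟨P, hP⟩ := exists_sylow_eq_inf S K
  refine index_ne_of_sylow_le P (fun v hv => ?_) hH
  rw [hP] at hv
  have hv' : (v : G) ∈ (S : Subgroup G) ⊓ K := hv
  rw [hKS] at hv'
  rcases hh.mem_toD.1 hv' with ⟨l, e⟩ | ⟨l, e⟩
  · rw [show v = ⟨_, hh.even_mem hKi l⟩ from Subtype.ext e]
    exact hpow l _
  · rw [show v = ⟨_, hh.even_mem hKi l⟩ * ⟨_, h0K⟩ from Subtype.ext (e.trans (by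
      show _ = qu x n _ * qv x y n 0; rw [hh.qu_mul_qv, add_zero]))]
    exact mul_mem (hpow l _) h0H

theorem z_isolated (h : ¬ hh.T6) : Cfsg.IsIsolatedInvolution (qu x n (qh n)) := by
  refine isolated_of_sylow S hh.z_order fun g hg => ?_
  rcases hh.involution_cases hg ((Cfsg.Agent.Invol.orderOf_conj g _).trans hh.z_order) with e | ⟨m, e⟩
  · exact e
  · exact absurd (hh.T6_of_fuses ((hh.isConj_even' m).trans (isConj_iff.2 ⟨g, e⟩).symm)) h

theorem center_weakly_closed (h : ¬ hh.T6) (Z₀ : Subgroup G)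
    (hZ : Z₀ ≤ (center (S : Subgroup G)).map (S : Subgroup G).subtype) :
    Cfsg.IsWeaklyClosed Z₀ (S : Subgroup G) := by
  classical
  refine ⟨hZ.trans (map_subtype_le _), fun g hg => ?_⟩
  rw [hh.center_eq, MonoidHom.map_zpowers] at hZ
  have hfix : ∀ v ∈ Z₀, g * v * g⁻¹ = v := by
    intro v hv
    have hvz : v ∈ zpowers (qu x n (qh n)) := hZ hv
    rcases Finset.mem_image.1 (mem_zpowers_iff_mem_range_orderOf.1 hvz) with ⟨k, hk, rfl⟩
    rw [hh.z_order, Finset.mem_range] at hk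
    have : k = 0 ∨ k = 1 := by omega
    rcases this with rfl | rfl
    · simp
    · rw [pow_one] at hv ⊢
      exact isolated_eq_of_mem_sylow S (hh.z_isolated h) (qu_mem _) (hg ⟨_, hv, rfl⟩)
  ext v
  exact ⟨fun ⟨w, hw, e⟩ => by rw [← e]; show g * w * g⁻¹ ∈ Z₀; rw [hfix w hw]; exact hw,
    fun hv => ⟨v, hv, hfix v hv⟩⟩

theorem tG_relIndex_conj {V : Subgroup G} (hV : V ≤ (S : Subgroup G)) (hK : IsKleinFour V) :
    (centralizer (V : Set G)).relIndex (normalizer (V : Set G)) =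
      (centralizer (hh.tG : Set G)).relIndex (normalizer (hh.tG : Set G)) := by
  obtain ⟨s, -, rfl⟩ := hh.tG_iso_conj hV hK
  rw [normalizer_map_conj, centralizer_map_conj, relIndex_map_conj]

theorem qG_relIndex_conj {V : Subgroup G} (hV : V ≤ (S : Subgroup G)) (e : V ≃* QuaternionGroup 2) :
    (V ⊔ centralizer (V : Set G)).relIndex (normalizer (V : Set G)) =
      (hh.qG ⊔ centralizer (hh.qG : Set G)).relIndex (normalizer (hh.qG : Set G)) := by
  obtain ⟨s, -, rfl⟩ := hh.qG_iso_conj hV e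
  rw [normalizer_map_conj, centralizer_map_conj, ← Subgroup.map_sup, relIndex_map_conj]

end QDGen

end Cfsg.Agent.Invol
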