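import Cfsg.Agent.Invol.QuatData
import Cfsg.Agent.HSub.Basic
import Cfsg.Agent.Fusion.Residual

/-!
The centraliser and normaliser of the derived subgroup of a quaternion Sylow 2-subgroup.
-/

set_option autoImplicit false

namespace Cfsg.Agent.Invol

open Subgroup

universe u

variable {G : Type u} [Group G] [Finite G] {P : Sylow 2 G} {a : G} {k : ℕ}

theorem good_two {n : G} (hn : ¬ 2 ∣ orderOf n) : HSub.Good 2 n :=
  ⟨(Nat.Prime.coprime_iff_not_dvd Nat.prime_two).2 hn |>.symm, Nat.coprime_one_right _⟩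

namespace QData

variable (h : QData P a k)
include h

theorem le_P : zpowers a ≤ (P : Subgroup G) := zpowers_le.2 h.mem

theorem mul_mem_of_out {x y : G} (hx : x ∈ P) (hy : y ∈ P) (hxa : x ∉ zpowers a) (hya : y ∉ zpowers a) :
    x * y ∈ zpowers a := by
  have hidx : ((zpowers a).subgroupOf (P : Subgroup G)).index = 2 := by
    have h1 := ((zpowers a).subgroupOf (P : Subgroup G)).card_mul_index
    rw [Nat.card_congr (subgroupOfEquivOfLe h.le_P).toEquiv, Nat.card_zpowers, h.order,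
      show Nat.card (P : Subgroup G) = 2 ^ k * 2 from h.card.trans (mul_comm _ _)] at h1
    exact Nat.eq_of_mul_eq_mul_left (Nat.two_pow_pos k) h1
  have := (mul_mem_iff_of_index_two hidx (a := ⟨x, hx⟩) (b := ⟨y, hy⟩)).2
    (iff_of_false (fun e => hxa (mem_subgroupOf.1 e)) fun e => hya (mem_subgroupOf.1 e))
  exact mem_subgroupOf.1 this

theorem inverts {x v : G} (hx : x ∈ P) (hxa : x ∉ zpowers a) (hv : v ∈ zpowers a) :
    x * v * x⁻¹ = v⁻¹ := by
  obtain ⟨i, rfl⟩ := mem_zpowers_iff.1 hv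
  rw [← conj_zpow, (h.out x hx hxa).1, inv_zpow]

theorem commutator_eq : ⁅(P : Subgroup G), (P : Subgroup G)⁆ = zpowers (a ^ 2) := by
  obtain ⟨w, hw, hwa⟩ := h.exists_out
  refine le_antisymm (commutator_le.2 fun u hu v hv => ?_) ?_
  · have hA : ∀ {b : G}, b ∈ zpowers a → b ^ 2 ∈ zpowers (a ^ 2) := by
      intro b hb
      obtain ⟨i, rfl⟩ := mem_zpowers_iff.1 hb
      refine mem_zpowers_iff.2 ⟨i, ?_⟩
      rw [← zpow_natCast a 2, ← zpow_natCast (a ^ i) 2, ← zpow_mul, ← zpow_mul, mul_comm]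
    show u * v * u⁻¹ * v⁻¹ ∈ zpowers (a ^ 2)
    by_cases hua : u ∈ zpowers a <;> by_cases hva : v ∈ zpowers a
    · obtain ⟨i, rfl⟩ := mem_zpowers_iff.1 hua
      obtain ⟨j, rfl⟩ := mem_zpowers_iff.1 hva
      rw [show a ^ i * a ^ j * (a ^ i)⁻¹ * (a ^ j)⁻¹ = 1 by group]
      exact one_mem _
    · rw [show u * v * u⁻¹ * v⁻¹ = u * (v * u⁻¹ * v⁻¹) by group, h.inverts hv hva (inv_mem hua),
        inv_inv, ← pow_two]
      exact hA hua
    · rw [show u * v * u⁻¹ * v⁻¹ = (u * v * u⁻¹) * v⁻¹ by group, h.inverts hu hua hva, ← pow_two]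
      exact hA (inv_mem hva)
    · have hb : v * u⁻¹ ∈ zpowers a :=
        h.mul_mem_of_out hv ((P : Subgroup G).inv_mem hu) hva fun e => hua (inv_mem_iff.1 e)
      rw [show u * v * u⁻¹ * v⁻¹ = (u * (v * u⁻¹) * u⁻¹) * (v * u⁻¹)⁻¹ by group,
        h.inverts hu hua hb, ← pow_two]
      exact hA (inv_mem hb)
  · rw [zpowers_le]
    have h1 := inv_mem (commutator_mem_commutator (H₁ := (P : Subgroup G)) (H₂ := (P : Subgroup G)) hw h.mem)
    rw [commutatorElement_def, h.inverts hw hwa (mem_zpowers a)] at h1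
    simpa [pow_two] using h1

theorem orderOf_sq : orderOf (a ^ 2) = 2 ^ (k - 1) := by
  have := h.two_le
  have he : 2 ^ k = 2 * 2 ^ (k - 1) := by rw [← pow_succ', show k - 1 + 1 = k by omega]
  rw [orderOf_pow' a two_ne_zero, h.order, he, Nat.gcd_mul_right_left]
  exact Nat.mul_div_cancel_left _ two_pos

theorem sq_ne_inv (hk : 3 ≤ k) : a ^ 2 ≠ (a ^ 2)⁻¹ := by
  intro e
  have h2 : (a ^ 2) ^ 2 = 1 := by rw [pow_two]; exact mul_eq_one_iff_eq_inv.2 e
  have h1 := Nat.le_of_dvd two_pos (h.orderOf_sq ▸ orderOf_dvd_of_pow_eq_one h2)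
  have : 2 ^ 2 ≤ 2 ^ (k - 1) := Nat.pow_le_pow_right two_pos (by omega)
  omega

theorem mem_A_of_commute (hk : 3 ≤ k) {x : G} (hx : x ∈ P) (hc : x * a ^ 2 = a ^ 2 * x) :
    x ∈ zpowers a := by
  by_contra hxa
  have h1 := h.inverts hx hxa (pow_mem (mem_zpowers a) 2)
  rw [hc, mul_inv_cancel_right] at h1
  exact h.sq_ne_inv hk h1

theorem mem_D_iff {v : G} (hv : v ∈ zpowers a) : v ∈ zpowers (a ^ 2) ↔ v ^ 2 ^ (k - 1) = 1 := by
  constructor
  · intro hvD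
    obtain ⟨i, rfl⟩ := mem_zpowers_iff.1 hvD
    rw [← zpow_natCast ((a ^ 2) ^ i) (2 ^ (k - 1)), ← zpow_mul, mul_comm i, zpow_mul, zpow_natCast,
      ← h.orderOf_sq, pow_orderOf_eq_one, one_zpow]
  · intro h1
    obtain ⟨i, rfl⟩ := mem_zpowers_iff.1 hv
    rw [← zpow_natCast (a ^ i) (2 ^ (k - 1)), ← zpow_mul] at h1
    have hd := orderOf_dvd_iff_zpow_eq_one.2 h1
    rw [h.order] at hd
    have := h.two_le
    have he : ((2 ^ k : ℕ) : ℤ) = 2 * ((2 ^ (k - 1) : ℕ) : ℤ) := by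
      rw [show (2 : ℕ) ^ k = 2 * 2 ^ (k - 1) by rw [← pow_succ', show k - 1 + 1 = k by omega]]
      push_cast; ring
    rw [he] at hd
    obtain ⟨j, rfl⟩ := Int.dvd_of_mul_dvd_mul_right (by positivity) hd
    refine mem_zpowers_iff.2 ⟨j, ?_⟩
    rw [← zpow_natCast a 2, ← zpow_mul]
    norm_num

/-- The 2-subgroups of the centraliser of the derived subgroup are conjugate into the cyclic subgroup. -/
theorem exists_conj_le_A (hk : 3 ≤ k) (R : Subgroup G) (hR : IsPGroup 2 R)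
    (hle : R ≤ centralizer (zpowers (a ^ 2) : Set G)) :
    ∃ c, c ∈ normalizer (zpowers (a ^ 2) : Set G) ∧ R.map (MulAut.conj c).toMonoidHom ≤ zpowers a := by
  set N := normalizer (zpowers (a ^ 2) : Set G)
  have hPN : (P : Subgroup G) ≤ N := by
    intro x hx
    refine mem_normalizer_iff_map_conj_eq.2 ?_
    rw [MonoidHom.map_zpowers]
    show zpowers (x * a ^ 2 * x⁻¹) = zpowers (a ^ 2)
    by_cases hxa : x ∈ zpowers a
    · obtain ⟨i, rfl⟩ := mem_zpowers_iff.1 hxa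
      rw [show a ^ i * a ^ 2 * (a ^ i)⁻¹ = a ^ 2 by group]
    · rw [h.inverts hx hxa (pow_mem (mem_zpowers a) 2), zpowers_inv]
  have hRN : R ≤ N := hle.trans (Subgroup.centralizer_le_normalizer _)
  obtain ⟨Q, hQ⟩ := (hR.comap_subtype (K := N)).exists_le_sylow
  obtain ⟨c, hc⟩ := MulAction.exists_smul_eq N Q (P.subtype hPN)
  refine ⟨c, c.2, ?_⟩
  rintro _ ⟨r, hr, rfl⟩
  have h1 : c * ⟨r, hRN hr⟩ * c⁻¹ ∈ ((P.subtype hPN : Sylow 2 N) : Subgroup N) := by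
    rw [← hc, Sylow.coe_subgroup_smul]
    exact ⟨⟨r, hRN hr⟩, hQ (mem_subgroupOf.2 hr), rfl⟩
  have h2 : (c : G) * r * (c : G)⁻¹ ∈ P := h1
  refine h.mem_A_of_commute hk h2 ?_
  have h3 : (c : G)⁻¹ * a ^ 2 * c ∈ zpowers (a ^ 2) := by
    have := (mem_normalizer_iff.1 (inv_mem c.2) (a ^ 2)).1 (mem_zpowers _)
    rwa [inv_inv] at this
  have h4 := mem_centralizer_iff.1 (hle hr) _ h3
  calc (c : G) * r * (c : G)⁻¹ * a ^ 2 = c * (r * ((c : G)⁻¹ * a ^ 2 * c)) * (c : G)⁻¹ := by group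
    _ = c * ((c : G)⁻¹ * a ^ 2 * c * r) * (c : G)⁻¹ := by rw [h4]
    _ = a ^ 2 * ((c : G) * r * (c : G)⁻¹) := by group

/-- The canonical generator of the derived subgroup inside `⟨y⟩`. -/
theorem zpowers_pow_eq (hk : 3 ≤ k) {y : G} (hy : y ∈ centralizer (zpowers (a ^ 2) : Set G))
    (hd : 2 ^ (k - 1) ∣ orderOf y) :
    zpowers (y ^ (orderOf y / 2 ^ (k - 1))) = zpowers (a ^ 2) := by
  set w := y ^ (orderOf y / 2 ^ (k - 1))
  have hw : orderOf w = 2 ^ (k - 1) := orderOf_pow_orderOf_div (orderOf_pos y).ne' hd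
  obtain ⟨c, hc, hle⟩ := h.exists_conj_le_A hk (zpowers w)
    (IsPGroup.of_card (n := k - 1) (by rw [Nat.card_zpowers, hw]))
    (zpowers_le.2 (pow_mem hy _))
  have hw1 : c * w * c⁻¹ ∈ zpowers a := hle ⟨w, mem_zpowers w, rfl⟩
  have hw2 : c * w * c⁻¹ ∈ zpowers (a ^ 2) := by
    rw [h.mem_D_iff hw1, conj_pow, ← hw, pow_orderOf_eq_one, mul_one, mul_inv_cancel]
  have hw3 : w ∈ zpowers (a ^ 2) := (mem_normalizer_iff.1 hc w).2 hw2
  exact eq_of_le_of_card_ge (zpowers_le.2 hw3) (by rw [Nat.card_zpowers, Nat.card_zpowers, hw, h.orderOf_sq])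

end QData

end Cfsg.Agent.Invol
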