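import Cfsg.Agent.Invol.SectionInduce
import Cfsg.Agent.Invol.UniqueInvolution
import Cfsg.Agent.Blocks.PPart
import Mathlib.GroupTheory.Transfer
import Mathlib.GroupTheory.SpecificGroups.Quaternion
import Mathlib.RingTheory.RootsOfUnity.Complex

/-!
The section data attached to the cyclic subgroup of index two of a quaternion Sylow 2-subgroup.
-/

set_option autoImplicit false

namespace Cfsg.Agent.Invol

open Cfsg.Agent

universe u

variable {G : Type u} [Group G] [Finite G]

/-- `a` generates a cyclic subgroup of index two of the Sylow subgroup `P`, inverted outside,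
and all outside squares are the involution of `⟨a⟩`. -/
structure QData (P : Sylow 2 G) (a : G) (k : ℕ) : Prop where
  two_le : 2 ≤ k
  mem : a ∈ P
  order : orderOf a = 2 ^ k
  card : Nat.card P = 2 * 2 ^ k
  out : ∀ x ∈ P, x ∉ Subgroup.zpowers a → x * a * x⁻¹ = a⁻¹ ∧ x * x = a ^ 2 ^ (k - 1)

theorem exists_qData (P : Sylow 2 G)
    (huniq : ∀ x ∈ P, ∀ y ∈ P, orderOf x = 2 → orderOf y = 2 → x = y)
    (hnc : ¬ IsCyclic (P : Subgroup G)) : ∃ a k, QData P a k := by
  obtain ⟨a, k, hk, ha, hi, hout⟩ := exists_cyclic_index_two P.2 (fun x y hx hy =>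
    Subtype.ext (huniq x x.2 y y.2 (by rwa [Subgroup.orderOf_coe]) (by rwa [Subgroup.orderOf_coe]))) hnc
  refine ⟨a, k, hk, a.2, by rw [Subgroup.orderOf_coe, ha], ?_, fun x hx hxa => ?_⟩
  · rw [← Subgroup.card_mul_index (Subgroup.zpowers a), hi, Nat.card_zpowers, ha]
    ring
  · have h := hout ⟨x, hx⟩ fun h => hxa (by
      obtain ⟨i, hi⟩ := Subgroup.mem_zpowers_iff.1 h
      exact ⟨i, by simpa using congrArg Subtype.val hi⟩)
    exact ⟨by simpa using congrArg Subtype.val h.1, by simpa using congrArg Subtype.val h.2⟩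

/-- A Sylow subgroup isomorphic to a quaternion group has one involution and is not cyclic. -/
theorem quaternion_uniq (P : Sylow 2 G) {m : ℕ} (hm : 2 ≤ m)
    (e : (P : Subgroup G) ≃* QuaternionGroup m) :
    (∀ x ∈ P, ∀ y ∈ P, orderOf x = 2 → orderOf y = 2 → x = y) ∧ ¬ IsCyclic (P : Subgroup G) := by
  have : NeZero m := ⟨by omega⟩
  have key : ∀ g : QuaternionGroup m, orderOf g = 2 → g = QuaternionGroup.a (m : ZMod (2 * m)) := by
    rintro (i | i) h
    · have h2 : (QuaternionGroup.a i) ^ 2 = (1 : QuaternionGroup m) := by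
        rw [← h, pow_orderOf_eq_one]
      rw [pow_two, QuaternionGroup.a_mul_a, QuaternionGroup.one_def] at h2
      have h3 : i + i = 0 := QuaternionGroup.a.inj h2
      have h4 : ((i.val + i.val : ℕ) : ZMod (2 * m)) = 0 := by
        push_cast
        rw [ZMod.natCast_zmod_val, h3]
      rw [ZMod.natCast_eq_zero_iff] at h4
      have hlt := i.val_lt
      obtain ⟨c, hc⟩ := h4
      have hc2 : c < 2 := by
        by_contra! hle
        have := Nat.mul_le_mul_left (2 * m) hle
        omega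
      interval_cases c
      · have : i = 0 := by rw [← ZMod.natCast_zmod_val i, show i.val = 0 by omega, Nat.cast_zero]
        rw [this, ← QuaternionGroup.one_def, orderOf_one] at h
        omega
      · rw [← ZMod.natCast_zmod_val i, show i.val = m by omega]
    · rw [QuaternionGroup.orderOf_xa] at h
      omega
  refine ⟨fun x hx y hy h h' => ?_, fun hc => ?_⟩
  · have h1 := key (e ⟨x, hx⟩) (by rw [e.orderOf_eq, Subgroup.orderOf_mk]; exact h)
    have h2 := key (e ⟨y, hy⟩) (by rw [e.orderOf_eq, Subgroup.orderOf_mk]; exact h')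
    simpa using e.injective (h1.trans h2.symm)
  · obtain ⟨g, hg⟩ := hc.exists_generator
    obtain ⟨i, hi⟩ := Subgroup.mem_zpowers_iff.1 (hg (e.symm (QuaternionGroup.a 1)))
    obtain ⟨j, hj⟩ := Subgroup.mem_zpowers_iff.1 (hg (e.symm (QuaternionGroup.xa 0)))
    have h := congrArg e ((Commute.refl g).zpow_zpow i j).eq
    rw [hi, hj, map_mul, map_mul, e.apply_symm_apply, e.apply_symm_apply,
      QuaternionGroup.a_mul_xa, QuaternionGroup.xa_mul_a] at h
    have h3 : (0 : ZMod (2 * m)) - 1 = 0 + 1 := by simpa using h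
    have h4 : ((2 : ℕ) : ZMod (2 * m)) = 0 := by push_cast; linear_combination -h3
    rw [ZMod.natCast_eq_zero_iff] at h4
    have := Nat.le_of_dvd two_pos h4
    omega

variable {P : Sylow 2 G} {a : G} {k : ℕ}

theorem QData.exists_out (h : QData P a k) : ∃ w ∈ P, w ∉ Subgroup.zpowers a := by
  by_contra! hh
  have := Nat.le_of_dvd Nat.card_pos (Subgroup.card_dvd_of_le
    (show (P : Subgroup G) ≤ Subgroup.zpowers a from hh))
  have h1 := h.card
  rw [Nat.card_zpowers, h.order] at this
  have := Nat.two_pow_pos k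
  omega

/-- `b` is the element of order four of `⟨a⟩`. -/
theorem QData.orderOf_b (h : QData P a k) : orderOf (a ^ 2 ^ (k - 2)) = 4 := by
  have := h.two_le
  rw [orderOf_pow' _ (by positivity), h.order,
    Nat.gcd_eq_right (pow_dvd_pow 2 (by omega : k - 2 ≤ k)), Nat.pow_div (by omega) two_pos,
    show k - (k - 2) = 2 by omega]
  norm_num

theorem QData.z_eq (h : QData P a k) :
    a ^ 2 ^ (k - 1) = a ^ 2 ^ (k - 2) * a ^ 2 ^ (k - 2) := by
  have := h.two_le
  rw [← pow_add, ← two_mul, ← pow_succ', show k - 2 + 1 = k - 1 by omega]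

theorem QData.orderOf_z (h : QData P a k) : orderOf (a ^ 2 ^ (k - 1)) = 2 := by
  rw [h.z_eq, ← pow_two, orderOf_pow' _ two_ne_zero, h.orderOf_b]
  rfl

/-- `z` is the only involution of `P`. -/
theorem QData.eq_z (h : QData P a k) {x : G} (hx : x ∈ P) (h2 : orderOf x = 2) :
    x = a ^ 2 ^ (k - 1) := by
  by_cases hxa : x ∈ Subgroup.zpowers a
  · exact eq_of_mem_zpowers_of_orderOf_two h2 h.orderOf_z hxa (pow_mem (Subgroup.mem_zpowers a) _)
  · exfalso
    have h1 := (h.out x hx hxa).2
    rw [mul_self_eq_one h2] at h1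
    exact ne_one h.orderOf_z h1.symm

theorem orderOf_dvd_four_cases {n : ℕ} {g : G} (h : g ^ 4 = 1) (hn : n = orderOf g) :
    n = 1 ∨ n = 2 ∨ n = 4 := by
  have hd : n ∣ 4 := hn ▸ orderOf_dvd_of_pow_eq_one h
  have := Nat.le_of_dvd (by norm_num) hd
  interval_cases n <;> omega

/-- elements of order four of a cyclic group generate the same subgroup -/
theorem zpowers_eq_of_orderOf_four {x u v : G} (hu : u ∈ Subgroup.zpowers x)
    (hv : v ∈ Subgroup.zpowers x) (hu4 : orderOf u = 4) (hv4 : orderOf v = 4) :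
    Subgroup.zpowers u = Subgroup.zpowers v := by
  obtain ⟨q, hq⟩ : 4 ∣ orderOf x := by
    rw [← hu4, ← Nat.card_zpowers, ← Nat.card_zpowers]
    exact Subgroup.card_dvd_of_le (Subgroup.zpowers_le.2 hu)
  have hq0 : q ≠ 0 := fun e => by
    have := orderOf_pos x
    rw [hq, e] at this
    omega
  have key : ∀ y ∈ Subgroup.zpowers x, orderOf y = 4 →
      Subgroup.zpowers y = Subgroup.zpowers (x ^ q) := by
    intro y hy hy4
    obtain ⟨i, rfl⟩ := Subgroup.mem_zpowers_iff.1 hy
    have h1 : ((orderOf x : ℕ) : ℤ) ∣ i * 4 := by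
      rw [orderOf_dvd_iff_zpow_eq_one, zpow_mul, show (4 : ℤ) = ((4 : ℕ) : ℤ) from rfl,
        zpow_natCast, ← hy4, pow_orderOf_eq_one]
    rw [hq, mul_comm i] at h1
    push_cast at h1
    obtain ⟨j, hj⟩ := (mul_dvd_mul_iff_left (by norm_num : (4 : ℤ) ≠ 0)).1 h1
    refine Subgroup.eq_of_le_of_card_ge
      (Subgroup.zpowers_le.2 ⟨j, by rw [hj, zpow_mul, zpow_natCast]⟩) ?_
    rw [Nat.card_zpowers, Nat.card_zpowers, hy4, orderOf_pow' _ hq0, hq, Nat.gcd_mul_left_left,
      Nat.mul_div_cancel _ (Nat.pos_of_ne_zero hq0)]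
  rw [key u hu hu4, key v hv hv4]

/-- The centralizer of `b`, with its normal 2-complement, gives section data. -/
theorem QData.exists_sectionData [Fintype G] (h : QData P a k) :
    ∃ (μ : Subgroup.centralizer ({a ^ 2 ^ (k - 2)} : Set G) →* ℂˣ) (N : Subgroup G),
      SectionData (Subgroup.centralizer ({a ^ 2 ^ (k - 2)} : Set G)) μ N ∧
      μ ≠ 1 ∧ (3 ≤ k → μ * μ ≠ 1) ∧ (k = 2 → μ * μ = 1) ∧
      (∀ x, μ x = 1 ↔ ¬ 4 ∣ orderOf (x : G)) ∧
      (∀ x : Subgroup.centralizer ({a ^ 2 ^ (k - 2)} : Set G), 4 ∣ orderOf (x : G) →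
        a ^ 2 ^ (k - 2) ∈ Subgroup.zpowers (x : G)) ∧
      ∃ R : Subgroup G, R ≤ Subgroup.centralizer ({a ^ 2 ^ (k - 2)} : Set G) ∧ Odd (Nat.card R) ∧
        Nat.card (Subgroup.centralizer ({a ^ 2 ^ (k - 2)} : Set G)) = 2 ^ k * Nat.card R ∧
        ∀ x ∈ Subgroup.centralizer ({a ^ 2 ^ (k - 2)} : Set G), Odd (orderOf x) → x ∈ R := by
  classical
  have hk2 := h.two_le
  obtain ⟨w, hwP, hwa⟩ := h.exists_out
  have hwinv := (h.out w hwP hwa).1
  set b := a ^ 2 ^ (k - 2) with hb
  have hb4 : orderOf b = 4 := h.orderOf_b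
  have hbne : b⁻¹ ≠ b := fun e => by
    have : orderOf b ∣ 2 := orderOf_dvd_of_pow_eq_one (by
      rw [pow_two]
      nth_rewrite 1 [← e]
      exact inv_mul_cancel b)
    rw [hb4] at this
    norm_num at this
  have hwb : w * b * w⁻¹ = b⁻¹ := by rw [hb, ← conj_pow, hwinv, inv_pow]
  set K := Subgroup.centralizer ({b} : Set G) with hK
  have haK : a ∈ K := Subgroup.mem_centralizer_singleton_iff.2 (Commute.self_pow a _).eq
  set A : Subgroup K := Subgroup.zpowers ⟨a, haK⟩ with hA
  have hcardA : Nat.card A = 2 ^ k := by rw [hA, Nat.card_zpowers, Subgroup.orderOf_mk, h.order]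
  obtain ⟨T, hAT⟩ := (IsPGroup.of_card hcardA).exists_le_sylow
  have hTA : (T : Subgroup K) = A := by
    refine (Subgroup.eq_of_le_of_card_ge hAT ?_).symm
    have hT : IsPGroup 2 ((T : Subgroup K).map K.subtype) := T.2.map _
    obtain ⟨Q, hQ⟩ := hT.exists_le_sylow
    have hc : Nat.card ((T : Subgroup K).map K.subtype) = Nat.card (T : Subgroup K) :=
      Nat.card_congr ((T : Subgroup K).equivMapOfInjective _ K.subtype_injective).toEquiv.symm
    have hQcard : Nat.card Q = 2 * 2 ^ k := by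
      rw [← h.card]; exact Nat.card_congr (Sylow.equiv Q P).toEquiv
    have hd := Subgroup.card_dvd_of_le hQ
    rw [hc, hQcard] at hd
    rw [hcardA]
    by_contra hlt
    have hTQ : (T : Subgroup K).map K.subtype = Q := by
      refine Subgroup.eq_of_le_of_card_ge hQ ?_
      rw [hc]
      obtain ⟨i, hi⟩ := T.2.exists_card_eq
      rw [hi] at hd hlt ⊢
      rw [← pow_succ', Nat.pow_dvd_pow_iff_le_right (by norm_num)] at hd
      have hQ' : Nat.card (Q : Subgroup G) = 2 ^ (k + 1) := by rw [hQcard, pow_succ']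
      rw [hQ']
      refine Nat.pow_le_pow_right two_pos ?_
      by_contra hlt'
      exact hlt (Nat.pow_le_pow_right two_pos (by omega))
    obtain ⟨g, hg⟩ := MulAction.exists_smul_eq G Q P
    have hbQ : b ∈ Q := by
      show b ∈ (Q : Subgroup G)
      rw [← hTQ]
      exact ⟨⟨b, Subgroup.mem_centralizer_singleton_iff.2 rfl⟩, hAT ⟨(2 ^ (k - 2) : ℕ),
        Subtype.ext (by
          show (((⟨a, haK⟩ : K) ^ ((2 ^ (k - 2) : ℕ) : ℤ) : K) : G) = b
          rw [zpow_natCast, SubmonoidClass.coe_pow])⟩, rfl⟩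
    have hP : ∀ y ∈ Q, g * y * g⁻¹ ∈ P := by
      intro y hy
      rw [← hg]
      show g * y * g⁻¹ ∈ ((g • Q : Sylow 2 G) : Subgroup G)
      rw [Sylow.coe_subgroup_smul]
      exact ⟨y, hy, rfl⟩
    have hcen : ∀ y ∈ P, Commute y (g * b * g⁻¹) := by
      intro y hy
      rw [← hg] at hy
      change y ∈ ((g • Q : Sylow 2 G) : Subgroup G) at hy
      rw [Sylow.coe_subgroup_smul] at hy
      obtain ⟨y', hy', rfl⟩ := hy
      change y' ∈ (Q : Subgroup G) at hy'
      rw [← hTQ] at hy'
      obtain ⟨t, -, rfl⟩ := hy'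
      exact (Commute.conj_iff g).2 (Subgroup.mem_centralizer_singleton_iff.1 t.2)
    have hmem := hP b hbQ
    have hbA : g * b * g⁻¹ ∈ Subgroup.zpowers a := by
      by_contra hout
      have h1 := (h.out _ hmem hout).1
      rw [(hcen a h.mem).symm.eq, mul_inv_cancel_right] at h1
      have : orderOf a ∣ 2 := orderOf_dvd_of_pow_eq_one (by
        rw [pow_two]
        nth_rewrite 1 [h1]
        exact inv_mul_cancel a)
      rw [h.order] at this
      have := Nat.le_of_dvd two_pos this
      have : 2 ^ 2 ≤ 2 ^ k := Nat.pow_le_pow_right two_pos hk2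
      omega
    obtain ⟨i, hi⟩ := hbA
    simp only at hi
    have h1 := (hcen w hwP).eq
    rw [← hi] at h1
    have h2 : w * a ^ i * w⁻¹ = (a ^ i)⁻¹ := by rw [← conj_zpow, hwinv, inv_zpow]
    rw [h1, mul_inv_cancel_right] at h2
    have : orderOf (a ^ i) ∣ 2 := orderOf_dvd_of_pow_eq_one (by
      rw [pow_two]
      nth_rewrite 1 [h2]
      exact inv_mul_cancel _)
    rw [hi, show orderOf (g * b * g⁻¹) = orderOf b from orderOf_conj g b, hb4] at this
    norm_num at this
  haveI hTc : IsCyclic (T : Subgroup K) := hTA ▸ inferInstance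
  have hKeven : 2 ∣ Nat.card K := by
    refine dvd_trans ?_ (T : Subgroup K).card_subgroup_dvd_card
    rw [hTA, hcardA]
    exact dvd_pow_self 2 (by omega)
  have hmin : (Nat.card K).minFac = 2 := by rwa [Nat.minFac_eq_two_iff]
  have hc := IsCyclic.normalizer_le_centralizer hmin hTc
  have hcompl := MonoidHom.ker_transferSylow_isComplement' T hc
  set φ := MonoidHom.transferSylow T hc with hφ
  set R₀ := φ.ker with hR₀
  have haT : (⟨a, haK⟩ : K) ∈ (T : Subgroup K) := hAT (Subgroup.mem_zpowers _)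
  set τ : (T : Subgroup K) := φ ⟨a, haK⟩ with hτ
  have hinj : ∀ t ∈ (T : Subgroup K), φ t = 1 → t = 1 := fun t ht h1 =>
    Subgroup.disjoint_def.1 hcompl.disjoint (MonoidHom.mem_ker.2 h1) ht
  have hτord : orderOf τ = 2 ^ k := by
    rw [← h.order]
    apply Nat.dvd_antisymm
    · calc orderOf τ ∣ orderOf (⟨a, haK⟩ : K) := orderOf_map_dvd φ _
        _ = orderOf a := Subgroup.orderOf_mk _ _
    · refine orderOf_dvd_of_pow_eq_one ?_
      have h1 := hinj _ (pow_mem haT (orderOf τ)) (by rw [map_pow, ← hτ, pow_orderOf_eq_one])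
      simpa using congrArg Subtype.val h1
  have hgen : ∀ t : (T : Subgroup K), t ∈ Subgroup.zpowers τ := by
    have hcard : Nat.card (Subgroup.zpowers τ) = Nat.card (T : Subgroup K) := by
      rw [Nat.card_zpowers, hτord, hTA, hcardA]
    intro t
    rw [Subgroup.eq_top_of_card_eq _ hcard]
    exact Subgroup.mem_top t
  obtain ⟨η, hη⟩ : ∃ η : ℂˣ, orderOf η = 2 ^ (k - 1) := by
    refine ⟨Units.mk0 (Complex.exp (2 * Real.pi * Complex.I / ((2 ^ (k - 1) : ℕ) : ℂ)))
      (Complex.exp_ne_zero _), ?_⟩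
    rw [← orderOf_units, Units.val_mk0]
    exact ((Complex.isPrimitiveRoot_exp _ (by positivity)).eq_orderOf).symm
  set μ : K →* ℂˣ := (monoidHomOfForallMemZpowers hgen
    (g' := η) (by rw [hη, hτord]; exact pow_dvd_pow 2 (by omega))).comp φ with hμdef
  have hμa : μ ⟨a, haK⟩ = η := by
    simp only [hμdef, MonoidHom.comp_apply, ← hτ, monoidHomOfForallMemZpowers_apply_gen]
  have hdec : ∀ x : K, ∃ r ∈ R₀, ∃ i : ℤ, x = r * (⟨a, haK⟩ : K) ^ i := by
    intro x
    obtain ⟨⟨r, t⟩, hrt⟩ := hcompl.2 x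
    have ht : (t : K) ∈ A := hTA ▸ t.2
    obtain ⟨i, hi⟩ := Subgroup.mem_zpowers_iff.1 ht
    exact ⟨r, r.2, i, by rw [hi]; exact hrt.symm⟩
  have hμR : ∀ r ∈ R₀, μ r = 1 := fun r hr => by
    simp only [hμdef, MonoidHom.comp_apply, MonoidHom.mem_ker.1 hr, map_one]
  have hodd : ∀ (f : K →* ℂˣ) (r : K), (∀ y, f y ^ 2 ^ k = 1) → Odd (orderOf r) → f r = 1 := by
    intro f r hf hr
    have h1 : orderOf (f r) ∣ 2 ^ k := orderOf_dvd_of_pow_eq_one (hf r)
    obtain ⟨i, -, hi⟩ := (Nat.dvd_prime_pow Nat.prime_two).1 h1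
    have h2 := orderOf_map_dvd f r
    rw [hi] at h2
    rcases Nat.eq_zero_or_pos i with rfl | h0
    · exact orderOf_eq_one_iff.1 (by rw [hi, pow_zero])
    · exact absurd ((dvd_pow_self 2 h0.ne').trans h2) hr.not_two_dvd_nat
  have hμpow : ∀ y, μ y ^ 2 ^ k = 1 := by
    intro y
    obtain ⟨r, hr, i, rfl⟩ := hdec y
    rw [map_mul, hμR r hr, one_mul, map_zpow, hμa, ← zpow_natCast, ← zpow_mul, mul_comm, zpow_mul,
      zpow_natCast]
    have : η ^ 2 ^ k = 1 := by
      rw [← orderOf_dvd_iff_pow_eq_one, hη]; exact pow_dvd_pow 2 (by omega)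
    rw [this, one_zpow]
  have hRodd : Odd (Nat.card R₀) := by
    rw [← hcompl.index_eq_card, Nat.odd_iff, ← Nat.two_dvd_ne_zero]
    exact T.not_dvd_index
  have hKcard : Nat.card K = 2 ^ k * Nat.card R₀ := by
    rw [← hcompl.card_mul_card, hTA, hcardA, mul_comm]
  -- classification of the kernel
  have hclass : ∀ x : K, (4 ∣ orderOf (x : G) → b ∈ Subgroup.zpowers (x : G)) ∧
      (μ x = 1 ↔ ¬ 4 ∣ orderOf (x : G)) := by
    intro x
    set u := Blocks.pPartOf 2 x with hu
    set v := Blocks.pPrimePartOf 2 x with hv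
    have huv : u * v = x := Blocks.pPartOf_mul_pPrimePartOf Nat.prime_two x
    obtain ⟨n, hn⟩ := Blocks.orderOf_pPartOf Nat.prime_two x
    have hvodd : Odd (orderOf v) := by
      rw [Nat.odd_iff, ← Nat.two_dvd_ne_zero]
      exact Blocks.not_dvd_orderOf_pPrimePartOf Nat.prime_two x
    obtain ⟨S, hS⟩ := (IsPGroup.of_card (n := n) (by rw [Nat.card_zpowers, hn]) :
      IsPGroup 2 (Subgroup.zpowers u)).exists_le_sylow
    obtain ⟨c, hc⟩ := MulAction.exists_smul_eq K S T
    have hcu : c * u * c⁻¹ ∈ A := by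
      rw [← hTA, ← hc, Sylow.coe_subgroup_smul]
      exact ⟨u, hS (Subgroup.mem_zpowers u), rfl⟩
    obtain ⟨i, hi⟩ := Subgroup.mem_zpowers_iff.1 hcu
    have hμx : μ x = η ^ i := by
      rw [← huv, map_mul, hodd μ v hμpow hvodd, mul_one, ← hμa, ← map_zpow, hi, map_mul, map_mul,
        map_inv, mul_inv_cancel_comm]
    have hordx : orderOf (x : G) = orderOf u * orderOf v := by
      rw [Subgroup.orderOf_coe]
      conv_lhs => rw [← huv]
      refine (Blocks.commute_pPartOf_pPrimePartOf x).orderOf_mul_eq_mul_orderOf_of_coprime ?_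
      rw [hn]
      exact Nat.Coprime.pow_left _ ((Nat.prime_two.coprime_iff_not_dvd).2
        (Blocks.not_dvd_orderOf_pPrimePartOf Nat.prime_two x))
    have h4 : 4 ∣ orderOf (x : G) ↔ ¬ (2 : ℤ) ^ (k - 1) ∣ i := by
      have h1 : 4 ∣ orderOf (x : G) ↔ ¬ u ^ 2 = 1 := by
        rw [hordx, ← orderOf_dvd_iff_pow_eq_one]
        have hcop : Nat.Coprime 4 (orderOf v) := by
          rw [show (4 : ℕ) = 2 ^ 2 by norm_num]
          exact Nat.Coprime.pow_left _ (Nat.coprime_two_left.2 hvodd)
        rw [hcop.dvd_mul_right, hn, show (4 : ℕ) = 2 ^ 2 by norm_num,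
          Nat.pow_dvd_pow_iff_le_right (by norm_num)]
        rw [show ((2 : ℕ) ^ n ∣ 2) ↔ n ≤ 1 by
          conv_lhs => rw [show (2 : ℕ) ^ n ∣ 2 ↔ 2 ^ n ∣ 2 ^ 1 by rw [pow_one]]
          exact Nat.pow_dvd_pow_iff_le_right (by norm_num)]
        omega
      rw [h1]
      refine not_congr ?_
      have : u ^ 2 = 1 ↔ (⟨a, haK⟩ : K) ^ (2 * i) = 1 := by
        rw [mul_comm, zpow_mul, hi, show ((c * u * c⁻¹) ^ (2 : ℤ)) = c * u ^ 2 * c⁻¹ by
          rw [show (2 : ℤ) = ((2 : ℕ) : ℤ) from rfl, zpow_natCast, conj_pow]]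
        rw [mul_inv_eq_one, mul_eq_left]
      rw [this, ← orderOf_dvd_iff_zpow_eq_one, Subgroup.orderOf_mk, h.order]
      push_cast
      nth_rewrite 1 [show k = k - 1 + 1 by omega]
      rw [pow_succ']
      exact mul_dvd_mul_iff_left two_ne_zero
    refine ⟨fun hx4 => ?_, ?_⟩
    · have hndvd := h4.1 hx4
      have hbu : (⟨b, Subgroup.mem_centralizer_singleton_iff.2 rfl⟩ : K) ∈
          Subgroup.zpowers (c * u * c⁻¹) := by
        rw [← hi]
        -- the powers of `a` of order at least four generate subgroups containing `b`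
        have hd : (Int.gcd i ((2 : ℤ) ^ k) : ℤ) ∣ (2 : ℤ) ^ (k - 2) := by
          have h5 : Int.gcd i ((2 : ℤ) ^ k) ∣ 2 ^ k := by
            have := Int.gcd_dvd_right i ((2 : ℤ) ^ k)
            exact_mod_cast this
          obtain ⟨j, hj, he⟩ := (Nat.dvd_prime_pow Nat.prime_two).1 h5
          rw [he]
          push_cast
          refine pow_dvd_pow 2 ?_
          by_contra hgt
          refine hndvd ((pow_dvd_pow 2 (show k - 1 ≤ j by omega)).trans ?_)
          have := Int.gcd_dvd_left i ((2 : ℤ) ^ k)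
          rw [he] at this
          exact_mod_cast this
        obtain ⟨q, hq⟩ := hd
        refine ⟨Int.gcdA i ((2 : ℤ) ^ k) * q, ?_⟩
        apply Subtype.ext
        show (((⟨a, haK⟩ : K) ^ i) ^ _ : K).1 = b
        rw [← zpow_mul, SubgroupClass.coe_zpow, hb, ← zpow_natCast, zpow_eq_zpow_iff_modEq,
          h.order, Int.modEq_iff_dvd]
        push_cast
        refine ⟨Int.gcdB i ((2 : ℤ) ^ k) * q, ?_⟩
        have hbez := Int.gcd_eq_gcd_ab i ((2 : ℤ) ^ k)
        linear_combination hq + q * hbez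
      obtain ⟨j, hj⟩ := Subgroup.mem_zpowers_iff.1 hbu
      refine Subgroup.mem_zpowers_iff.2 ⟨(Blocks.pExp 2 (orderOf x) : ℤ) * j, ?_⟩
      have h1 := congrArg Subtype.val hj
      rw [conj_zpow] at h1
      simp only [Subgroup.coe_mul, Subgroup.coe_inv, SubgroupClass.coe_zpow] at h1
      have hcb : (c : G)⁻¹ * b * (c : G) = b := by
        rw [mul_assoc, ← Subgroup.mem_centralizer_singleton_iff.1 c.2, inv_mul_cancel_left]
      have h2 : (u : G) ^ j = b := by
        calc (u : G) ^ j = (c : G)⁻¹ * ((c : G) * (u : G) ^ j * (c : G)⁻¹) * c := by group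
          _ = b := by rw [h1, hcb]
      rw [zpow_mul, zpow_natCast, ← h2]
      rfl
    · rw [h4, not_not, hμx, ← orderOf_dvd_iff_zpow_eq_one, hη]
      push_cast
      rfl
  refine ⟨μ, Subgroup.normalizer ((Subgroup.zpowers b : Subgroup G) : Set G), ?_, ?_, ?_, ?_,
    fun x => (hclass x).2, fun x => (hclass x).1, R₀.map K.subtype, Subgroup.map_subtype_le R₀,
    ?_, ?_, ?_⟩
  · have hNmem : ∀ g, g ∈ Subgroup.normalizer ((Subgroup.zpowers b : Subgroup G) : Set G) ↔
        g * b * g⁻¹ = b ∨ g * b * g⁻¹ = b⁻¹ := by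
      intro g
      constructor
      · intro hg
        have h1 : g * b * g⁻¹ ∈ Subgroup.zpowers b :=
          (Subgroup.mem_normalizer_iff.1 hg b).1 (Subgroup.mem_zpowers b)
        obtain ⟨i, hi⟩ := Subgroup.mem_zpowers_iff.1 h1
        have h4 : orderOf (b ^ i) = 4 := by rw [hi, orderOf_conj, hb4]
        rw [← hi]
        rw [← zpow_mod_orderOf, hb4] at h4 ⊢
        have h5 : i % ((4 : ℕ) : ℤ) = 0 ∨ i % ((4 : ℕ) : ℤ) = 1 ∨ i % ((4 : ℕ) : ℤ) = 2 ∨
            i % ((4 : ℕ) : ℤ) = 3 := by omega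
        rcases h5 with e | e | e | e <;> rw [e] at h4 ⊢
        · rw [zpow_zero, orderOf_one] at h4; omega
        · exact Or.inl (zpow_one b)
        · exfalso
          rw [show (2 : ℤ) = ((2 : ℕ) : ℤ) from rfl, zpow_natCast, orderOf_pow' _ two_ne_zero,
            hb4] at h4
          norm_num at h4
        · refine Or.inr (eq_inv_of_mul_eq_one_left ?_)
          rw [← zpow_add_one, ← orderOf_dvd_iff_zpow_eq_one, hb4]
          norm_num
      · intro hg
        have hmap : (Subgroup.zpowers b).map (MulAut.conj g).toMonoidHom = Subgroup.zpowers b := by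
          rw [MonoidHom.map_zpowers]
          show Subgroup.zpowers (g * b * g⁻¹) = _
          rcases hg with e | e <;> rw [e]
          exact Subgroup.zpowers_inv
        rw [Subgroup.mem_normalizer_iff]
        intro y
        conv_rhs => rw [← hmap]
        exact (Subgroup.mem_map_iff_mem (MulAut.conj g).injective).symm
    have hKN : K ≤ Subgroup.normalizer ((Subgroup.zpowers b : Subgroup G) : Set G) := fun g hg => by
      rw [hNmem]
      left
      rw [Subgroup.mem_centralizer_singleton_iff.1 hg, mul_inv_cancel_right]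
    have hwK : w ∉ K := fun e => hbne (by
      rw [← hwb, Subgroup.mem_centralizer_singleton_iff.1 e, mul_inv_cancel_right])
    refine ⟨hKN, ?_, ?_, ?_⟩
    · have hrel : (K.subgroupOf (Subgroup.normalizer ((Subgroup.zpowers b : Subgroup G) : Set G))).index = 2 := by
        rw [Subgroup.index_eq_two_iff]
        refine ⟨⟨w, (hNmem w).2 (Or.inr hwb)⟩, fun g => ?_⟩
        simp only [Subgroup.mem_subgroupOf, Subgroup.coe_mul]
        rcases (hNmem g).1 g.2 with e | e
        · have hg : (g : G) ∈ K := Subgroup.mem_centralizer_singleton_iff.2 (mul_inv_eq_iff_eq_mul.1 e)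
          exact Or.inr ⟨hg, fun hgw => hwK ((Subgroup.mul_mem_cancel_left _ hg).1 hgw)⟩
        · refine Or.inl ⟨Subgroup.mem_centralizer_singleton_iff.2 (mul_inv_eq_iff_eq_mul.1 ?_),
            fun hg => hbne (by rw [← e, Subgroup.mem_centralizer_singleton_iff.1 hg,
              mul_inv_cancel_right])⟩
          calc (g : G) * w * b * ((g : G) * w)⁻¹ = (g : G) * (w * b * w⁻¹) * (g : G)⁻¹ := by group
            _ = ((g : G) * b * (g : G)⁻¹)⁻¹ := by rw [hwb]; group
            _ = b := by rw [e, inv_inv]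
      rw [← Subgroup.card_mul_index (K.subgroupOf _), hrel,
        Nat.card_congr (Subgroup.subgroupOfEquivOfLe hKN).toEquiv, mul_comm]
    · intro x hx g hgx hgμ
      rw [hNmem]
      have h4x : 4 ∣ orderOf (x : G) := by
        by_contra h0; exact hx ((hclass x).2.2 h0)
      have h4g : 4 ∣ orderOf (g * (x : G) * g⁻¹) := by
        by_contra h0; exact hgμ ((hclass ⟨_, hgx⟩).2.2 h0)
      have hb1 := (hclass ⟨_, hgx⟩).1 h4g
      have hb2 : g * b * g⁻¹ ∈ Subgroup.zpowers (g * (x : G) * g⁻¹) := by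
        obtain ⟨j, hj⟩ := Subgroup.mem_zpowers_iff.1 ((hclass x).1 h4x)
        exact ⟨j, by simp only [conj_zpow, hj]⟩
      have he := zpowers_eq_of_orderOf_four hb2 hb1 (by rw [orderOf_conj, hb4]) hb4
      have hg' : g ∈ Subgroup.normalizer ((Subgroup.zpowers b : Subgroup G) : Set G) := by
        rw [Subgroup.mem_normalizer_iff]
        intro y
        have hmap : (Subgroup.zpowers b).map (MulAut.conj g).toMonoidHom = Subgroup.zpowers b := by
          rw [MonoidHom.map_zpowers]
          exact he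
        conv_rhs => rw [← hmap]
        exact (Subgroup.mem_map_iff_mem (MulAut.conj g).injective).symm
      exact (hNmem g).1 hg'
    · intro g hg x
      have hgb := (hNmem g).1 hg
      have hmem : g * (x : G) * g⁻¹ ∈ K := by
        rw [Subgroup.mem_centralizer_singleton_iff]
        have hxb : Commute (x : G) b := Subgroup.mem_centralizer_singleton_iff.1 x.2
        have h1 := (Commute.conj_iff g).2 hxb
        rcases hgb with e | e <;> rw [e] at h1
        · exact h1.eq
        · exact h1.inv_right.eq.trans (by rw [inv_inv]) |>.trans rfl |> fun h' => by simpa using h'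
      refine ⟨hmem, fun hgK => ?_, fun hgK => ?_⟩
      · have : (⟨_, hmem⟩ : K) = ⟨g, hgK⟩ * x * (⟨g, hgK⟩ : K)⁻¹ := Subtype.ext (by simp)
        rw [this, map_mul, map_mul, map_inv, mul_inv_cancel_comm]
      · have hgb' : g * b * g⁻¹ = b⁻¹ := hgb.resolve_left fun e =>
          hgK (Subgroup.mem_centralizer_singleton_iff.2 (mul_inv_eq_iff_eq_mul.1 e))
        have hg1 : g * w⁻¹ ∈ K := by
          rw [Subgroup.mem_centralizer_singleton_iff]
          refine mul_inv_eq_iff_eq_mul.1 ?_
          have hwb' : w⁻¹ * b * w = b⁻¹ := by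
            have hinv : w * b⁻¹ * w⁻¹ = b :=
              calc w * b⁻¹ * w⁻¹ = (w * b * w⁻¹)⁻¹ := by group
                _ = b := by rw [hwb, inv_inv]
            calc w⁻¹ * b * w = w⁻¹ * (w * b⁻¹ * w⁻¹) * w := by rw [hinv]
              _ = b⁻¹ := by group
          calc g * w⁻¹ * b * (g * w⁻¹)⁻¹ = g * (w⁻¹ * b * w) * g⁻¹ := by group
            _ = (g * b * g⁻¹)⁻¹ := by rw [hwb']; group
            _ = b := by rw [hgb', inv_inv]
        have hwx : ∀ y : K, w * (y : G) * w⁻¹ ∈ K := fun y => by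
          rw [Subgroup.mem_centralizer_singleton_iff]
          have h1 := (Commute.conj_iff w).2
            (Subgroup.mem_centralizer_singleton_iff.1 y.2 : Commute (y : G) b)
          rw [hwb] at h1
          simpa using h1.inv_right.eq
        set ν : K →* ℂˣ :=
          { toFun := fun y => μ ⟨_, hwx y⟩
            map_one' := by
              convert map_one μ using 2
              exact Subtype.ext (by simp)
            map_mul' := fun y y' => by
              rw [← map_mul]
              congr 1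
              exact Subtype.ext (by simp [mul_assoc]) } with hν
        have hνinv : ∀ y : K, ν y = (μ y)⁻¹ := by
          intro y
          obtain ⟨r, hr, i, rfl⟩ := hdec y
          have hr1 : Odd (orderOf r) := by
            refine Odd.of_dvd_nat hRodd ?_
            rw [← Subgroup.orderOf_mk r hr]
            exact orderOf_dvd_natCard _
          have hνa : ν ⟨a, haK⟩ = η⁻¹ := by
            show μ ⟨_, hwx _⟩ = _
            rw [← hμa, ← map_inv]
            congr 1
            exact Subtype.ext (by simpa using hwinv)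
          rw [map_mul, map_mul, hodd ν r (fun y => hμpow _) hr1, hμR r hr, one_mul, one_mul,
            map_zpow, map_zpow, hνa, hμa, inv_zpow]
        have : (⟨_, hmem⟩ : K) =
            ⟨g * w⁻¹, hg1⟩ * ⟨_, hwx x⟩ * (⟨g * w⁻¹, hg1⟩ : K)⁻¹ :=
          Subtype.ext (by simp [mul_assoc])
        rw [this, map_mul, map_mul, map_inv, mul_inv_cancel_comm]
        exact hνinv x
  · intro e
    have := DFunLike.congr_fun e ⟨a, haK⟩
    rw [hμa, MonoidHom.one_apply] at this
    rw [this, orderOf_one] at hη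
    have : 2 ^ 1 ≤ 2 ^ (k - 1) := Nat.pow_le_pow_right two_pos (by omega)
    omega
  · intro hk3 e
    have := DFunLike.congr_fun e ⟨a, haK⟩
    rw [MonoidHom.mul_apply, hμa, MonoidHom.one_apply, ← pow_two, ← orderOf_dvd_iff_pow_eq_one,
      hη] at this
    have h1 := Nat.le_of_dvd two_pos this
    have : 2 ^ 2 ≤ 2 ^ (k - 1) := Nat.pow_le_pow_right two_pos (by omega)
    omega
  · intro hk
    refine MonoidHom.ext fun y => ?_
    obtain ⟨r, hr, i, rfl⟩ := hdec y
    rw [MonoidHom.mul_apply, MonoidHom.one_apply, map_mul, hμR r hr, one_mul, map_zpow, hμa,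
      ← mul_zpow, ← pow_two]
    subst hk
    have : η ^ 2 = 1 := by rw [← orderOf_dvd_iff_pow_eq_one, hη]; norm_num
    rw [this, one_zpow]
  · rw [Nat.card_congr (R₀.equivMapOfInjective _ K.subtype_injective).toEquiv.symm]
    exact hRodd
  · rw [Nat.card_congr (R₀.equivMapOfInjective _ K.subtype_injective).toEquiv.symm]
    exact hKcard
  · intro x hx hxodd
    refine ⟨⟨x, hx⟩, MonoidHom.mem_ker.2 ?_, rfl⟩
    have hd := orderOf_map_dvd φ ⟨x, hx⟩
    obtain ⟨i, hi⟩ := IsPGroup.iff_orderOf.1 T.2 (φ ⟨x, hx⟩)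
    rw [hi] at hd
    rcases Nat.eq_zero_or_pos i with rfl | h0
    · exact orderOf_eq_one_iff.1 (by rw [hi, pow_zero])
    · refine absurd ((dvd_pow_self 2 h0.ne').trans hd) ?_
      rw [Subgroup.orderOf_mk]
      exact hxodd.not_two_dvd_nat

end Cfsg.Agent.Invol
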