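import Cfsg.Agent.Invol.CentralInvolution
import Cfsg.Agent.Core.PCore
import Cfsg.Agent.Invol.ZStar

/-!
A group without subgroups of index two and odd core one, with quasi-dihedral or wreathed Sylow
2-subgroups, has a simple normal subgroup of odd index.
-/

set_option autoImplicit false

namespace Cfsg.Agent.Invol

open Subgroup

universe u

variable {G : Type u} [Group G] [Finite G] {S : Sylow 2 G}

theorem zmod_isUnit_odd {n : ℕ} (t : ZMod (2 ^ n)) : IsUnit (2 * t + 1) := by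
  refine IsNilpotent.isUnit_add_one ⟨n, ?_⟩
  rw [mul_pow, show (2 : ZMod (2 ^ n)) ^ n = ((2 ^ n : ℕ) : ZMod (2 ^ n)) by push_cast; ring,
    ZMod.natCast_self, zero_mul]

/-- Simplicity of the normal subgroup generated by the conjugates of `z`. -/
theorem simple_normal_of (z : G) (hzS : z ∈ (S : Subgroup G)) (hz : orderOf z = 2)
    (hO : Cfsg.oddCore G = ⊥) (hall : ∀ t : G, orderOf t = 2 → IsConj z t)
    (hS : ∀ N : Subgroup G, N.Normal → z ∈ N → (S : Subgroup G) ≤ N)
    (hin : ∀ W : Subgroup G, (∀ s ∈ (S : Subgroup G), ∀ v ∈ W, s * v * s⁻¹ ∈ W) →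
      ∀ v ∈ W, v ∈ (S : Subgroup G) → orderOf v = 2 → z ∈ W)
    (hnc : ∃ a ∈ (S : Subgroup G), ∃ b ∈ (S : Subgroup G), a * b ≠ b * a) :
    ∃ L : Subgroup G, L.Normal ∧ Odd L.index ∧ IsSimpleGroup L ∧ ¬ IsMulCommutative L := by
  have : Fact (Nat.Prime 2) := ⟨Nat.prime_two⟩
  set L := normalClosure ({z} : Set G) with hL
  have hzL : z ∈ L := subset_normalClosure rfl
  have hSL : (S : Subgroup G) ≤ L := hS L inferInstance hzL
  refine ⟨L, inferInstance, ?_, ?_, ?_⟩
  · rw [← Nat.not_even_iff_odd, even_iff_two_dvd]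
    exact fun h => S.not_dvd_index (h.trans (index_dvd_of_le hSL))
  · have hO' : Cfsg.pPrimeCore 2 L = ⊥ := by
      refine map_injective L.subtype_injective ?_
      rw [Core.map_pPrimeCore_normal, show Cfsg.pPrimeCore 2 G = ⊥ from hO, bot_inf_eq, Subgroup.map_bot]
    have : Nontrivial L := ⟨⟨z, hzL⟩, 1, fun e => by
      rw [show z = 1 from congrArg Subtype.val e, orderOf_one] at hz; omega⟩
    refine ⟨fun M hM => ?_⟩
    by_cases hbot : M = ⊥
    · exact Or.inl hbot
    refine Or.inr ?_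
    have key : ∀ M : Subgroup L, M.Normal → M ≠ ⊥ → (⟨z, hzL⟩ : L) ∈ M := by
      intro M hM hne
      have h2 : 2 ∣ Nat.card M := by
        by_contra hodd
        exact hne (le_bot_iff.1 (hO' ▸ Core.le_pPrimeCore
          ((Nat.Prime.coprime_iff_not_dvd Nat.prime_two).2 hodd).symm))
      obtain ⟨t, ht⟩ := exists_prime_orderOf_dvd_card' 2 h2
      obtain ⟨d, hd⟩ := exists_conj_mem_of_isPGroup (S.subtype hSL) (x := (t : L))
        ⟨1, by rw [Subgroup.orderOf_coe, ht, pow_one]⟩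
      have hv : d * (t : L) * d⁻¹ ∈ M := hM.conj_mem _ t.2 d
      obtain ⟨w, hw, hwe⟩ := hin (M.map L.subtype) (fun s hs v hv' => by
        obtain ⟨v', hv'', rfl⟩ := hv'
        exact ⟨⟨s, hSL hs⟩ * v' * ⟨s, hSL hs⟩⁻¹, hM.conj_mem _ hv'' _, rfl⟩) _ ⟨_, hv, rfl⟩ hd (by
        rw [orderOf_injective L.subtype L.subtype_injective, Cfsg.Agent.Invol.orderOf_conj,
          Subgroup.orderOf_coe, ht])
      rwa [show (⟨z, hzL⟩ : L) = w from Subtype.ext hwe.symm]
    have hconj : ∀ g : G, ∀ h : g * z * g⁻¹ ∈ L, (⟨g * z * g⁻¹, h⟩ : L) ∈ M := by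
      intro g h
      let f : L →* L := (MulAut.conjNormal g : L ≃* L).toMonoidHom
      have hf : Function.Surjective f := (MulAut.conjNormal g : L ≃* L).surjective
      have h1 := key (M.comap f) (hM.comap f) fun hb => hbot (by
        rw [← map_comap_eq_self_of_surjective hf M, hb, Subgroup.map_bot])
      have h2 : f ⟨z, hzL⟩ ∈ M := h1
      rwa [show f ⟨z, hzL⟩ = ⟨g * z * g⁻¹, h⟩ from Subtype.ext (MulAut.conjNormal_apply g _)] at h2
    have hle : L ≤ M.map L.subtype := by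
      show normalClosure ({z} : Set G) ≤ M.map L.subtype
      refine (closure_le _).2 ?_
      intro v hv
      obtain ⟨a, rfl, hc⟩ := Group.mem_conjugatesOfSet_iff.1 hv
      obtain ⟨g, hg⟩ := isConj_iff.1 hc
      have hgL : g * a * g⁻¹ ∈ L := (inferInstance : L.Normal).conj_mem a hzL g
      exact ⟨⟨g * a * g⁻¹, hgL⟩, hconj g hgL, hg⟩
    refine eq_top_iff.2 fun l _ => ?_
    obtain ⟨v, hv, hve⟩ := hle l.2
    rwa [show l = v from Subtype.ext hve.symm]
  · obtain ⟨a, ha, b, hb, hab⟩ := hnc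
    intro h
    exact hab (congrArg Subtype.val (h.is_comm.comm ⟨a, hSL ha⟩ ⟨b, hSL hb⟩))

namespace WRGen

variable {x y z : (S : Subgroup G)} {n : ℕ} (hh : WRGen x y z n)
include hh

theorem simple_normal (hG : ∀ H : Subgroup G, H.index ≠ 2) (hO : Cfsg.oddCore G = ⊥) :
    ∃ L : Subgroup G, L.Normal ∧ Odd L.index ∧ IsSimpleGroup L ∧ ¬ IsMulCommutative L := by
  obtain ⟨h6, hV⟩ := hh.U6_V6_of_no_index_two hG
  refine simple_normal_of _ (wu_mem (wh n) (wh n)) hh.z0_order hO
    (fun t ht => hh.all_conj_of_U6_V6 h6 hV ht) ?_ ?_ ?_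
  · intro N hN hz
    have hinv : ∀ i, wo x y z n i (-i) ∈ N := fun i => by
      obtain ⟨g, hg⟩ := isConj_iff.1 (hh.all_conj_of_U6_V6 h6 hV (t := wo x y z n i (-i))
        ((Subgroup.orderOf_coe _).trans (hh.order_two.2 (Or.inr (Or.inr (Or.inr ⟨i, rfl⟩))))))
      exact hg ▸ hN.conj_mem _ hz g
    have ho : wo x y z n 0 0 ∈ N := by simpa using hinv 0
    have h1 : wu x y n 1 (-1) ∈ N := by
      have h := N.mul_mem (hinv 1) ho
      rwa [hh.o_mul_o, add_zero, add_zero] at h
    obtain ⟨m, hm, -, hmz⟩ := hh.U6_moves h6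
    obtain ⟨i, j, hij⟩ := hh.mem_uG.1 ((mem_normalizer_iff.1 hm _).1 (hh.wu_mem_uG 1 (-1)))
    have hijN : wu x y n i j ∈ N := hij ▸ hN.conj_mem _ h1 m
    have hu : ∀ a b, wu x y n a b ^ 2 ^ (n - 1) = wu x y n (wh n * a) (wh n * b) := fun a b => by
      rw [hh.u_pow, wh]; push_cast; rfl
    have himg : m * wu x y n (wh n) (wh n) * m⁻¹ = wu x y n (wh n * i) (wh n * j) := by
      rw [show wu x y n (wh n) (wh n) = wu x y n (wh n * 1) (wh n * (-1)) by
        rw [mul_one, mul_neg_one, hh.neg_h], ← hu, ← hu, ← conj_pow, hij]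
    have hhe : ∀ c : ZMod (2 ^ n), wh n * (2 * c) = 0 := fun c => by rw [wh]; exact hh.pow_half_even c
    have hho : ∀ c : ZMod (2 ^ n), wh n * (2 * c + 1) = wh n := fun c => by rw [wh]; exact hh.pow_half_odd c
    obtain ⟨t, ht⟩ : ∃ t, i + j = 2 * t + 1 := by
      obtain ⟨p, hp⟩ := dparity i
      obtain ⟨q, hq⟩ := dparity j
      rcases hp with hp | hp <;> rcases hq with hq | hq
      · exfalso
        rw [hp, hq, hhe, hhe, u_zero, conj_eq_one_iff] at himg
        exact hh.h_ne (hh.u_eq_one.1 himg).1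
      · exact ⟨p + q, by rw [hp, hq]; ring⟩
      · exact ⟨p + q, by rw [hp, hq]; ring⟩
      · exfalso
        rw [hp, hq, hho, hho] at himg
        exact hmz himg
    obtain ⟨d, hd⟩ := (zmod_isUnit_odd t).exists_left_inv
    have h10 : wu x y n 1 0 ∈ N := by
      have h := N.pow_mem (N.mul_mem hijN (N.pow_mem h1 j.val)) d.val
      rw [hh.u_pow, hh.u_mul_u, hh.u_pow, ZMod.natCast_zmod_val, ZMod.natCast_zmod_val] at h
      convert h using 2
      · rw [mul_one, ht, hd]
      · ring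
    have h01 : wu x y n 0 1 ∈ N := by
      rw [← hh.o_conj_u 0 0 1 0]
      exact hN.conj_mem _ h10 _
    have hU : ∀ a b, wu x y n a b ∈ N := fun a b => by
      have h := N.mul_mem (N.pow_mem h10 a.val) (N.pow_mem h01 b.val)
      rwa [hh.u_pow, hh.u_pow, hh.u_mul_u, ZMod.natCast_zmod_val, ZMod.natCast_zmod_val, mul_one,
        mul_zero, mul_zero, mul_one, add_zero, zero_add] at h
    intro s hs
    rcases hh.casesG hs with ⟨a, b, rfl⟩ | ⟨a, b, rfl⟩
    · exact hU a b
    · rw [show wo x y z n a b = wu x y n a b * wo x y z n 0 0 by rw [hh.u_mul_o, add_zero, add_zero]]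
      exact N.mul_mem (hU a b) ho
  · intro W hW v hvW hvS hv
    rcases hh.involution_cases hvS hv with rfl | rfl | rfl | ⟨i, rfl⟩
    · exact hvW
    · have h := W.mul_mem hvW (hW _ (wo_mem (x := x) (y := y) (z := z) (n := n) 0 0) _ hvW)
      rwa [hh.o_conj_u, hh.u_mul_u, add_zero, zero_add] at h
    · have h := W.mul_mem hvW (hW _ (wo_mem (x := x) (y := y) (z := z) (n := n) 0 0) _ hvW)
      rwa [hh.o_conj_u, hh.u_mul_u, add_zero, zero_add] at h
    · have h := W.mul_mem (hW _ (wu_mem (x := x) (y := y) (n := n) (wq n) 0) _ hvW) hvW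
      rw [hh.u_conj_o, hh.o_mul_o] at h
      have h2 := W.mul_mem h h
      rw [hh.u_mul_u] at h2
      convert h2 using 2
      · linear_combination -hh.two_q
      · linear_combination hh.two_q + hh.two_h
  · refine ⟨_, wu_mem (x := x) (y := y) (n := n) 1 0, _, wo_mem (x := x) (y := y) (z := z) (n := n) 0 0, fun h => ?_⟩
    rw [hh.u_mul_o, hh.o_mul_u] at h
    have h10 : (1 : ZMod (2 ^ n)) = 0 := by linear_combination (hh.o_inj h).1
    exact hh.h_ne (by rw [← mul_one (wh n), h10, mul_zero])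

end WRGen

namespace QDGen

variable {x y : (S : Subgroup G)} {n : ℕ} (hh : QDGen x y n)
include hh

theorem simple_normal (hG : ∀ H : Subgroup G, H.index ≠ 2) (hO : Cfsg.oddCore G = ⊥) :
    ∃ L : Subgroup G, L.Normal ∧ Odd L.index ∧ IsSimpleGroup L ∧ ¬ IsMulCommutative L := by
  obtain ⟨hT, hQ⟩ := hh.T6_Q6_of_no_index_two hG
  refine simple_normal_of _ (qu_mem (qh n)) hh.z_order hO (fun t ht => ?_) ?_ ?_ ?_
  · rcases hh.involution_isConj ht with e | e
    exacts [e, (hh.fuses_of_T6 hT).trans e]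
  · intro N hN hz
    have hv : ∀ m, qv x y n (2 * m) ∈ N := fun m => by
      obtain ⟨g, hg⟩ := isConj_iff.1 ((hh.fuses_of_T6 hT).trans (hh.isConj_even' m))
      exact hg ▸ hN.conj_mem _ hz g
    have h0 : qv x y n 0 ∈ N := by simpa using hv 0
    have he : ∀ m, qu x n (2 * m) ∈ N := fun m => by
      have h := N.mul_mem (hv m) h0
      rwa [hh.qv_mul_qv, mul_zero, sub_zero, add_zero] at h
    have h1 : qv x y n 1 ∈ N := by
      obtain ⟨g, hg⟩ := isConj_iff.1 (hh.fuses_of_Q6 hQ)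
      obtain ⟨m, hm⟩ := hh.q_even'
      rw [← hg, hm]
      exact hN.conj_mem _ (he m) g
    have hx : ∀ i, qu x n i ∈ N := fun i => by
      obtain ⟨m, rfl | rfl⟩ := parity i
      · exact he m
      · rw [← hh.qu_mul_qu]
        refine N.mul_mem (he m) ?_
        have h := N.mul_mem h1 h0
        rwa [hh.qv_mul_qv, mul_zero, sub_zero, add_zero] at h
    intro s hs
    rcases hh.casesG hs with ⟨i, rfl⟩ | ⟨i, rfl⟩
    · exact hx i
    · rw [show qv x y n i = qu x n i * qv x y n 0 by rw [hh.qu_mul_qv, add_zero]]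
      exact N.mul_mem (hx i) h0
  · intro W hW v hvW hvS hv
    rcases hh.involution_cases hvS hv with rfl | ⟨m, rfl⟩
    · exact hvW
    · have h := W.mul_mem (hW _ (qu_mem (x := x) (n := n) (qq n)) _ hvW) hvW
      rw [hh.qu_conj_qv, hh.qv_mul_qv] at h
      convert h using 2
      linear_combination -m * hh.two_h + hh.h_q - hh.two_q
  · refine ⟨_, qu_mem (x := x) (n := n) (qq n), _, qv_mem (x := x) (y := y) (n := n) 0, fun h => ?_⟩
    have h2 := hh.qv_h_conj
    rw [h, mul_inv_cancel_right] at h2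
    exact hh.h_ne (hh.qv_inj h2).symm

end QDGen

end Cfsg.Agent.Invol
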