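import Mathlib.GroupTheory.Sylow

/-!
Sylow subgroups of a normal subgroup are intersections with Sylow subgroups.
-/

set_option autoImplicit false

namespace Cfsg.Agent.Invol

open Subgroup

variable {G : Type*} [Group G] [Finite G] {p : ℕ} [Fact p.Prime]

/-- The intersection of a Sylow subgroup with a normal subgroup is Sylow in it. -/
theorem exists_sylow_eq_inf (S : Sylow p G) (N : Subgroup G) [hN : N.Normal] :
    ∃ P : Sylow p N, (P : Subgroup N) = ((S : Subgroup G) ⊓ N).subgroupOf N := by
  obtain ⟨P, hP⟩ := ((S.2.to_le (inf_le_left : (S : Subgroup G) ⊓ N ≤ S)).comap_subtype (K := N)).exists_le_sylow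
  refine ⟨P, (eq_of_le_of_card_ge hP ?_).symm⟩
  obtain ⟨R, hR⟩ := (P.2.map N.subtype).exists_le_sylow
  obtain ⟨g, hg⟩ := MulAction.exists_smul_eq G R S
  have hle : ((P : Subgroup N).map N.subtype).map (MulAut.conj g).toMonoidHom ≤ (S : Subgroup G) ⊓ N := by
    refine le_inf (by rw [← hg, Sylow.coe_subgroup_smul]; exact Subgroup.map_mono hR) ?_
    rintro _ ⟨_, ⟨v, -, rfl⟩, rfl⟩
    exact hN.conj_mem _ v.2 g
  have h := card_le_of_le hle
  rw [card_map_of_injective (MulAut.conj g).injective, card_map_of_injective N.subtype_injective] at h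
  exact h.trans (Nat.card_congr (subgroupOfEquivOfLe inf_le_right).toEquiv).ge

theorem sylow_equiv_inf (S : Sylow p G) (N : Subgroup G) [N.Normal] (P : Sylow p N) :
    Nonempty ((P : Subgroup N) ≃* ↥((S : Subgroup G) ⊓ N)) := by
  obtain ⟨P₀, hP₀⟩ := exists_sylow_eq_inf S N
  exact ⟨((P.equiv P₀).trans (MulEquiv.subgroupCongr hP₀)).trans (subgroupOfEquivOfLe inf_le_right)⟩

/-- A subgroup containing a Sylow subgroup has index prime to `p`. -/
theorem index_ne_of_sylow_le {H : Subgroup G} (P : Sylow p G) (h : (P : Subgroup G) ≤ H) :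
    H.index ≠ p :=
  fun e => P.not_dvd_index (e.symm.dvd.trans (index_dvd_of_le h))

end Cfsg.Agent.Invol
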