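import Cfsg.Agent.Invol.WRV
import Cfsg.Agent.Invol.SylowConj

/-!
An automiser of order six of `V` is equivalent to fusion of an outer involution into `U`.
-/

set_option autoImplicit false

namespace Cfsg.Agent.Invol

open Subgroup

universe u

variable {G : Type u} [Group G] {S : Sylow 2 G} {x y z : (S : Subgroup G)} {n : ℕ}

/-- `U` has automiser of order six. -/
def WRGen.U6 (hh : WRGen x y z n) : Prop :=
  (centralizer (hh.uG : Set G)).relIndex (normalizer (hh.uG : Set G)) = 6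

/-- `U` has automiser of order two. -/
def WRGen.U2 (hh : WRGen x y z n) : Prop :=
  (centralizer (hh.uG : Set G)).relIndex (normalizer (hh.uG : Set G)) = 2

/-- `V` has automiser of order six. -/
def WRGen.V6 (hh : WRGen x y z n) : Prop :=
  (hh.vG ⊔ centralizer (hh.vG : Set G)).relIndex (normalizer (hh.vG : Set G)) = 6

namespace WRGen

variable (hh : WRGen x y z n)
include hh

theorem isConj_outer (i : ZMod (2 ^ n)) : IsConj (wo x y z n 0 0) (wo x y z n i (-i)) :=
  isConj_iff.2 ⟨wu x y n i 0, by rw [hh.u_conj_o]; congr 1 <;> ring⟩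

theorem isConj_swap (i j : ZMod (2 ^ n)) : IsConj (wu x y n i j) (wu x y n j i) :=
  isConj_iff.2 ⟨wo x y z n 0 0, hh.o_conj_u 0 0 i j⟩

theorem u_h0_order : orderOf (wu x y n (wh n) 0) = 2 :=
  (Subgroup.orderOf_coe _).trans (hh.order_two.2 (Or.inr (Or.inl rfl)))

theorem u_0h_order : orderOf (wu x y n 0 (wh n)) = 2 :=
  (Subgroup.orderOf_coe _).trans (hh.order_two.2 (Or.inr (Or.inr (Or.inl rfl))))

theorem o_order : orderOf (wo x y z n 0 0) = 2 :=
  (Subgroup.orderOf_coe _).trans (hh.order_two.2 (Or.inr (Or.inr (Or.inr ⟨0, by rw [neg_zero]⟩))))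

theorem uG_involution {v : G} (hv : v ∈ hh.uG) (h2 : orderOf v = 2) :
    v = wu x y n (wh n) (wh n) ∨ v = wu x y n (wh n) 0 ∨ v = wu x y n 0 (wh n) := by
  rcases hh.involution_cases (hh.uG_le hv) h2 with e | e | e | ⟨i, e⟩
  · exact Or.inl e
  · exact Or.inr (Or.inl e)
  · exact Or.inr (Or.inr e)
  · obtain ⟨a, b, rfl⟩ := hh.mem_uG.1 hv
    exact absurd e (hh.u_ne_o _ _ _ _)

variable [Finite G]

theorem fuses_of_moved {m : G} (hm : m ∈ normalizer (hh.vG : Set G))
    (hm' : m ∉ normalizer (hh.cG : Set G)) : IsConj (wu x y n 0 (wh n)) (wo x y z n 0 0) := by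
  set v := m * wu x y n 0 (wh n) * m⁻¹ with hv
  have hvm : v ∈ hh.vG := (mem_normalizer_iff.1 hm _).1 (hh.u_mem_vG (by rw [sub_zero, hh.two_h]))
  have hvo : orderOf v = 2 := (Cfsg.Agent.Invol.orderOf_conj m _).trans hh.u_0h_order
  obtain ⟨b, f, hf, e | e⟩ := hvm
  · refine absurd (mem_normalizer_of_forall ?_) hm'
    rintro _ ⟨a, e', he', rfl⟩
    obtain ⟨b', hb'⟩ := hh.scalar_image hm a
    rcases hh.two_mul_eq_zero he' with rfl | rfl
    · rw [add_zero, hb']; exact hh.scalar_mem_cG b'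
    · rw [show wu x y n a (a + wh n) = wu x y n a a * wu x y n 0 (wh n) by rw [hh.u_mul_u, add_zero],
        ← MulAut.conj_apply, map_mul, MulAut.conj_apply, MulAut.conj_apply, hb', ← hv, e]
      exact hh.cG.mul_mem (hh.scalar_mem_cG b') ⟨b, f, hf, rfl⟩
  · rcases hh.involution_cases (e ▸ wo_mem b (b + f)) hvo with h | h | h | ⟨i, h⟩
    · exact absurd (h.symm.trans e) (hh.u_ne_o _ _ _ _)
    · exact absurd (h.symm.trans e) (hh.u_ne_o _ _ _ _)
    · exact absurd (h.symm.trans e) (hh.u_ne_o _ _ _ _)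
    · exact (isConj_iff.2 ⟨m, h⟩).trans (hh.isConj_outer i).symm

theorem fuses_of_V6 (h6 : hh.V6) : IsConj (wu x y n 0 (wh n)) (wo x y z n 0 0) := by
  rcases hh.V_auto with ⟨h, -⟩ | ⟨-, m, hm, -, hm'⟩
  · rw [WRGen.V6, h] at h6; omega
  · exact hh.fuses_of_moved hm hm'

theorem V6_of_conj_into_U {k : G} (h1 : k * wu x y n 1 1 * k⁻¹ ∈ hh.uG)
    (h2 : k * wo x y z n 0 0 * k⁻¹ ∈ hh.uG) : hh.V6 := by
  have : Fact (Nat.Prime 2) := ⟨Nat.prime_two⟩
  obtain ⟨n', hn', hne⟩ := hh.fuse_U (hh.wu_mem_uG 1 1) h1 rfl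
  set k' := n'⁻¹ * k with hk'
  have hfix : ∀ a, k' * wu x y n a a * k'⁻¹ = wu x y n a a := by
    intro a
    have e : wu x y n 1 1 ^ a.val = wu x y n a a := by
      rw [hh.u_pow, ZMod.natCast_zmod_val, mul_one]
    have e1 : k' * wu x y n 1 1 * k'⁻¹ = wu x y n 1 1 := by
      calc k' * wu x y n 1 1 * k'⁻¹ = n'⁻¹ * (k * wu x y n 1 1 * k⁻¹) * n' := by rw [hk']; group
        _ = n'⁻¹ * (n' * wu x y n 1 1 * n'⁻¹) * n' := by rw [hne]
        _ = wu x y n 1 1 := by group
    rw [← e, ← conj_pow, e1]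
  set t := k' * wo x y z n 0 0 * k'⁻¹ with ht
  have htU : t ∈ hh.uG := by
    have h := (mem_normalizer_iff''.1 hn' _).1 h2
    convert h using 1
    rw [ht, hk']; group
  have hto : orderOf t = 2 := (Cfsg.Agent.Invol.orderOf_conj k' _).trans hh.o_order
  obtain ⟨i, j, htij, hji⟩ : ∃ i j, t = wu x y n i j ∧ j - i = wh n := by
    rcases hh.uG_involution htU hto with e | e | e
    · exfalso
      have h := e.trans (hfix (wh n)).symm
      exact hh.u_ne_o _ _ _ _ (mul_left_cancel (mul_right_cancel h)).symm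
    · exact ⟨_, _, e, by rw [zero_sub, hh.neg_h]⟩
    · exact ⟨_, _, e, sub_zero _⟩
  have htC : t ∈ hh.cG := htij ▸ hh.u_mem_cG (by rw [hji, hh.two_h])
  have hgen : ∀ a e, 2 * e = 0 → wu x y n a (a + e) = wu x y n a a ∨
      wu x y n a (a + e) = wu x y n (a - i) (a - i) * t := by
    intro a e he
    rcases hh.two_mul_eq_zero he with rfl | rfl
    · exact Or.inl (by rw [add_zero])
    · exact Or.inr (by rw [htij, hh.u_mul_u, sub_add_cancel, ← hji]; congr 1; ring)
  -- the image of `u (0, h)`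
  set v := k' * wu x y n 0 (wh n) * k'⁻¹ with hv
  have hcc : ∀ a b : G, k' * a * k'⁻¹ * (k' * b * k'⁻¹) * (k' * a * k'⁻¹)⁻¹ = k' * (a * b * a⁻¹) * k'⁻¹ :=
    fun a b => by group
  have hvN : v ∈ normalizer (hh.cG : Set G) := by
    have hs : ∀ a, v * wu x y n a a * v⁻¹ = wu x y n a a := by
      intro a
      conv_lhs => rw [← hfix a]
      rw [hv, hcc, hh.u_conj_u, hfix]
    have hvt : v * t * v⁻¹ = wu x y n (wh n) (wh n) * t := by
      rw [hv, ht, hcc, hh.u_conj_o]
      conv_rhs => rw [← hfix (wh n), ← MulAut.conj_apply, ← MulAut.conj_apply, ← map_mul, hh.u_mul_o]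
      rw [MulAut.conj_apply]
      congr 3
      · linear_combination -hh.two_h
      · ring
    refine mem_normalizer_of_forall ?_
    rintro _ ⟨a, e, he, rfl⟩
    rcases hgen a e he with h | h <;> rw [h]
    · rw [hs]; exact hh.scalar_mem_cG a
    · rw [← MulAut.conj_apply, map_mul, MulAut.conj_apply, MulAut.conj_apply, hs, hvt]
      exact hh.cG.mul_mem (hh.scalar_mem_cG _) (hh.cG.mul_mem (hh.scalar_mem_cG _) htC)
  have hvo : orderOf v = 2 := (Cfsg.Agent.Invol.orderOf_conj k' _).trans hh.u_0h_order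
  obtain ⟨d, hd⟩ := exists_conj_mem_of_isPGroup
    (S.subtype (fun g hg => hh.cG_normalized_by_sylow hg : (S : Subgroup G) ≤ normalizer (hh.cG : Set G)))
    (x := ⟨v, hvN⟩) ⟨1, by rw [Subgroup.orderOf_mk, hvo, pow_one]⟩
  have hdS : (d : G) * v * (d : G)⁻¹ ∈ (S : Subgroup G) := hd
  have hdC : ∀ c ∈ hh.cG, (d : G) * c * (d : G)⁻¹ ∈ hh.cG := fun c hc => (mem_normalizer_iff.1 d.2 c).1 hc
  obtain ⟨l, hl⟩ : ∃ l, (d : G) * v * (d : G)⁻¹ = wo x y z n l (-l) := by
    have hnot : (d : G) * v * (d : G)⁻¹ ∉ hh.cG := by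
      intro h
      have hv' : v ∈ hh.cG := (mem_normalizer_iff.1 d.2 v).2 h
      obtain ⟨a, e, he, hae⟩ := hv'
      rcases hgen a e he with h' | h' <;> rw [h'] at hae
      · rw [hv, ← hfix a] at hae
        exact hh.u_ne_scalar (Ne.symm hh.h_ne) a (mul_left_cancel (mul_right_cancel hae))
      · rw [hv, ← hfix (a - i), ht, ← MulAut.conj_apply, ← MulAut.conj_apply, ← MulAut.conj_apply,
          ← map_mul, hh.u_mul_o] at hae
        exact hh.u_ne_o _ _ _ _ ((MulAut.conj k').injective hae)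
    rcases hh.involution_cases hdS ((Cfsg.Agent.Invol.orderOf_conj _ _).trans hvo) with e | e | e | e
    · exact absurd (e ▸ hh.scalar_mem_cG (wh n)) hnot
    · exact absurd (e ▸ hh.u_mem_cG (by rw [zero_sub, hh.neg_h, hh.two_h])) hnot
    · exact absurd (e ▸ hh.u_mem_cG (by rw [sub_zero, hh.two_h])) hnot
    · exact e
  set m := wu x y n (-l) 0 * ((d : G) * k') with hm
  have hmC : ∀ c, k' * c * k'⁻¹ ∈ hh.cG → m * c * m⁻¹ ∈ hh.cG := by
    intro c hc
    have h : m * c * m⁻¹ = wu x y n (-l) 0 * ((d : G) * (k' * c * k'⁻¹) * (d : G)⁻¹) * (wu x y n (-l) 0)⁻¹ := by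
      rw [hm]; group
    rw [h]
    exact (mem_normalizer_iff.1 (hh.cG_normalized_by_sylow (wu_mem _ _)) _).1 (hdC _ hc)
  have hmv : m * wu x y n 0 (wh n) * m⁻¹ = wo x y z n 0 0 := by
    calc m * wu x y n 0 (wh n) * m⁻¹ = wu x y n (-l) 0 * ((d : G) * v * (d : G)⁻¹) * (wu x y n (-l) 0)⁻¹ := by
          rw [hm, hv]; group
      _ = wo x y z n 0 0 := by rw [hl, hh.u_conj_o]; congr 1 <;> ring
  have hms : ∀ a, m * wu x y n a a * m⁻¹ ∈ hh.cG := fun a => hmC _ (by rw [hfix]; exact hh.scalar_mem_cG a)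
  have hmo : m * wo x y z n 0 0 * m⁻¹ ∈ hh.cG := hmC _ htC
  have hmV : m ∈ normalizer (hh.vG : Set G) := by
    refine mem_normalizer_of_forall fun c hc => ?_
    have : ∀ b, MulAut.conj m (wu x y n b b) ∈ hh.vG := fun b => hh.cG_le_vG (hms b)
    have ho : MulAut.conj m (wo x y z n 0 0) ∈ hh.vG := hh.cG_le_vG hmo
    have hu : MulAut.conj m (wu x y n 0 (wh n)) ∈ hh.vG := by
      rw [MulAut.conj_apply, hmv]; exact hh.o_mem_vG (by rw [sub_self, mul_zero])
    rw [← MulAut.conj_apply]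
    obtain ⟨a, e, he, rfl | rfl⟩ := hc <;> rcases hh.two_mul_eq_zero he with rfl | rfl
    · rw [add_zero]; exact this a
    · rw [show wu x y n a (a + wh n) = wu x y n a a * wu x y n 0 (wh n) by rw [hh.u_mul_u, add_zero], map_mul]
      exact mul_mem (this a) hu
    · rw [show wo x y z n a (a + 0) = wu x y n a a * wo x y z n 0 0 by
        simp only [hh.u_mul_o, add_zero], map_mul]
      exact mul_mem (this a) ho
    · rw [show wo x y z n a (a + wh n) = wu x y n a a * wu x y n 0 (wh n) * wo x y z n 0 0 by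
        simp only [hh.u_mul_u, hh.u_mul_o, add_zero], map_mul, map_mul]
      exact mul_mem (mul_mem (this a) hu) ho
  rcases hh.V_auto with ⟨-, hN⟩ | ⟨h, -⟩
  · exfalso
    have h := (mem_normalizer_iff.1 (hN hmV) _).1 (hh.u_mem_cG (i := 0) (j := wh n) (by rw [sub_zero, hh.two_h]))
    rw [hmv] at h
    obtain ⟨a, e, -, hae⟩ := h
    exact hh.u_ne_o _ _ _ _ hae.symm
  · exact h

theorem isConj_z0_of_U6 (h6 : hh.U6) {v : G} (hv : v ∈ hh.uG) (hvo : orderOf v = 2) :
    IsConj (wu x y n (wh n) (wh n)) v := by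
  rcases hh.U_auto with ⟨h, -⟩ | ⟨-, m, hm, -, hmz⟩
  · rw [WRGen.U6, h] at h6; omega
  have himg := hh.uG_involution ((mem_normalizer_iff.1 hm _).1 (hh.wu_mem_uG (wh n) (wh n)))
    ((Cfsg.Agent.Invol.orderOf_conj m _).trans hh.z0_order)
  have key : IsConj (wu x y n (wh n) (wh n)) (wu x y n (wh n) 0) := by
    rcases himg with e | e | e
    · exact absurd e hmz
    · exact isConj_iff.2 ⟨m, e⟩
    · exact (isConj_iff.2 ⟨m, e⟩).trans (hh.isConj_swap _ _)
  rcases hh.uG_involution hv hvo with rfl | rfl | rfl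
  exacts [IsConj.refl _, key, key.trans (hh.isConj_swap _ _)]

theorem U2_or_U6 : hh.U2 ∨ hh.U6 := hh.U_auto.imp And.left And.left

/-- An outer involution fused into `U` forces an automiser of order six of `V`. -/
theorem V6_of_fuses {v : G} (hv : v ∈ hh.uG) (hc : IsConj (wo x y z n 0 0) v) : hh.V6 := by
  have hvo : orderOf v = 2 := by
    obtain ⟨g, hg⟩ := isConj_iff.1 hc
    rw [← hg]
    exact (Cfsg.Agent.Invol.orderOf_conj g _).trans hh.o_order
  set o := wo x y z n 0 0 with ho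
  set W := zpowers (wu x y n 1 1) ⊔ zpowers o with hW
  have hWS : W ≤ (S : Subgroup G) := sup_le (zpowers_le.2 (wu_mem _ _)) (zpowers_le.2 (wo_mem _ _))
  have hWc : ∀ w ∈ W, w * o = o * w := fun w hw =>
    mem_centralizer_singleton_iff.1 ((sup_le
      (zpowers_le.2 (mem_centralizer_singleton_iff.2 (hh.scalar_comm (wo_mem 0 0) 1).symm))
      (zpowers_le.2 (mem_centralizer_singleton_iff.2 rfl)) : W ≤ centralizer ({o} : Set G)) hw)
  have himg : ∀ g, W.map (MulAut.conj g).toMonoidHom ≤ centralizer ({g * o * g⁻¹} : Set G) := by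
    intro g
    rintro _ ⟨w, hw, rfl⟩
    rw [mem_centralizer_singleton_iff, ← MulAut.conj_apply]
    show MulAut.conj g w * MulAut.conj g o = MulAut.conj g o * MulAut.conj g w
    rw [← map_mul, ← map_mul, hWc w hw]
  -- fusion to the central involution suffices
  suffices hz : IsConj o (wu x y n (wh n) (wh n)) → hh.V6 by
    rcases hh.U2_or_U6 with h2 | h6
    · by_cases hv0 : v = wu x y n (wh n) (wh n)
      · exact hz (hv0 ▸ hc)
      obtain ⟨g, hg⟩ := isConj_iff.1 hc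
      have hiso := hh.isolated_of_U2 h2
      set C := centralizer ({v} : Set G) with hC
      have hUC : hh.uG ≤ C := fun a ha => mem_centralizer_singleton_iff.2 (hh.uG_comm ha hv)
      have hWC : W.map (MulAut.conj g).toMonoidHom ≤ C := by rw [hC, ← hg]; exact himg g
      obtain ⟨R, hR⟩ := (hh.uG_pGroup.comap_subtype (K := C)).exists_le_sylow
      obtain ⟨R', hR'⟩ := (((S.2.to_le hWS).map (MulAut.conj g).toMonoidHom).comap_subtype (K := C)).exists_le_sylow
      obtain ⟨c, hc'⟩ := MulAction.exists_smul_eq C R' R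
      obtain ⟨d, hd⟩ := sylow_conj_le S (R.2.map C.subtype)
      have e1 : hh.uG.map (MulAut.conj d).toMonoidHom = hh.uG := hh.map_uG_eq (by
        rintro _ ⟨a, ha, rfl⟩
        exact hd ⟨a, ⟨⟨a, hUC ha⟩, hR (mem_subgroupOf.2 ha), rfl⟩, rfl⟩)
      obtain ⟨i, j, hij⟩ := hh.mem_uG.1 ((mem_normalizer_iff.1 (mem_normalizer_of_map_eq' e1) v).1 hv)
      have hne : i ≠ j := by
        intro e
        subst e
        rcases hh.uG_involution (hh.wu_mem_uG i i) (hij ▸ (Cfsg.Agent.Invol.orderOf_conj d v).trans hvo)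
          with e' | e' | e'
        · apply hv0
          rw [e'] at hij
          have h := hiso.2 d⁻¹ (by
            show _ * _ = _ * _
            rw [← hij, show d⁻¹ * (d * v * d⁻¹) * d⁻¹⁻¹ = v by group, hij]
            exact hh.uG_comm (hh.wu_mem_uG _ _) hv)
          rw [← hij, show d⁻¹ * (d * v * d⁻¹) * d⁻¹⁻¹ = v by group] at h
          exact h.trans hij
        · exact hh.h_ne ((hh.u_inj e').1.symm.trans (hh.u_inj e').2)
        · exact hh.h_ne ((hh.u_inj e').2.symm.trans (hh.u_inj e').1)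
      have hRU : ∀ r : C, r ∈ (R : Subgroup C) → d * (r : G) * d⁻¹ ∈ hh.uG := by
        intro r hr
        have hS : d * (r : G) * d⁻¹ ∈ (S : Subgroup G) := hd ⟨r, ⟨r, hr, rfl⟩, rfl⟩
        have hcm : d * (r : G) * d⁻¹ * wu x y n i j = wu x y n i j * (d * (r : G) * d⁻¹) := by
          rw [← hij, ← MulAut.conj_apply, ← MulAut.conj_apply, ← map_mul, ← map_mul,
            mem_centralizer_singleton_iff.1 r.2]
        rcases hh.casesG hS with ⟨a, b, e⟩ | ⟨a, b, e⟩
        · rw [e]; exact hh.wu_mem_uG _ _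
        · rw [e, hh.o_mul_u, hh.u_mul_o] at hcm
          exact absurd (by linear_combination -(hh.o_inj hcm).1) hne
      have hk : ∀ w ∈ W, d * (c : G) * g * w * (d * (c : G) * g)⁻¹ ∈ hh.uG := by
        intro w hw
        have h := hRU (c * ⟨_, hWC ⟨w, hw, rfl⟩⟩ * c⁻¹) (by
          rw [← hc', Sylow.coe_subgroup_smul]
          exact ⟨⟨_, hWC ⟨w, hw, rfl⟩⟩, hR' (mem_subgroupOf.2 ⟨w, hw, rfl⟩), rfl⟩)
        convert h using 1
        simp [mul_assoc]
      exact hh.V6_of_conj_into_U (hk _ (mem_sup_left (mem_zpowers _))) (hk _ (mem_sup_right (mem_zpowers _)))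
    · exact hz (hc.trans (hh.isConj_z0_of_U6 h6 hv hvo).symm)
  intro hcz
  obtain ⟨g, hg⟩ := isConj_iff.1 hcz
  obtain ⟨c, hc0, hcS⟩ := sylow_conj_into_centralizer S (fun s hs => hh.scalar_comm hs (wh n))
    ((S.2.to_le hWS).map (MulAut.conj g).toMonoidHom) (hg ▸ himg g)
  rw [map_conj_conj] at hcS
  have hko : c * g * o * (c * g)⁻¹ = wu x y n (wh n) (wh n) := by
    calc c * g * o * (c * g)⁻¹ = c * (g * o * g⁻¹) * c⁻¹ := by group
      _ = wu x y n (wh n) (wh n) := by rw [hg, hc0]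
  refine hh.V6_of_conj_into_U (k := c * g) ?_ (hko ▸ hh.wu_mem_uG _ _)
  have h11 : c * g * wu x y n 1 1 * (c * g)⁻¹ ∈ (S : Subgroup G) :=
    hcS ⟨_, mem_sup_left (mem_zpowers _), rfl⟩
  rcases hh.casesG h11 with ⟨a, b, e⟩ | ⟨a, b, e⟩
  · rw [e]; exact hh.wu_mem_uG _ _
  exfalso
  have hn2 := hh.two_le
  have hzp : (wu x y n 1 1) ^ 2 ^ (n - 1) = wu x y n (wh n) (wh n) := by
    rw [hh.u_pow, wh]; push_cast; rw [mul_one]
  have hzimg : c * g * wu x y n (wh n) (wh n) * (c * g)⁻¹ =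
      wu x y n (2 ^ (n - 2) * (a + b)) (2 ^ (n - 2) * (a + b)) := by
    rw [← hzp, ← conj_pow, e, show 2 ^ (n - 1) = 2 * 2 ^ (n - 2) by rw [← pow_succ']; congr 1; omega,
      pow_mul, pow_two, hh.o_sq, hh.u_pow]
    push_cast; rfl
  have ho2 := (Cfsg.Agent.Invol.orderOf_conj (c * g) _).trans hh.z0_order
  rw [hzimg] at ho2
  rcases hh.uG_involution (hh.wu_mem_uG _ _) ho2 with h | h | h
  · exact hh.u_ne_o _ _ _ _ (mul_left_cancel (mul_right_cancel (hzimg.trans (h.trans hko.symm))))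
  · exact hh.h_ne ((hh.u_inj h).1.symm.trans (hh.u_inj h).2)
  · exact hh.h_ne ((hh.u_inj h).2.symm.trans (hh.u_inj h).1)

end WRGen

end Cfsg.Agent.Invol
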