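import Cfsg.Agent.Invol.WR
import Cfsg.Agent.Invol.Automiser
import Cfsg.Agent.Invol.DihedralSylow
import Cfsg.Agent.Coprime.Basic
import Cfsg.Agent.S1239
import Cfsg.Agent.S1196

/-!
Fusion in a finite group with a wreathed Sylow 2-subgroup: the abelian maximal subgroup, the
centre, and isolation of the central involution.
-/

set_option autoImplicit false

namespace Cfsg.Agent.Invol

open Subgroup

universe u

variable {G : Type u} [Group G]

/-- Elements of the abelian maximal subgroup, in the group. -/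
def wu {S : Sylow 2 G} (x y : (S : Subgroup G)) (n : ℕ) (i j : ZMod (2 ^ n)) : G :=
  ((ww x y n i j : (S : Subgroup G)) : G)

/-- Elements outside the abelian maximal subgroup, in the group. -/
def wo {S : Sylow 2 G} (x y z : (S : Subgroup G)) (n : ℕ) (i j : ZMod (2 ^ n)) : G :=
  ((ww x y n i j * z : (S : Subgroup G)) : G)

theorem sylow_conj_into_centralizer [Finite G] (S : Sylow 2 G) {a : G}
    (ha : ∀ s ∈ (S : Subgroup G), s * a = a * s) {W : Subgroup G} (hW : IsPGroup 2 W)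
    (hle : W ≤ centralizer ({a} : Set G)) :
    ∃ c, c * a * c⁻¹ = a ∧ W.map (MulAut.conj c).toMonoidHom ≤ (S : Subgroup G) := by
  have hSC : (S : Subgroup G) ≤ centralizer ({a} : Set G) :=
    fun s hs => mem_centralizer_singleton_iff.2 (ha s hs)
  obtain ⟨R, hR⟩ := (hW.comap_subtype (K := centralizer ({a} : Set G))).exists_le_sylow
  obtain ⟨c, hc⟩ := MulAction.exists_smul_eq (centralizer ({a} : Set G)) R (S.subtype hSC)
  refine ⟨c, mul_inv_eq_iff_eq_mul.2 (mem_centralizer_singleton_iff.1 c.2), ?_⟩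
  rintro _ ⟨w, hw, rfl⟩
  have h1 : c * ⟨w, hle hw⟩ * c⁻¹ ∈ ((S.subtype hSC : Sylow 2 _) : Subgroup (centralizer ({a} : Set G))) := by
    rw [← hc, Sylow.coe_subgroup_smul]
    exact ⟨⟨w, hle hw⟩, hR (mem_subgroupOf.2 hw), rfl⟩
  exact h1

theorem sylow_conj_le [Finite G] (S : Sylow 2 G) {W : Subgroup G} (hW : IsPGroup 2 W) :
    ∃ c : G, W.map (MulAut.conj c).toMonoidHom ≤ (S : Subgroup G) := by
  obtain ⟨R, hR⟩ := hW.exists_le_sylow
  obtain ⟨c, hc⟩ := MulAction.exists_smul_eq G R S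
  refine ⟨c, ?_⟩
  rw [← hc, Sylow.coe_subgroup_smul]
  exact Subgroup.map_mono hR

theorem map_conj_conj (U : Subgroup G) (g h : G) :
    (U.map (MulAut.conj g).toMonoidHom).map (MulAut.conj h).toMonoidHom =
      U.map (MulAut.conj (h * g)).toMonoidHom := by
  rw [Subgroup.map_map]; congr 1; ext x; simp [mul_assoc]

theorem mem_normalizer_of_forall [Finite G] {U : Subgroup G} {n : G}
    (h : ∀ x ∈ U, n * x * n⁻¹ ∈ U) : n ∈ normalizer (U : Set G) := by
  refine mem_normalizer_of_map_eq' (eq_of_le_of_card_ge ?_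
    (Nat.card_congr (equivMapOfInjective U (MulAut.conj n).toMonoidHom (MulAut.conj n).injective).toEquiv).le)
  rintro _ ⟨x, hx, rfl⟩
  exact h x hx

variable {S : Sylow 2 G} {x y z : (S : Subgroup G)} {n : ℕ}

/-- The abelian maximal subgroup, in the group. -/
noncomputable def WRGen.uG (hh : WRGen x y z n) : Subgroup G :=
  hh.toU.range.map (S : Subgroup G).subtype

namespace WRGen

variable (hh : WRGen x y z n)
include hh

theorem isWreathed : Cfsg.IsWreathed (S : Subgroup G) :=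
  ⟨n, hh.two_le, hh.card, x, y, z, hh.ordx, hh.comm, hh.disj, hh.ordz, hh.rel⟩

omit hh in
theorem wu_mem (i j : ZMod (2 ^ n)) : wu x y n i j ∈ (S : Subgroup G) :=
  (ww x y n i j : (S : Subgroup G)).2

omit hh in
theorem wo_mem (i j : ZMod (2 ^ n)) : wo x y z n i j ∈ (S : Subgroup G) :=
  (ww x y n i j * z : (S : Subgroup G)).2

theorem casesG {g : G} (hg : g ∈ (S : Subgroup G)) :
    (∃ i j, g = wu x y n i j) ∨ ∃ i j, g = wo x y z n i j := by
  rcases hh.cases ⟨g, hg⟩ with ⟨i, j, h⟩ | ⟨i, j, h⟩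
  · exact Or.inl ⟨i, j, congrArg Subtype.val h⟩
  · exact Or.inr ⟨i, j, congrArg Subtype.val h⟩

theorem u_inj {i j k l : ZMod (2 ^ n)} (h : wu x y n i j = wu x y n k l) : i = k ∧ j = l :=
  hh.w_inj (Subtype.ext h)

theorem o_inj {i j k l : ZMod (2 ^ n)} (h : wo x y z n i j = wo x y z n k l) : i = k ∧ j = l :=
  hh.wz_inj (Subtype.ext h)

theorem u_ne_o (i j k l : ZMod (2 ^ n)) : wu x y n i j ≠ wo x y z n k l :=
  fun h => hh.w_ne i j k l (Subtype.ext h)

omit hh in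
theorem u_zero : wu x y n 0 0 = (1 : G) := congrArg Subtype.val WRGen.w_zero

theorem u_eq_one {i j : ZMod (2 ^ n)} : wu x y n i j = 1 ↔ i = 0 ∧ j = 0 :=
  ⟨fun h => hh.w_eq_one.1 (Subtype.ext h), fun ⟨a, b⟩ => by rw [a, b, u_zero]⟩

theorem u_mul_u (i j k l : ZMod (2 ^ n)) : wu x y n i j * wu x y n k l = wu x y n (i + k) (j + l) :=
  congrArg Subtype.val (hh.w_mul i j k l)

theorem u_mul_o (i j k l : ZMod (2 ^ n)) : wu x y n i j * wo x y z n k l = wo x y z n (i + k) (j + l) :=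
  congrArg Subtype.val (hh.w_mul_wz i j k l)

theorem o_mul_u (i j k l : ZMod (2 ^ n)) : wo x y z n i j * wu x y n k l = wo x y z n (i + l) (j + k) :=
  congrArg Subtype.val (hh.wz_mul_w i j k l)

theorem o_mul_o (i j k l : ZMod (2 ^ n)) : wo x y z n i j * wo x y z n k l = wu x y n (i + l) (j + k) :=
  congrArg Subtype.val (hh.wz_mul_wz i j k l)

theorem u_inv (i j : ZMod (2 ^ n)) : (wu x y n i j)⁻¹ = wu x y n (-i) (-j) :=
  congrArg Subtype.val (hh.w_inv i j)

theorem o_inv (i j : ZMod (2 ^ n)) : (wo x y z n i j)⁻¹ = wo x y z n (-j) (-i) :=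
  inv_eq_of_mul_eq_one_right (by rw [hh.o_mul_o, add_neg_cancel, add_neg_cancel, u_zero])

theorem o_conj_u (a b i j : ZMod (2 ^ n)) :
    wo x y z n a b * wu x y n i j * (wo x y z n a b)⁻¹ = wu x y n j i := by
  rw [hh.o_mul_u, hh.o_inv, hh.o_mul_o]; congr 1 <;> ring

theorem u_conj_u (a b i j : ZMod (2 ^ n)) :
    wu x y n a b * wu x y n i j * (wu x y n a b)⁻¹ = wu x y n i j := by
  rw [hh.u_mul_u, hh.u_inv, hh.u_mul_u]; congr 1 <;> ring

theorem u_conj_o (a b i j : ZMod (2 ^ n)) :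
    wu x y n a b * wo x y z n i j * (wu x y n a b)⁻¹ = wo x y z n (i + a - b) (j + b - a) := by
  rw [hh.u_mul_o, hh.u_inv, hh.o_mul_u]; congr 1 <;> ring

theorem u_pow (k : ℕ) (i j : ZMod (2 ^ n)) : wu x y n i j ^ k = wu x y n (k * i) (k * j) :=
  (SubmonoidClass.coe_pow _ k).symm.trans (congrArg Subtype.val (hh.natCast_mul_w k i j))

theorem o_sq (i j : ZMod (2 ^ n)) :
    wo x y z n i j * wo x y z n i j = wu x y n (i + j) (i + j) := by
  rw [hh.o_mul_o, add_comm j i]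

theorem scalar_comm {g : G} (hg : g ∈ (S : Subgroup G)) (a : ZMod (2 ^ n)) :
    g * wu x y n a a = wu x y n a a * g :=
  congrArg Subtype.val (hh.center_commute a ⟨g, hg⟩)

theorem mem_uG {g : G} : g ∈ hh.uG ↔ ∃ i j, g = wu x y n i j := by
  constructor
  · rintro ⟨s, hs, rfl⟩
    obtain ⟨i, j, rfl⟩ := hh.mem_range_toU.1 hs
    exact ⟨i, j, rfl⟩
  · rintro ⟨i, j, rfl⟩
    exact ⟨_, hh.mem_range_toU.2 ⟨i, j, rfl⟩, rfl⟩

theorem wu_mem_uG (i j : ZMod (2 ^ n)) : wu x y n i j ∈ hh.uG := hh.mem_uG.2 ⟨i, j, rfl⟩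

theorem uG_le : hh.uG ≤ (S : Subgroup G) := map_subtype_le _

theorem uG_card : Nat.card hh.uG = 2 ^ (2 * n) :=
  (card_map_of_injective (S : Subgroup G).subtype_injective).trans hh.card_range_toU

theorem uG_comm {a b : G} (ha : a ∈ hh.uG) (hb : b ∈ hh.uG) : a * b = b * a := by
  obtain ⟨i, j, rfl⟩ := hh.mem_uG.1 ha
  obtain ⟨k, l, rfl⟩ := hh.mem_uG.1 hb
  rw [hh.u_mul_u, hh.u_mul_u, add_comm i, add_comm j]

theorem uG_pGroup : IsPGroup 2 hh.uG := IsPGroup.of_card hh.uG_card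

theorem uG_cent : hh.uG ≤ centralizer (hh.uG : Set G) :=
  fun a ha => mem_centralizer_iff.2 fun _ hb => hh.uG_comm hb ha

theorem four_le : 2 * 2 ≤ 2 ^ n := by
  calc 2 * 2 = 2 ^ 2 := rfl
    _ ≤ 2 ^ n := Nat.pow_le_pow_right two_pos hh.two_le

theorem h_two : (wh n : ZMod (2 ^ n)) = 2 * 2 ^ (n - 2) := by
  have := hh.two_le
  rw [wh, ← pow_succ', show n - 2 + 1 = n - 1 by omega]

theorem pow_half_even (c : ZMod (2 ^ n)) : (2 : ZMod (2 ^ n)) ^ (n - 1) * (2 * c) = 0 := by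
  have := hh.two_h
  rw [wh] at this
  linear_combination c * this

theorem pow_half_odd (c : ZMod (2 ^ n)) : (2 : ZMod (2 ^ n)) ^ (n - 1) * (2 * c + 1) = wh n := by
  have := hh.two_h
  rw [wh] at this ⊢
  linear_combination c * this

theorem z0_order : orderOf (wu x y n (wh n) (wh n)) = 2 :=
  (Subgroup.orderOf_coe _).trans (hh.order_two.2 (Or.inl rfl))

theorem involution_cases {g : G} (hg : g ∈ (S : Subgroup G)) (h : orderOf g = 2) :
    g = wu x y n (wh n) (wh n) ∨ g = wu x y n (wh n) 0 ∨ g = wu x y n 0 (wh n) ∨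
      ∃ i, g = wo x y z n i (-i) := by
  have h' : orderOf (⟨g, hg⟩ : (S : Subgroup G)) = 2 := by rwa [Subgroup.orderOf_mk]
  rcases hh.order_two.1 h' with e | e | e | ⟨i, e⟩
  · exact Or.inl (congrArg Subtype.val e)
  · exact Or.inr (Or.inl (congrArg Subtype.val e))
  · exact Or.inr (Or.inr (Or.inl (congrArg Subtype.val e)))
  · exact Or.inr (Or.inr (Or.inr ⟨i, congrArg Subtype.val e⟩))

variable [Finite G]

theorem uG_unique {U : Subgroup G} (hUS : U ≤ (S : Subgroup G))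
    (hc : ∀ a ∈ U, ∀ b ∈ U, a * b = b * a) (hcard : Nat.card U = 2 ^ (2 * n)) : U = hh.uG := by
  obtain ⟨U1, -, huniq⟩ := (Cfsg.Agent.S1196.result hh.isWreathed n hh.card).1
  have h1 := huniq (U.subgroupOf (S : Subgroup G))
    ⟨⟨⟨fun a b => Subtype.ext (Subtype.ext (hc _ a.2 _ b.2))⟩⟩,
      (Nat.card_congr (subgroupOfEquivOfLe hUS).toEquiv).trans hcard⟩
  have h2 := huniq hh.toU.range ⟨hh.range_toU_comm, hh.card_range_toU⟩
  rw [← map_subgroupOf_eq_of_le hUS, h1, ← h2]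
  rfl

theorem map_uG_eq {c : G} (h : hh.uG.map (MulAut.conj c).toMonoidHom ≤ (S : Subgroup G)) :
    hh.uG.map (MulAut.conj c).toMonoidHom = hh.uG := by
  refine hh.uG_unique h ?_ ?_
  · rintro _ ⟨a, ha, rfl⟩ _ ⟨b, hb, rfl⟩
    rw [← map_mul, ← map_mul, hh.uG_comm ha hb]
  · rw [card_map_of_injective (MulAut.conj c).injective, hh.uG_card]

/-- Fusion inside the abelian maximal subgroup is controlled by its normalizer. -/
theorem fuse_U {t s g : G} (ht : t ∈ hh.uG) (hs : s ∈ hh.uG) (hg : g * t * g⁻¹ = s) :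
    ∃ m ∈ normalizer (hh.uG : Set G), m * t * m⁻¹ = s := by
  set C := centralizer ({s} : Set G)
  have h1 : hh.uG ≤ C := fun a ha => mem_centralizer_singleton_iff.2 (hh.uG_comm ha hs)
  have h2 : hh.uG.map (MulAut.conj g).toMonoidHom ≤ C := by
    rintro _ ⟨a, ha, rfl⟩
    rw [mem_centralizer_singleton_iff, ← hg, ← MulAut.conj_apply]
    show MulAut.conj g a * MulAut.conj g t = MulAut.conj g t * MulAut.conj g a
    rw [← map_mul, ← map_mul, hh.uG_comm ha ht]
  obtain ⟨R, hR⟩ := (hh.uG_pGroup.comap_subtype (K := C)).exists_le_sylow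
  obtain ⟨R', hR'⟩ := ((hh.uG_pGroup.map (MulAut.conj g).toMonoidHom).comap_subtype (K := C)).exists_le_sylow
  obtain ⟨c, hc⟩ := MulAction.exists_smul_eq C R' R
  obtain ⟨d, hd⟩ := sylow_conj_le S (R.2.map C.subtype)
  have e1 : hh.uG.map (MulAut.conj d).toMonoidHom = hh.uG := hh.map_uG_eq (by
    rintro _ ⟨a, ha, rfl⟩
    exact hd ⟨a, ⟨⟨a, h1 ha⟩, hR (mem_subgroupOf.2 ha), rfl⟩, rfl⟩)
  have e2 : hh.uG.map (MulAut.conj (d * ((c : G) * g))).toMonoidHom = hh.uG := hh.map_uG_eq (by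
    rw [← map_conj_conj, ← map_conj_conj]
    rintro _ ⟨_, ⟨_, ⟨a, ha, rfl⟩, rfl⟩, rfl⟩
    refine hd ⟨_, ⟨c * ⟨MulAut.conj g a, h2 ⟨a, ha, rfl⟩⟩ * c⁻¹, ?_, rfl⟩, rfl⟩
    rw [← hc, Sylow.coe_subgroup_smul]
    exact ⟨⟨MulAut.conj g a, h2 ⟨a, ha, rfl⟩⟩, hR' (mem_subgroupOf.2 ⟨a, ha, rfl⟩), rfl⟩)
  refine ⟨(c : G) * g, ?_, ?_⟩
  · have hd' := mem_normalizer_of_map_eq' e1
    have := (normalizer (hh.uG : Set G)).mul_mem (inv_mem hd') (mem_normalizer_of_map_eq' e2)
    rwa [inv_mul_cancel_left] at this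
  · calc (c : G) * g * t * ((c : G) * g)⁻¹ = c * (g * t * g⁻¹) * (c : G)⁻¹ := by group
      _ = s := by rw [hg]; exact mul_inv_eq_iff_eq_mul.2 (mem_centralizer_singleton_iff.1 c.2)

theorem z_mem_normalizer_uG : wo x y z n 0 0 ∈ normalizer (hh.uG : Set G) :=
  mem_normalizer_of_forall fun a ha => by
    obtain ⟨i, j, rfl⟩ := hh.mem_uG.1 ha
    rw [hh.o_conj_u]
    exact hh.wu_mem_uG _ _

theorem sup_centralizer_uG : hh.uG ⊔ centralizer (hh.uG : Set G) = centralizer (hh.uG : Set G) :=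
  sup_eq_right.2 hh.uG_cent

theorem U_auto :
    ((centralizer (hh.uG : Set G)).relIndex (normalizer (hh.uG : Set G)) = 2 ∧
      ∀ m ∈ normalizer (hh.uG : Set G), m * wu x y n (wh n) (wh n) * m⁻¹ = wu x y n (wh n) (wh n)) ∨
    ((centralizer (hh.uG : Set G)).relIndex (normalizer (hh.uG : Set G)) = 6 ∧
      ∃ m ∈ normalizer (hh.uG : Set G), ¬ 2 ∣ orderOf m ∧
        m * wu x y n (wh n) (wh n) * m⁻¹ ≠ wu x y n (wh n) (wh n)) := by
  classical
  set z0 := wu x y n (wh n) (wh n) with hz0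
  have hz0o := hh.z0_order
  have hfix : ∀ m, m ∈ normalizer ((zpowers z0 : Subgroup G) : Set G) ↔ m * z0 * m⁻¹ = z0 := by
    intro m
    constructor
    · intro hm
      have h1 := (mem_normalizer_iff.1 hm z0).1 (mem_zpowers z0)
      rcases (mem_zpowers_iff_mem_range_orderOf (x := z0)).1 h1 |> Finset.mem_image.1 with ⟨k, hk, e⟩
      rw [hz0o, Finset.mem_range] at hk
      have : k = 0 ∨ k = 1 := by omega
      rcases this with rfl | rfl
      · rw [pow_zero, eq_comm, conj_eq_one_iff] at e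
        exact absurd (hz0o.symm.trans (orderOf_eq_one_iff.2 e)) (by norm_num)
      · rw [pow_one] at e; exact e.symm
    · intro hm
      refine mem_normalizer_of_map_eq' ?_
      rw [MonoidHom.map_zpowers]
      exact congrArg zpowers hm
  have hle : zpowers z0 ≤ hh.uG := zpowers_le.2 (hh.wu_mem_uG _ _)
  have hp2 : ∀ a : G, orderOf a = 2 → IsPGroup 2 (zpowers a) := fun a ha =>
    IsPGroup.of_card (n := 1) (by rw [Nat.card_zpowers, ha, pow_one])
  have inv_U : ∀ v ∈ hh.uG, orderOf v = 2 →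
      v = z0 ∨ v = wu x y n (wh n) 0 ∨ v = wu x y n 0 (wh n) := by
    intro v hv hv2
    rcases hh.involution_cases (hh.uG_le hv) hv2 with e | e | e | ⟨i, e⟩
    · exact Or.inl e
    · exact Or.inr (Or.inl e)
    · exact Or.inr (Or.inr e)
    · obtain ⟨a, b, rfl⟩ := hh.mem_uG.1 hv
      exact absurd e (hh.u_ne_o _ _ _ _)
  have hmul : z0 * wu x y n (wh n) 0 = wu x y n 0 (wh n) := by
    rw [hz0, hh.u_mul_u, ← two_mul, hh.two_h, add_zero]
  have hodd : ∀ m ∈ normalizer (hh.uG : Set G), m ∈ normalizer ((zpowers z0 : Subgroup G) : Set G) →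
      ¬ 2 ∣ orderOf m → m ∈ centralizer (hh.uG : Set G) := by
    intro m hm hm0 hmo
    have hz : m * z0 = z0 * m := mul_inv_eq_iff_eq_mul.1 ((hfix m).1 hm0)
    have hfz : ∀ c ∈ zpowers z0, m * c = c * m := fun c hc => by
      obtain ⟨i, rfl⟩ := mem_zpowers_iff.1 hc
      exact Commute.zpow_right hz i
    have hu : m * wu x y n (wh n) 0 = wu x y n (wh n) 0 * m := by
      have hu2 : orderOf (wu x y n (wh n) 0) = 2 :=
        (Subgroup.orderOf_coe _).trans (hh.order_two.2 (Or.inr (Or.inl rfl)))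
      have him := inv_U _ ((mem_normalizer_iff.1 hm _).1 (hh.wu_mem_uG _ _))
        ((Cfsg.Agent.Invol.orderOf_conj m _).trans hu2)
      refine odd_fix_of_series hmo (hp2 z0 hz0o) hfz ?_
      rcases him with e | e | e
      · exfalso
        have h1 : wu x y n (wh n) 0 = z0 :=
          mul_left_cancel (mul_right_cancel (e.trans (by rw [hz, mul_inv_cancel_right])))
        exact hh.h_ne (hh.u_inj h1).2.symm
      · rw [e, inv_mul_cancel]; exact one_mem _
      · rw [e, ← hmul, hh.uG_comm (hh.wu_mem_uG _ _) (hh.wu_mem_uG _ _), inv_mul_cancel_left]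
        exact mem_zpowers z0
    have : IsMulCommutative hh.uG := ⟨⟨fun a b => Subtype.ext (hh.uG_comm a.2 b.2)⟩⟩
    refine Coprime.le_centralizer_of_fixes_prime_order (zpowers_le.2 hm) ?_ (fun v hv hvp c hc => ?_)
      (mem_zpowers m)
    · rw [Nat.card_zpowers, hh.uG_card]
      exact (((Nat.Prime.coprime_iff_not_dvd Nat.prime_two).2 hmo).symm).pow_right _
    have hv2 : orderOf v = 2 := by
      have hd : orderOf v ∣ 2 ^ (2 * n) := hh.uG_card ▸ Subgroup.orderOf_dvd_natCard hh.uG hv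
      exact (Nat.prime_dvd_prime_iff_eq hvp Nat.prime_two).1 (hvp.dvd_of_dvd_pow hd)
    obtain ⟨i, rfl⟩ := mem_zpowers_iff.1 hc
    refine Commute.zpow_left ?_ i
    rcases inv_U v hv hv2 with rfl | rfl | rfl
    · exact hz
    · exact hu
    · rw [← hmul]
      exact Commute.mul_right hz hu
  have hsN : wo x y z n 0 0 ∈ normalizer ((zpowers z0 : Subgroup G) : Set G) :=
    (hfix _).2 (by rw [hz0, hh.o_conj_u])
  have hsC : wo x y z n 0 0 ∉ hh.uG ⊔ centralizer (hh.uG : Set G) := by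
    rw [hh.sup_centralizer_uG]
    intro hc
    have h1 := mem_centralizer_iff.1 hc _ (hh.wu_mem_uG 1 0)
    rw [hh.u_mul_o, hh.o_mul_u] at h1
    have h10 : (1 : ZMod (2 ^ n)) = 0 := by linear_combination (hh.o_inj h1).1
    exact hh.h_ne (by rw [← mul_one (wh n), h10, mul_zero])
  have hR : ∀ R : Subgroup G, IsPGroup 2 R → hh.uG ≤ R → R ≤ normalizer (hh.uG : Set G) →
      Nat.card R ≤ 2 * Nat.card hh.uG := by
    intro R hR _ _
    obtain ⟨c, hc⟩ := sylow_conj_le S hR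
    have := card_le_of_le hc
    rw [card_map_of_injective (MulAut.conj c).injective, hh.card, pow_succ, mul_comm] at this
    rwa [hh.uG_card]
  classical
  have horb : ∃ T : Finset (Subgroup G), T.card ≤ 3 ∧ ∀ m ∈ normalizer (hh.uG : Set G),
      (zpowers z0).map (MulAut.conj m).toMonoidHom ∈ T := by
    refine ⟨{zpowers z0, zpowers (wu x y n (wh n) 0), zpowers (wu x y n 0 (wh n))}, Finset.card_le_three,
      fun m hm => ?_⟩
    rw [MonoidHom.map_zpowers]
    rcases inv_U _ ((mem_normalizer_iff.1 hm _).1 (hh.wu_mem_uG _ _))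
      ((Cfsg.Agent.Invol.orderOf_conj m _).trans hz0o) with e | e | e <;>
      (rw [show (MulAut.conj m).toMonoidHom z0 = m * z0 * m⁻¹ from rfl, e]; simp)
  rcases automiser_cases hh.uG (zpowers z0) hh.uG_pGroup hle
      (fun a ha => (hfix a).2 (by rw [hh.uG_comm ha (hh.wu_mem_uG _ _), mul_inv_cancel_right]))
      hodd ⟨_, hh.z_mem_normalizer_uG, hsN, hsC⟩ hR horb with ⟨h1, h2⟩ | ⟨h1, m, hm, hmo, hm1⟩
  · exact Or.inl ⟨by rwa [hh.sup_centralizer_uG] at h1, fun m hm => (hfix m).1 (h2 hm)⟩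
  · exact Or.inr ⟨by rwa [hh.sup_centralizer_uG] at h1, m, hm, hmo, fun e => hm1 ((hfix m).2 e)⟩

/-- When the automiser of `U` has order two its normalizer acts as the identity or the swap. -/
theorem U_two_act (h2 : (centralizer (hh.uG : Set G)).relIndex (normalizer (hh.uG : Set G)) = 2)
    {m : G} (hm : m ∈ normalizer (hh.uG : Set G)) :
    (∀ i j, m * wu x y n i j * m⁻¹ = wu x y n i j) ∨ ∀ i j, m * wu x y n i j * m⁻¹ = wu x y n j i := by
  by_cases hc : m ∈ centralizer (hh.uG : Set G)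
  · refine Or.inl fun i j => ?_
    rw [← mem_centralizer_iff.1 hc _ (hh.wu_mem_uG i j), mul_inv_cancel_right]
  · refine Or.inr fun i j => ?_
    have hz : wo x y z n 0 0 ∉ centralizer (hh.uG : Set G) := fun h => by
      have h1 := mem_centralizer_iff.1 h _ (hh.wu_mem_uG 1 0)
      rw [hh.u_mul_o, hh.o_mul_u] at h1
      have h10 : (1 : ZMod (2 ^ n)) = 0 := by linear_combination (hh.o_inj h1).1
      exact hh.h_ne (by rw [← mul_one (wh n), h10, mul_zero])
    have hmz := (mul_mem_iff_of_index_two (a := ⟨m, hm⟩) (b := ⟨_, hh.z_mem_normalizer_uG⟩) h2).2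
      (iff_of_false hc hz)
    have h1 := mem_centralizer_iff.1 (mem_subgroupOf.1 hmz) _ (hh.wu_mem_uG j i)
    simp only [Subgroup.coe_mul] at h1
    calc m * wu x y n i j * m⁻¹ = m * (wo x y z n 0 0 * wu x y n j i * (wo x y z n 0 0)⁻¹) * m⁻¹ := by
          rw [hh.o_conj_u]
      _ = (m * wo x y z n 0 0 * wu x y n j i) * (m * wo x y z n 0 0)⁻¹ := by group
      _ = wu x y n j i := by rw [← h1, mul_inv_cancel_right]

/-- An odd order element normalizing `U` and moving the central involution leaves no proper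
invariant subgroup of index two. -/
theorem U_le_of_invariant {W : Subgroup G}
    (h2 : ∀ a ∈ hh.uG, ∀ b ∈ hh.uG, a ∉ W → b ∉ W → a * b ∈ W) {m : G}
    (hm : m ∈ normalizer (hh.uG : Set G)) (hmo : ¬ 2 ∣ orderOf m)
    (hmz : m * wu x y n (wh n) (wh n) * m⁻¹ ≠ wu x y n (wh n) (wh n))
    (hinv : ∀ a ∈ hh.uG, a ∈ W → m * a * m⁻¹ ∈ W) : hh.uG ≤ W := by
  have hsq : ∀ p q, wu x y n (2 * p) (2 * q) ∈ W := by
    intro p q
    rw [two_mul, two_mul, ← hh.u_mul_u]
    by_cases hw : wu x y n p q ∈ W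
    · exact W.mul_mem hw hw
    · exact h2 _ (hh.wu_mem_uG _ _) _ (hh.wu_mem_uG _ _) hw hw
  have hclass : ∀ (e f : ZMod (2 ^ n)) (p q : ZMod (2 ^ n)),
      wu x y n (2 * p + e) (2 * q + f) ∈ W ↔ wu x y n e f ∈ W := by
    intro e f p q
    rw [← hh.u_mul_u]
    exact W.mul_mem_cancel_left (hsq p q)
  suffices h : wu x y n 1 0 ∈ W ∧ wu x y n 0 1 ∈ W by
    intro a ha
    obtain ⟨i, j, rfl⟩ := hh.mem_uG.1 ha
    have := W.mul_mem (W.pow_mem h.1 i.val) (W.pow_mem h.2 j.val)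
    rwa [hh.u_pow, hh.u_pow, hh.u_mul_u, ZMod.natCast_zmod_val, ZMod.natCast_zmod_val, mul_one,
      mul_zero, mul_zero, mul_one, add_zero, zero_add] at this
  have h11 : wu x y n 1 1 = wu x y n 1 0 * wu x y n 0 1 := by rw [hh.u_mul_u, add_zero, zero_add]
  -- some element of `W` is not a square
  obtain ⟨e, f, hef, hW⟩ : ∃ e f : ZMod (2 ^ n),
      ((e = 1 ∧ f = 0) ∨ (e = 0 ∧ f = 1) ∨ (e = 1 ∧ f = 1)) ∧ wu x y n e f ∈ W := by
    by_cases ha : wu x y n 1 0 ∈ W
    · exact ⟨1, 0, Or.inl ⟨rfl, rfl⟩, ha⟩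
    by_cases hb : wu x y n 0 1 ∈ W
    · exact ⟨0, 1, Or.inr (Or.inl ⟨rfl, rfl⟩), hb⟩
    exact ⟨1, 1, Or.inr (Or.inr ⟨rfl, rfl⟩), h11 ▸ h2 _ (hh.wu_mem_uG _ _) _ (hh.wu_mem_uG _ _) ha hb⟩
  obtain ⟨i, j, hij⟩ := hh.mem_uG.1 ((mem_normalizer_iff.1 hm _).1 (hh.wu_mem_uG e f))
  have hW' := hinv _ (hh.wu_mem_uG _ _) hW
  rw [hij] at hW'
  -- the attached involution is moved
  have hmove : m * wu x y n (wh n * e) (wh n * f) * m⁻¹ ≠ wu x y n (wh n * e) (wh n * f) := by
    intro hfix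
    set v := wu x y n (wh n * e) (wh n * f) with hv
    have hvo : orderOf v = 2 := by
      refine orderOf_eq_prime ?_ fun h1 => ?_
      · rw [pow_two, hv, hh.u_mul_u, ← two_mul, ← two_mul, ← mul_assoc, ← mul_assoc, hh.two_h, zero_mul,
          zero_mul, u_zero]
      · obtain ⟨he, hf⟩ := hh.u_eq_one.1 h1
        rcases hef with ⟨rfl, rfl⟩ | ⟨rfl, rfl⟩ | ⟨rfl, rfl⟩ <;> rw [mul_one] at * <;>
          first | exact hh.h_ne he | exact hh.h_ne hf
    apply hmz
    refine mul_inv_eq_iff_eq_mul.2 (odd_fix_of_series hmo (Z := zpowers v)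
      (IsPGroup.of_card (n := 1) (by rw [Nat.card_zpowers, hvo, pow_one])) (fun c hc => ?_) ?_)
    · obtain ⟨k, rfl⟩ := mem_zpowers_iff.1 hc
      exact Commute.zpow_right (mul_inv_eq_iff_eq_mul.1 hfix) k
    · have himg := (mem_normalizer_iff.1 hm _).1 (hh.wu_mem_uG (wh n) (wh n))
      have ho : orderOf (m * wu x y n (wh n) (wh n) * m⁻¹) = 2 :=
        (Cfsg.Agent.Invol.orderOf_conj m _).trans hh.z0_order
      have h1 : wh n * (1 : ZMod (2 ^ n)) = wh n := mul_one _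
      have hne : m * wu x y n (wh n) (wh n) * m⁻¹ ≠ v := fun h =>
        hmz (by
          have h3 : wu x y n (wh n) (wh n) = v := mul_left_cancel (mul_right_cancel (h.trans hfix.symm))
          rw [h3, hfix])
      rcases hh.involution_cases (hh.uG_le himg) ho with h | h | h | ⟨k, h⟩
      · rw [h, inv_mul_cancel]; exact one_mem _
      · rw [h] at hne ⊢
        rcases hef with ⟨rfl, rfl⟩ | ⟨rfl, rfl⟩ | ⟨rfl, rfl⟩ <;>
          simp only [hv, mul_one, mul_zero] at hne ⊢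
        · exact absurd rfl hne
        · rw [hh.u_inv, hh.u_mul_u, neg_add_cancel, add_zero,
            show -wh n = wh n by linear_combination -hh.two_h]
          exact mem_zpowers _
        · exact absurd (by simpa [hv] using hfix) hmz
      · rw [h] at hne ⊢
        rcases hef with ⟨rfl, rfl⟩ | ⟨rfl, rfl⟩ | ⟨rfl, rfl⟩ <;>
          simp only [hv, mul_one, mul_zero] at hne ⊢
        · rw [hh.u_inv, hh.u_mul_u, neg_add_cancel, add_zero,
            show -wh n = wh n by linear_combination -hh.two_h]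
          exact mem_zpowers _
        · exact absurd rfl hne
        · exact absurd (by simpa [hv] using hfix) hmz
      · obtain ⟨a, b, hab⟩ := hh.mem_uG.1 himg
        exact absurd (hab.symm.trans h) (hh.u_ne_o _ _ _ _)
  have hpow : m * wu x y n (wh n * e) (wh n * f) * m⁻¹ = wu x y n (wh n * i) (wh n * j) := by
    have hu : ∀ a b, wu x y n a b ^ 2 ^ (n - 1) = wu x y n (wh n * a) (wh n * b) := fun a b => by
      rw [hh.u_pow, wh]; push_cast; rfl
    rw [← hu, ← hu, ← conj_pow, hij]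
  rw [hpow] at hmove
  have hhe : ∀ c : ZMod (2 ^ n), wh n * (2 * c) = 0 := fun c => by rw [wh]; exact hh.pow_half_even c
  have hho : ∀ c : ZMod (2 ^ n), wh n * (2 * c + 1) = wh n := fun c => by rw [wh]; exact hh.pow_half_odd c
  obtain ⟨p, hp⟩ := dparity i
  obtain ⟨q, hq⟩ := dparity j
  have hfin : ∀ e' f', i = 2 * p + e' → j = 2 * q + f' → wu x y n e' f' ∈ W := fun e' f' hi hj => by
    rw [hi, hj] at hW'
    exact (hclass e' f' p q).1 hW'
  have k3 : ∀ a b c : G, a * b = c → a ∈ W → c ∈ W → b ∈ W := fun a b c hab ha hc =>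
    (W.mul_mem_cancel_left ha).1 (hab ▸ hc)
  have hab : wu x y n 0 1 * wu x y n 1 0 = wu x y n 1 1 := by rw [hh.u_mul_u, add_zero, zero_add]
  rcases hef with ⟨rfl, rfl⟩ | ⟨rfl, rfl⟩ | ⟨rfl, rfl⟩ <;> rcases hp with hp | hp <;> rcases hq with hq | hq <;>
    rw [hp, hq] at hmove <;>
    simp only [hhe, hho, mul_one, mul_zero, ne_eq, not_true_eq_false] at hmove
  -- every surviving case gives two of the three parity classes
  all_goals first
    | exact ⟨hW, hfin 0 1 (hp.trans (add_zero _).symm) hq⟩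
    | exact ⟨hfin 1 0 hp (hq.trans (add_zero _).symm), hW⟩
    | exact ⟨hW, k3 _ _ _ h11.symm hW (hfin 1 1 hp hq)⟩
    | exact ⟨k3 _ _ _ hab hW (hfin 1 1 hp hq), hW⟩
    | exact ⟨hfin 1 0 hp (hq.trans (add_zero _).symm),
        k3 _ _ _ h11.symm (hfin 1 0 hp (hq.trans (add_zero _).symm)) hW⟩
    | exact ⟨k3 _ _ _ hab (hfin 0 1 (hp.trans (add_zero _).symm) hq) hW, hfin 0 1 (hp.trans (add_zero _).symm) hq⟩
    | (exfalso
       have hfix0 : wu x y n (wh n * i) (wh n * j) = 1 := by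
         rw [hp, hq, hhe, hhe, u_zero]
       rw [← hpow, conj_eq_one_iff] at hfix0
       obtain ⟨e1, e2⟩ := hh.u_eq_one.1 hfix0
       simp only [mul_one, mul_zero] at e1 e2
       first | exact hh.h_ne e1 | exact hh.h_ne e2)

/-- Isolation of the central involution when the automiser of `U` has order two. -/
theorem isolated_of_U2 (h2 : (centralizer (hh.uG : Set G)).relIndex (normalizer (hh.uG : Set G)) = 2) :
    Cfsg.IsIsolatedInvolution (wu x y n (wh n) (wh n)) := by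
  set z0 := wu x y n (wh n) (wh n) with hz0
  have hU : ∀ g, g * z0 * g⁻¹ ∈ hh.uG → g * z0 * g⁻¹ = z0 := by
    intro g hg
    obtain ⟨m, hm, hme⟩ := hh.fuse_U (hh.wu_mem_uG _ _) hg rfl
    rcases hh.U_two_act h2 hm with h | h <;> rw [← hme, h]
  have hS : ∀ g, g * z0 * g⁻¹ ∈ (S : Subgroup G) → g * z0 * g⁻¹ = z0 := by
    intro g hg
    rcases hh.casesG hg with ⟨i, j, e⟩ | ⟨i, j, e⟩
    · exact hU g (by rw [e]; exact hh.wu_mem_uG _ _)
    exfalso
    set t := wo x y z n i j with ht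
    have hgt : g⁻¹ * t * g = z0 := by rw [← e]; group
    let W := zpowers (wu x y n 1 1) ⊔ zpowers t
    have hWS : W ≤ (S : Subgroup G) := sup_le (zpowers_le.2 (wu_mem _ _)) (zpowers_le.2 (wo_mem _ _))
    have hWc : W.map (MulAut.conj g⁻¹).toMonoidHom ≤ centralizer ({z0} : Set G) := by
      have hh1 : W ≤ centralizer ({t} : Set G) := sup_le
        (zpowers_le.2 (mem_centralizer_singleton_iff.2 (hh.scalar_comm (wo_mem i j) 1).symm))
        (zpowers_le.2 (mem_centralizer_singleton_iff.2 rfl))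
      rintro _ ⟨w, hw, rfl⟩
      rw [mem_centralizer_singleton_iff, ← hgt]
      show g⁻¹ * w * g⁻¹⁻¹ * (g⁻¹ * t * g) = g⁻¹ * t * g * (g⁻¹ * w * g⁻¹⁻¹)
      have := mem_centralizer_singleton_iff.1 (hh1 hw)
      calc g⁻¹ * w * g⁻¹⁻¹ * (g⁻¹ * t * g) = g⁻¹ * (w * t) * g := by group
        _ = g⁻¹ * (t * w) * g := by rw [this]
        _ = g⁻¹ * t * g * (g⁻¹ * w * g⁻¹⁻¹) := by group
    obtain ⟨c, hc, hcS⟩ := sylow_conj_into_centralizer S (fun s hs => hh.scalar_comm hs _)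
      ((S.2.to_le hWS).map (MulAut.conj g⁻¹).toMonoidHom) hWc
    rw [map_conj_conj] at hcS
    set m := c * g⁻¹ with hm
    have hmt : m * t * m⁻¹ = z0 := by
      calc m * t * m⁻¹ = c * (g⁻¹ * t * g) * c⁻¹ := by rw [hm]; group
        _ = z0 := by rw [hgt, hc]
    have hx11 : m * wu x y n 1 1 * m⁻¹ ∈ (S : Subgroup G) :=
      hcS ⟨_, mem_sup_left (mem_zpowers _), rfl⟩
    have hn2 := hh.two_le
    have hzp : (wu x y n 1 1) ^ 2 ^ (n - 1) = z0 := by
      rw [hh.u_pow, hz0, wh]; push_cast; rw [mul_one]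
    have him : m * z0 * m⁻¹ = z0 := by
      apply hU
      rw [← hzp, ← conj_pow]
      rcases hh.casesG hx11 with ⟨a, b, e'⟩ | ⟨a, b, e'⟩
      · rw [e']; exact pow_mem (hh.wu_mem_uG _ _) _
      · rw [e', show 2 ^ (n - 1) = 2 * 2 ^ (n - 2) by rw [← pow_succ']; congr 1; omega, pow_mul, pow_two,
          hh.o_sq]
        exact pow_mem (hh.wu_mem_uG _ _) _
    exact hh.u_ne_o (wh n) (wh n) i j (mul_left_cancel (mul_right_cancel (him.trans hmt.symm)))
  refine ⟨hh.z0_order, fun g hg => ?_⟩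
  set w := g * z0 * g⁻¹ with hw
  have hz2 : z0 ^ 2 = 1 := hh.z0_order ▸ pow_orderOf_eq_one z0
  have hw2 : w ^ 2 = 1 := by rw [hw, conj_pow, hz2, mul_one, mul_inv_cancel]
  have hP : IsPGroup 2 ↥(zpowers z0 ⊔ zpowers w) := by
    intro a
    refine ⟨1, Subtype.ext ?_⟩
    rw [pow_one, SubmonoidClass.coe_pow, Subgroup.coe_one]
    obtain ⟨p, hp, q, hq, e⟩ : ∃ p ∈ zpowers z0, ∃ q ∈ zpowers w, p * q = (a : G) := by
      have h := a.2
      rw [← SetLike.mem_coe, coe_mul_of_left_le_normalizer_right] at h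
      · exact h
      · refine (zpowers_le.2 ?_).trans (centralizer_le_normalizer _)
        exact mem_centralizer_iff.2 fun v hv => by
          obtain ⟨k, rfl⟩ := mem_zpowers_iff.1 hv
          exact (Commute.zpow_right hg k).symm
    obtain ⟨k, rfl⟩ := mem_zpowers_iff.1 hp
    obtain ⟨l, rfl⟩ := mem_zpowers_iff.1 hq
    rw [← e, (hg.zpow_zpow k l).mul_pow, ← zpow_natCast (z0 ^ k), ← zpow_mul, mul_comm k, zpow_mul,
      zpow_natCast, hz2, one_zpow, one_mul, ← zpow_natCast (w ^ l), ← zpow_mul, mul_comm l, zpow_mul,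
      zpow_natCast, hw2, one_zpow]
  obtain ⟨c, hc⟩ := sylow_conj_le S hP
  have h1 : c * z0 * c⁻¹ ∈ (S : Subgroup G) := hc ⟨z0, mem_sup_left (mem_zpowers _), rfl⟩
  have h2' : c * w * c⁻¹ ∈ (S : Subgroup G) := hc ⟨w, mem_sup_right (mem_zpowers _), rfl⟩
  have e1 := hS c h1
  rw [hw, show c * (g * z0 * g⁻¹) * c⁻¹ = (c * g) * z0 * (c * g)⁻¹ by group] at h2'
  have e2 := hS (c * g) h2'
  calc w = c⁻¹ * ((c * g) * z0 * (c * g)⁻¹) * c := by rw [hw]; group
    _ = c⁻¹ * (c * z0 * c⁻¹) * c := by rw [e2, e1]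
    _ = z0 := by group

/-- The centre of the Sylow subgroup is elementwise weakly closed when the central involution is
isolated. -/
theorem center_closed (hiso : Cfsg.IsIsolatedInvolution (wu x y n (wh n) (wh n))) {a : ZMod (2 ^ n)}
    {g : G} (hg : g * wu x y n a a * g⁻¹ ∈ (S : Subgroup G)) :
    g * wu x y n a a * g⁻¹ = wu x y n a a := by
  have : Fact (Nat.Prime 2) := ⟨Nat.prime_two⟩
  set Zc := (center (S : Subgroup G)).map (S : Subgroup G).subtype with hZc
  have hn := Cfsg.Agent.S1239.result S (Or.inr hh.isWreathed) _ (wu_mem (wh n) (wh n)) hiso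
  have hmemZ : ∀ v, v ∈ Zc ↔ ∃ b, v = wu x y n b b := by
    intro v
    constructor
    · rintro ⟨s, hs, rfl⟩
      obtain ⟨b, rfl⟩ := hh.mem_center_iff.1 hs
      exact ⟨b, rfl⟩
    · rintro ⟨b, rfl⟩
      exact ⟨_, hh.mem_center_iff.2 ⟨b, rfl⟩, rfl⟩
  have hOn : (Cfsg.oddCore G).Normal := (inferInstance : (Cfsg.pPrimeCore 2 G).Normal)
  have himg := hn.conj_mem _ (mem_sup_right ((hmemZ _).2 ⟨a, rfl⟩) : wu x y n a a ∈ Cfsg.oddCore G ⊔ Zc) g
  rw [← SetLike.mem_coe, normal_mul] at himg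
  obtain ⟨o, ho, c, hc, hoc⟩ := himg
  have hoc : o * c = g * wu x y n a a * g⁻¹ := hoc
  have hoS : o ∈ (S : Subgroup G) := by
    have := (S : Subgroup G).mul_mem hg ((S : Subgroup G).inv_mem (map_subtype_le _ hc))
    rwa [← hoc, mul_inv_cancel_right] at this
  have ho1 : o = 1 := by
    obtain ⟨j, hj⟩ := IsPGroup.iff_orderOf.1 S.2 ⟨o, hoS⟩
    rw [Subgroup.orderOf_mk] at hj
    rcases Nat.eq_zero_or_pos j with rfl | hpos
    · exact orderOf_eq_one_iff.1 (hj.trans (pow_zero 2))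
    · exact absurd (((dvd_pow_self 2 hpos.ne').trans hj.symm.dvd).trans (Subgroup.orderOf_dvd_natCard _ ho))
        (Core.not_dvd_card_pPrimeCore (p := 2) (G := G))
  rw [ho1, one_mul] at hoc
  have hcent : ∀ b, wu x y n b b ∈ centralizer ((S : Subgroup G) : Set G) :=
    fun b => mem_centralizer_iff.2 fun s hs => hh.scalar_comm hs b
  obtain ⟨b, hb⟩ := (hmemZ c).1 hc
  obtain ⟨m, hm, hme⟩ := S.conj_eq_normalizer_conj_of_mem_centralizer (wu x y n a a) g⁻¹ (hcent a)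
    (by rw [inv_inv, ← hoc, hb]; exact hcent b)
  rw [inv_inv] at hme
  suffices hfix : normalizer ((S : Subgroup G) : Set G) ≤ centralizer (Zc : Set G) by
    rw [hme, ← mem_centralizer_iff.1 (hfix (inv_mem hm)) _ ((hmemZ _).2 ⟨a, rfl⟩)]
    group
  rw [← relIndex_eq_one]
  by_contra hne
  obtain ⟨q, hq, hqd⟩ := Nat.exists_prime_and_dvd hne
  rcases eq_or_ne q 2 with rfl | hq2
  · refine (S.subtype le_normalizer).not_dvd_index (hqd.trans (index_dvd_of_le (comap_mono ?_)))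
    intro s hs
    refine mem_centralizer_iff.2 fun v hv => ?_
    obtain ⟨b', rfl⟩ := (hmemZ v).1 hv
    exact (hh.scalar_comm hs b').symm
  · have := Fact.mk hq
    let T : Sylow q (normalizer ((S : Subgroup G) : Set G)) := default
    refine T.not_dvd_index (hqd.trans (index_dvd_of_le fun t ht => ?_))
    obtain ⟨j, hj⟩ := IsPGroup.iff_orderOf.1 T.2 ⟨t, ht⟩
    rw [Subgroup.orderOf_mk, ← Subgroup.orderOf_coe] at hj
    have ht2 : ¬ 2 ∣ orderOf (t : G) := fun h2 => by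
      rw [hj] at h2
      exact hq2 ((Nat.prime_dvd_prime_iff_eq Nat.prime_two hq).1 (Nat.prime_two.dvd_of_dvd_pow h2)).symm
    have hcyc : IsCyclic Zc := by
      let f : Multiplicative (ZMod (2 ^ n)) →* G :=
        MonoidHom.mk' (fun c => wu x y n c.toAdd c.toAdd) (fun c d => (hh.u_mul_u _ _ _ _).symm)
      have hf : f.range = Zc := by
        ext v
        rw [hmemZ]
        exact ⟨fun ⟨c, hc⟩ => ⟨c.toAdd, hc.symm⟩, fun ⟨b', hb'⟩ => ⟨Multiplicative.ofAdd b', hb'.symm⟩⟩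
      rw [← hf]
      exact isCyclic_of_surjective f.rangeRestrict f.rangeRestrict_surjective
    have hnorm : (t : G) ∈ normalizer (Zc : Set G) := by
      refine mem_normalizer_of_forall fun v hv => ?_
      obtain ⟨s, hs, rfl⟩ := hv
      have hts : (t : G) * s * (t : G)⁻¹ ∈ (S : Subgroup G) := (mem_normalizer_iff.1 t.2 _).1 s.2
      refine ⟨⟨_, hts⟩, Subgroup.mem_center_iff.2 fun w => Subtype.ext ?_, rfl⟩
      have hw' : (t : G)⁻¹ * (w : G) * (t : G) ∈ (S : Subgroup G) := by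
        have := (mem_normalizer_iff.1 (inv_mem t.2) (w : G)).1 w.2
        rwa [inv_inv] at this
      have h1 : (t : G)⁻¹ * (w : G) * t * s = s * ((t : G)⁻¹ * w * t) :=
        congrArg Subtype.val (Subgroup.mem_center_iff.1 hs ⟨_, hw'⟩)
      show (w : G) * ((t : G) * s * (t : G)⁻¹) = (t : G) * s * (t : G)⁻¹ * w
      calc (w : G) * ((t : G) * s * (t : G)⁻¹) = t * ((t : G)⁻¹ * w * t * s) * (t : G)⁻¹ := by group
        _ = t * (s * ((t : G)⁻¹ * w * t)) * (t : G)⁻¹ := by rw [h1]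
        _ = (t : G) * s * (t : G)⁻¹ * w := by group
    exact mem_subgroupOf.2 (mem_centralizer_iff.2 fun v hv =>
      (odd_fix_cyclic ht2 (S.2.to_le (map_subtype_le _)) hcyc hnorm v hv).symm)

end WRGen

end Cfsg.Agent.Invol
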