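import Cfsg.Agent.Invol.WRCrit
import Cfsg.Agent.Invol.SylowNormal
import Cfsg.Agent.Fusion.TransferTools

/-!
The transfer onto the cyclic quotient of a wreathed Sylow 2-subgroup when `U` has automiser of order
two, and the quaternion case.
-/

set_option autoImplicit false

namespace Cfsg.Agent.Invol

open Subgroup

universe u

variable {G : Type u} [Group G] {S : Sylow 2 G} {x y z : (S : Subgroup G)} {n : ℕ}

/-- The twisted sum of exponents, whose kernel is the maximal class quaternion subgroup. -/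
noncomputable def WRGen.sigHom (hh : WRGen x y z n) :
    (S : Subgroup G) →* Multiplicative (ZMod (2 ^ n)) :=
  letI := Classical.propDecidable
  MonoidHom.mk' (fun s => hh.sumHom s * if s ∈ hh.toU.range then 1 else Multiplicative.ofAdd (wh n)) (by
    intro a b
    rw [map_mul]
    have hsq : Multiplicative.ofAdd (wh n) * Multiplicative.ofAdd (wh n) = 1 := by
      rw [← ofAdd_add, ← two_mul, hh.two_h, ofAdd_zero]
    have hidx : hh.toU.range.index = 2 := by
      have h := hh.toU.range.card_mul_index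
      rw [hh.card_range_toU, hh.card, pow_succ] at h
      exact Nat.eq_of_mul_eq_mul_left (Nat.two_pow_pos _) h
    have h := Subgroup.mul_mem_iff_of_index_two hidx (a := a) (b := b)
    by_cases ha : a ∈ hh.toU.range <;> by_cases hb : b ∈ hh.toU.range <;>
      simp only [h, ha, hb, if_true, if_false, iff_self, iff_true, iff_false, not_true_eq_false,
        not_false_eq_true, mul_one] <;>
      first | rfl | ac_rfl | (rw [mul_mul_mul_comm, hsq, mul_one]))

namespace WRGen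

variable (hh : WRGen x y z n)
include hh

theorem sigHom_u (i j : ZMod (2 ^ n)) (h : wu x y n i j ∈ (S : Subgroup G)) :
    hh.sigHom ⟨wu x y n i j, h⟩ = Multiplicative.ofAdd (i + j) := by
  show hh.sigHom (ww x y n i j) = _
  simp only [sigHom, MonoidHom.mk'_apply, if_pos (hh.mem_range_toU.2 ⟨i, j, rfl⟩), mul_one, hh.sumHom_w]

theorem sigHom_o (i j : ZMod (2 ^ n)) (h : wo x y z n i j ∈ (S : Subgroup G)) :
    hh.sigHom ⟨wo x y z n i j, h⟩ = Multiplicative.ofAdd (i + j + wh n) := by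
  show hh.sigHom (ww x y n i j * z) = _
  simp only [sigHom, MonoidHom.mk'_apply, hh.sumHom_wz, ← ofAdd_add]
  rw [if_neg fun hm => ?_]
  · rfl
  · obtain ⟨k, l, e⟩ := hh.mem_range_toU.1 hm
    exact hh.w_ne _ _ _ _ e.symm

variable [Finite G]

theorem sigHom_conj (h2 : hh.U2) (s : (S : Subgroup G)) (g : G) (hg : g * (s : G) * g⁻¹ ∈ (S : Subgroup G)) :
    hh.sigHom ⟨g * (s : G) * g⁻¹, hg⟩ = hh.sigHom s := by
  have hiso := hh.isolated_of_U2 h2
  have hsq : ∀ (v : G) (hv : v ∈ (S : Subgroup G)) (t : ZMod (2 ^ n)), (∀ b, v ≠ wu x y n b b) →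
      v * v = wu x y n t t → hh.sigHom ⟨v, hv⟩ = Multiplicative.ofAdd (t + wh n) := by
    intro v hv t hne hsq
    rcases hh.casesG hv with ⟨i, j, rfl⟩ | ⟨i, j, rfl⟩
    · rw [hh.u_mul_u] at hsq
      obtain ⟨e1, e2⟩ := hh.u_inj hsq
      rw [hh.sigHom_u]
      rcases hh.two_mul_eq_zero (i := j - i) (by linear_combination e2 - e1) with e | e
      · exact absurd (by rw [sub_eq_zero.1 e]) (hne i)
      · congr 1; linear_combination e + e1
    · rw [hh.o_sq] at hsq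
      rw [hh.sigHom_o, (hh.u_inj hsq).1]
  have main : ∀ (a b : ZMod (2 ^ n)) (c : G) (hc : c * wo x y z n a b * c⁻¹ ∈ (S : Subgroup G)),
      hh.sigHom ⟨c * wo x y z n a b * c⁻¹, hc⟩ = Multiplicative.ofAdd (a + b + wh n) := by
    intro a b c hc
    refine hsq _ hc (a + b) (fun d e => ?_) ?_
    · have h : c⁻¹ * wu x y n d d * c⁻¹⁻¹ = wo x y z n a b := by rw [← e]; group
      have h' := hh.center_closed hiso (g := c⁻¹) (a := d) (by rw [h]; exact wo_mem _ _)
      exact hh.u_ne_o _ _ _ _ (h'.symm.trans h)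
    · have h : c * wo x y z n a b * c⁻¹ * (c * wo x y z n a b * c⁻¹) = c * wu x y n (a + b) (a + b) * c⁻¹ := by
        rw [← hh.o_sq]; group
      rw [h]
      exact hh.center_closed hiso (by rw [← h]; exact mul_mem hc hc)
  obtain ⟨v, hv⟩ := s
  rcases hh.casesG hv with ⟨i, j, rfl⟩ | ⟨i, j, rfl⟩
  · rcases hh.casesG hg with ⟨k, l, e⟩ | ⟨k, l, e⟩
    · obtain ⟨m, hm, hme⟩ := hh.fuse_U (hh.wu_mem_uG i j) (hh.wu_mem_uG k l) e
      simp only [e, hh.sigHom_u]
      rcases hh.U_two_act h2 hm with h | h <;> rw [h] at hme <;> obtain ⟨rfl, rfl⟩ := hh.u_inj hme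
      · rfl
      · rw [add_comm]
    · have e' : g⁻¹ * wo x y z n k l * g⁻¹⁻¹ = wu x y n i j := by rw [← e]; group
      have h := main k l g⁻¹ (e'.symm ▸ wu_mem i j)
      simp only [e', hh.sigHom_u] at h
      simp only [e, hh.sigHom_o, hh.sigHom_u, h]
  · rw [main i j g hg, hh.sigHom_o]

/-- The normal subgroup with cyclic quotient of order `2 ^ n`. -/
theorem exists_kernel (h2 : hh.U2) :
    ∃ K : Subgroup G, K.Normal ∧ K.index = 2 ^ n ∧ ∀ s ∈ (S : Subgroup G),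
      s ∈ K ↔ ∃ k, s = wu x y n k (-k) ∨ s = wo x y z n (wh n - k) k := by
  set m := (S : Subgroup G).index
  have hm : m.Coprime (2 ^ n) :=
    (((Nat.Prime.coprime_iff_not_dvd Nat.prime_two).2 S.not_dvd_index).symm).pow_right n
  set T := MonoidHom.transfer hh.sigHom
  have hT : ∀ s : (S : Subgroup G), T (s : G) = hh.sigHom s ^ m := fun s =>
    Fusion.transfer_apply_eq_pow hh.sigHom s fun k a hk => hh.sigHom_conj h2 (s ^ k) a hk
  have hcard : Nat.card (Multiplicative (ZMod (2 ^ n))) = 2 ^ n :=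
    (Nat.card_congr Multiplicative.toAdd).trans (Nat.card_zmod _)
  have hpow : ∀ a : Multiplicative (ZMod (2 ^ n)), a ^ m = 1 → a = 1 := fun a ha =>
    orderOf_eq_one_iff.1 (Nat.eq_one_of_dvd_coprimes hm (orderOf_dvd_of_pow_eq_one ha)
      ((_root_.orderOf_dvd_natCard a).trans hcard.dvd))
  refine ⟨T.ker, inferInstance, ?_, fun s hs => ?_⟩
  · rw [Subgroup.index_ker]
    have hsurj : T.range = ⊤ := by
      refine eq_top_iff.2 fun a _ => ?_
      obtain ⟨k, hk⟩ := (powCoprime (G := Multiplicative (ZMod (2 ^ n))) (hcard.symm ▸ hm.symm)).surjective a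
      refine ⟨wu x y n k.toAdd 0, ?_⟩
      rw [show wu x y n k.toAdd 0 = ((⟨_, wu_mem _ _⟩ : (S : Subgroup G)) : G) from rfl, hT, hh.sigHom_u,
        add_zero]
      exact hk
    rw [hsurj, Subgroup.card_top, hcard]
  · rw [MonoidHom.mem_ker, show s = ((⟨s, hs⟩ : (S : Subgroup G)) : G) from rfl, hT]
    constructor
    · intro h
      have h := hpow _ h
      rcases hh.casesG hs with ⟨i, j, rfl⟩ | ⟨i, j, rfl⟩
      · rw [hh.sigHom_u, ofAdd_eq_one] at h
        exact ⟨i, Or.inl (by show wu x y n i j = _; rw [show j = -i by linear_combination h])⟩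
      · rw [hh.sigHom_o, ofAdd_eq_one] at h
        exact ⟨j, Or.inr (by show wo x y z n i j = _; rw [show i = wh n - j by linear_combination h - hh.two_h])⟩
    · rintro ⟨k, h | h⟩ <;> replace h : s = _ := h <;> subst h
      · rw [hh.sigHom_u, add_neg_cancel, ofAdd_zero, one_pow]
      · rw [hh.sigHom_o, sub_add_cancel, ← two_mul, hh.two_h, ofAdd_zero, one_pow]

theorem sylow_quaternion {K : Subgroup G} [K.Normal] (hK : ∀ s ∈ (S : Subgroup G),
      s ∈ K ↔ ∃ k, s = wu x y n k (-k) ∨ s = wo x y z n (wh n - k) k) (P : Sylow 2 K) :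
    Nonempty ((P : Subgroup K) ≃* QuaternionGroup (2 ^ (n - 1))) := by
  have : Fact (Nat.Prime 2) := ⟨Nat.prime_two⟩
  have hn := hh.two_le
  have he : 2 * 2 ^ (n - 1) = 2 ^ n := by rw [← pow_succ', show n - 1 + 1 = n by omega]
  let φ := ZMod.ringEquivCongr he
  have hφ : φ.toAddEquiv.toAddMonoidHom ((2 ^ (n - 1) : ℕ) : ZMod (2 * 2 ^ (n - 1))) = wh n := by
    show φ _ = _
    rw [map_natCast]; push_cast; rfl
  have hinj := hh.quatHom_inj φ.toAddEquiv.toAddMonoidHom hφ φ.injective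
  have hrange : (hh.quatHom φ.toAddEquiv.toAddMonoidHom hφ).range = (S : Subgroup G) ⊓ K := by
    ext s
    constructor
    · rintro ⟨i | i, rfl⟩
      · exact ⟨wu_mem _ _, (hK _ (wu_mem _ _)).2 ⟨φ i, Or.inl rfl⟩⟩
      · exact ⟨wo_mem _ _, (hK _ (wo_mem _ _)).2 ⟨φ i, Or.inr rfl⟩⟩
    · rintro ⟨hsS, hsK⟩
      obtain ⟨k, rfl | rfl⟩ := (hK s hsS).1 hsK
      · exact ⟨.a (φ.symm k), by show wu x y n (φ (φ.symm k)) (-φ (φ.symm k)) = _; rw [φ.apply_symm_apply]⟩
      · exact ⟨.xa (φ.symm k), by show wo x y z n (wh n - φ (φ.symm k)) (φ (φ.symm k)) = _; rw [φ.apply_symm_apply]⟩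
  obtain ⟨e⟩ := sylow_equiv_inf S K P
  exact ⟨(e.trans (MulEquiv.subgroupCongr hrange.symm)).trans (MonoidHom.ofInjective hinj).symm⟩

theorem quaternion_kernel_no_index_two (h2 : hh.U2) (h6 : hh.V6) {K : Subgroup G} (hKn : K.Normal)
    (hKi : K.index = 2 ^ n) (hK : ∀ s ∈ (S : Subgroup G),
      s ∈ K ↔ ∃ k, s = wu x y n k (-k) ∨ s = wo x y z n (wh n - k) k) (H : Subgroup K) :
    H.index ≠ 2 := by
  have : Fact (Nat.Prime 2) := ⟨Nat.prime_two⟩
  intro hH
  obtain ⟨m, hm, hmo, hmC⟩ : ∃ m ∈ normalizer (hh.vG : Set G), ¬ 2 ∣ orderOf m ∧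
      m ∉ normalizer (hh.cG : Set G) := by
    rcases hh.V_auto with ⟨h, -⟩ | ⟨-, h⟩
    · rw [WRGen.V6, h] at h6; omega
    · exact h
  have hmK : m ∈ K := by
    have h1 := orderOf_map_dvd (QuotientGroup.mk' K) m
    have h2' : orderOf (QuotientGroup.mk' K m) ∣ 2 ^ n := hKi ▸ orderOf_dvd_natCard _
    rw [← QuotientGroup.eq_one_iff, ← QuotientGroup.mk'_apply, ← orderOf_eq_one_iff]
    exact Nat.eq_one_of_dvd_coprimes ((((Nat.Prime.coprime_iff_not_dvd Nat.prime_two).2 hmo).symm).pow_right n)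
      h1 h2'
  have hAK : wu x y n (wq n) (-wq n) ∈ K := (hK _ (wu_mem _ _)).2 ⟨wq n, Or.inl rfl⟩
  have hzK : wu x y n (wh n) (wh n) ∈ K :=
    (hK _ (wu_mem _ _)).2 ⟨wh n, Or.inl (by rw [hh.neg_h])⟩
  have hgK : wo x y z n (wh n) 0 ∈ K := (hK _ (wo_mem _ _)).2 ⟨0, Or.inr (by rw [sub_zero])⟩
  set A := wu x y n (wq n) (-wq n) with hA
  set z0 := wu x y n (wh n) (wh n) with hz0
  have hA2 : A * A = z0 := by
    rw [hA, hz0, hh.u_mul_u]; congr 1
    · linear_combination hh.two_q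
    · linear_combination -hh.two_q - hh.two_h
  have hAC : A ∈ hh.cG := hh.u_mem_cG (by linear_combination -2 * hh.two_q - hh.two_h)
  -- elements of `cG` in `K`
  have hcK : ∀ v ∈ hh.cG, v ∈ K → v = 1 ∨ v = z0 ∨ v = A ∨ v = z0 * A := by
    rintro _ ⟨a, e, he, rfl⟩ hv
    obtain ⟨k, hk | hk⟩ := (hK _ (wu_mem _ _)).1 hv
    · obtain ⟨rfl, hk⟩ := hh.u_inj hk
      have h0 : 2 * a = e := by linear_combination hk - he
      rcases hh.four_cases (d := a) (by rw [h0, he]) with rfl | rfl | rfl | rfl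
      · exact Or.inl (by rw [hk, neg_zero, u_zero])
      · exact Or.inr (Or.inl (by rw [hk, hh.neg_h]))
      · exact Or.inr (Or.inr (Or.inl (by rw [hk])))
      · exact Or.inr (Or.inr (Or.inr (by
          rw [hk, hz0, hA, hh.u_mul_u]; congr 1
          · ring
          · linear_combination -hh.two_h)))
    · exact absurd hk (hh.u_ne_o _ _ _ _)
  have hmz : m * z0 * m⁻¹ = z0 := mul_inv_eq_iff_eq_mul.2 (hh.scalar_fixed hm hmo _)
  set b := m * A * m⁻¹ with hb
  have hbK : b ∈ K := hKn.conj_mem _ hAK m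
  have hbV : b ∈ hh.vG := (mem_normalizer_iff.1 hm _).1 (hh.cG_le_vG hAC)
  have hbC : b ∉ hh.cG := by
    intro hb'
    refine hmC (mem_normalizer_of_forall ?_)
    rintro _ ⟨a, e, he, rfl⟩
    rcases hh.two_mul_eq_zero he with rfl | rfl
    · rw [add_zero, mul_inv_eq_iff_eq_mul.2 (hh.scalar_fixed hm hmo a)]
      exact hh.scalar_mem_cG a
    · rw [show wu x y n a (a + wh n) = wu x y n (a - wq n) (a - wq n) * A by
          rw [hA, hh.u_mul_u]; congr 1
          · ring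
          · linear_combination hh.two_q + hh.two_h,
        ← MulAut.conj_apply, map_mul, MulAut.conj_apply, MulAut.conj_apply,
        mul_inv_eq_iff_eq_mul.2 (hh.scalar_fixed hm hmo _)]
      exact hh.cG.mul_mem (hh.scalar_mem_cG _) hb'
  obtain ⟨a, e, he, hbe⟩ : ∃ a e, 2 * e = 0 ∧ b = wo x y z n a (a + e) := by
    obtain ⟨a, e, he, h | h⟩ := hbV
    · exact absurd ⟨a, e, he, h⟩ hbC
    · exact ⟨a, e, he, h⟩
  have hfix : ∀ j : ℕ, m ^ (2 ^ j) * A * (m ^ (2 ^ j))⁻¹ = A → False := by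
    intro j hj
    obtain ⟨k, hk⟩ := exists_pow_eq_self_of_coprime (x := m) (n := 2 ^ j)
      (Nat.Coprime.pow_left _ ((Nat.Prime.coprime_iff_not_dvd Nat.prime_two).2 hmo))
    refine hbC ?_
    have hc : Commute (m ^ (2 ^ j)) A := mul_inv_eq_iff_eq_mul.1 hj
    have hc' : Commute m A := hk ▸ hc.pow_left k
    rw [hb, hc'.eq, mul_inv_cancel_right]
    exact hAC
  -- the subgroup of index two contains `A` and the outer generator
  have main : ∀ H : Subgroup K, H.index = 2 →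
      (⟨A, hAK⟩ : K) ∈ H ∧ (⟨z0, hzK⟩ : K) ∈ H ∧ (⟨_, hgK⟩ : K) ∈ H := by
    intro H hH
    have hHn : H.Normal := Subgroup.normal_of_index_eq_two hH
    have hmul := fun p q : K => Subgroup.mul_mem_iff_of_index_two hH (a := p) (b := q)
    have hz : (⟨z0, hzK⟩ : K) ∈ H := by
      rw [show (⟨z0, hzK⟩ : K) = ⟨A, hAK⟩ * ⟨A, hAK⟩ from Subtype.ext hA2.symm, hmul]
    have hconj : ∀ (v : G) (hv : v ∈ K),
        (⟨m * v * m⁻¹, hKn.conj_mem _ hv m⟩ : K) ∈ H ↔ (⟨v, hv⟩ : K) ∈ H := fun v hv =>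
      ⟨fun h => by
        have := hHn.conj_mem _ h (⟨m, hmK⟩⁻¹)
        rwa [show (⟨m, hmK⟩ : K)⁻¹ * ⟨m * v * m⁻¹, hKn.conj_mem _ hv m⟩ * (⟨m, hmK⟩ : K)⁻¹⁻¹ = ⟨v, hv⟩ from
          Subtype.ext (by simp [mul_assoc])] at this,
      fun h => hHn.conj_mem _ h ⟨m, hmK⟩⟩
    set b' := m * b * m⁻¹ with hb'
    have hb'K : b' ∈ K := hKn.conj_mem _ hbK m
    have hb'V : b' ∈ hh.vG := (mem_normalizer_iff.1 hm _).1 hbV
    obtain ⟨a', e', he', hb'e⟩ : ∃ a' e', 2 * e' = 0 ∧ b' = wo x y z n a' (a' + e') := by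
      obtain ⟨a', e', he', h | h⟩ := hb'V
      · exfalso
        rcases hcK b' (h ▸ hh.u_mem_cG (by linear_combination he')) hb'K with h' | h' | h' | h'
        · have : b = 1 := conj_eq_one_iff.1 h'
          exact hbC (this ▸ one_mem _)
        · have : b = z0 := mul_left_cancel (mul_right_cancel (h'.trans hmz.symm))
          exact hbC (this ▸ hh.scalar_mem_cG _)
        · refine hfix 1 ?_
          calc m ^ 2 ^ 1 * A * (m ^ 2 ^ 1)⁻¹ = m * (m * A * m⁻¹) * m⁻¹ := by rw [pow_one, pow_two]; group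
            _ = A := h'
        · refine hfix 2 ?_
          have h2m : m ^ 2 * A * (m ^ 2)⁻¹ = z0 * A := by
            calc m ^ 2 * A * (m ^ 2)⁻¹ = m * (m * A * m⁻¹) * m⁻¹ := by rw [pow_two]; group
              _ = z0 * A := h'
          have hz2 : m ^ 2 * z0 * (m ^ 2)⁻¹ = z0 :=
            mul_inv_eq_iff_eq_mul.2 ((show Commute m z0 from mul_inv_eq_iff_eq_mul.1 hmz).pow_left 2).eq
          calc m ^ 2 ^ 2 * A * (m ^ 2 ^ 2)⁻¹ = m ^ 2 * (m ^ 2 * A * (m ^ 2)⁻¹) * (m ^ 2)⁻¹ := by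
                rw [show (2 : ℕ) ^ 2 = 2 + 2 from rfl, pow_add]; group
            _ = (m ^ 2 * z0 * (m ^ 2)⁻¹) * (m ^ 2 * A * (m ^ 2)⁻¹) := by conv_lhs => rw [h2m]
                                                                         group
            _ = z0 * z0 * A := by rw [h2m, hz2, mul_assoc]
            _ = A := by rw [hz0, hh.u_mul_u, ← two_mul, hh.two_h, u_zero, one_mul]
      · exact ⟨a', e', he', h⟩
    set d := b⁻¹ * b' with hd
    have hdK : d ∈ K := mul_mem (inv_mem hbK) hb'K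
    have hdC : d ∈ hh.cG := by
      rw [hd, hbe, hb'e, hh.o_inv, hh.o_mul_o]
      exact hh.u_mem_cG (by linear_combination he - he')
    have hPb : (⟨b, hbK⟩ : K) ∈ H ↔ (⟨A, hAK⟩ : K) ∈ H := hconj A hAK
    have hPb' : (⟨b', hb'K⟩ : K) ∈ H ↔ (⟨A, hAK⟩ : K) ∈ H := (hconj b hbK).trans hPb
    have hsplit : (⟨b', hb'K⟩ : K) = ⟨b, hbK⟩ * ⟨d, hdK⟩ := Subtype.ext (mul_inv_cancel_left b b').symm
    have hPA : (⟨A, hAK⟩ : K) ∈ H := by
      rcases hcK d hdC hdK with h | h | h | h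
      · exfalso
        have h' : m * b * m⁻¹ = m * A * m⁻¹ := (inv_mul_eq_one.1 h).symm
        exact hbC ((mul_left_cancel (mul_right_cancel h')) ▸ hAC)
      · exfalso
        have h' : m * b * m⁻¹ = m * (A * z0) * m⁻¹ :=
          calc m * b * m⁻¹ = b * z0 := by rw [← h]; exact (mul_inv_cancel_left b b').symm
            _ = m * A * m⁻¹ * (m * z0 * m⁻¹) := by rw [hmz]
            _ = m * (A * z0) * m⁻¹ := by group
        exact hbC ((mul_left_cancel (mul_right_cancel h')) ▸ hh.cG.mul_mem hAC (hh.scalar_mem_cG _))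
      · have hd' : (⟨d, hdK⟩ : K) = ⟨A, hAK⟩ := Subtype.ext h
        rw [hsplit, hd', hmul] at hPb'
        tauto
      · have hd' : (⟨d, hdK⟩ : K) = ⟨z0, hzK⟩ * ⟨A, hAK⟩ := Subtype.ext h
        rw [hsplit, hd', hmul, hmul] at hPb'
        tauto
    refine ⟨hPA, hz, ?_⟩
    have hbH := hPb.2 hPA
    set c := b⁻¹ * wo x y z n (wh n) 0 with hc
    have hcmem : c ∈ hh.cG := by
      rw [hc, hbe, hh.o_inv, hh.o_mul_o]
      exact hh.u_mem_cG (by linear_combination he + hh.two_h)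
    have hcKm : c ∈ K := mul_mem (inv_mem hbK) hgK
    have hcH : (⟨c, hcKm⟩ : K) ∈ H := by
      rcases hcK c hcmem hcKm with h | h | h | h
      · rw [show (⟨c, hcKm⟩ : K) = 1 from Subtype.ext h]; exact one_mem H
      · rw [show (⟨c, hcKm⟩ : K) = ⟨z0, hzK⟩ from Subtype.ext h]; exact hz
      · rw [show (⟨c, hcKm⟩ : K) = ⟨A, hAK⟩ from Subtype.ext h]; exact hPA
      · rw [show (⟨c, hcKm⟩ : K) = ⟨z0, hzK⟩ * ⟨A, hAK⟩ from Subtype.ext h]; exact mul_mem hz hPA
    have := mul_mem hbH hcH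
    rwa [show (⟨b, hbK⟩ : K) * ⟨c, hcKm⟩ = ⟨_, hgK⟩ from Subtype.ext (mul_inv_cancel_left b _)] at this
  obtain ⟨hAH, hzH, hgH⟩ := main H hH
  -- shift by `x`
  let f : K →* K := (MulAut.conjNormal (wu x y n 1 0) : K ≃* K).toMonoidHom
  have hf : Function.Surjective f := (MulAut.conjNormal (wu x y n 1 0) : K ≃* K).surjective
  obtain ⟨-, -, hgH'⟩ := main (H.comap f) (by rw [Subgroup.index_comap_of_surjective H hf, hH])
  have hkey : ∀ (v : G) (hv : v ∈ K), v ∈ (S : Subgroup G) → (⟨v, hv⟩ : K) ∈ H := by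
    have hg1 : wo x y z n (wh n + 1) (-1) ∈ K :=
      (hK _ (wo_mem _ _)).2 ⟨-1, Or.inr (by rw [sub_neg_eq_add])⟩
    have hg1H : (⟨_, hg1⟩ : K) ∈ H := by
      have h : f ⟨_, hgK⟩ ∈ H := hgH'
      rwa [show f ⟨_, hgK⟩ = ⟨_, hg1⟩ from Subtype.ext (by
        show ((MulAut.conjNormal (wu x y n 1 0) ⟨_, hgK⟩ : K) : G) = _
        rw [MulAut.conjNormal_apply]
        exact (hh.u_conj_o _ _ _ _).trans (by congr 1 <;> ring))] at h
    have hD : wu x y n 1 (-1) ∈ K := (hK _ (wu_mem _ _)).2 ⟨1, Or.inl rfl⟩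
    have hDH : (⟨_, hD⟩ : K) ∈ H := by
      rw [show (⟨_, hD⟩ : K) = ⟨z0, hzK⟩ * (⟨_, hg1⟩ * ⟨_, hgK⟩) from Subtype.ext (by
        show wu x y n 1 (-1) = z0 * (_ * _)
        rw [hh.o_mul_o, hz0, hh.u_mul_u]; congr 1
        · linear_combination -hh.two_h
        · linear_combination -hh.two_h)]
      exact mul_mem hzH (mul_mem hg1H hgH)
    intro v hv hvS
    obtain ⟨k, rfl | rfl⟩ := (hK v hvS).1 hv
    · rw [show (⟨_, hv⟩ : K) = ⟨_, hD⟩ ^ k.val from Subtype.ext (by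
        rw [SubmonoidClass.coe_pow]; show _ = wu x y n 1 (-1) ^ k.val
        rw [hh.u_pow, ZMod.natCast_zmod_val, mul_one, mul_neg_one])]
      exact pow_mem hDH _
    · rw [show (⟨_, hv⟩ : K) = ⟨_, hD⟩ ^ (-k).val * ⟨_, hgK⟩ from Subtype.ext (by
        rw [Subgroup.coe_mul, SubmonoidClass.coe_pow]; show _ = wu x y n 1 (-1) ^ (-k).val * _
        rw [hh.u_pow, ZMod.natCast_zmod_val, mul_one, mul_neg_one, hh.u_mul_o]; exact congrArg₂ (wo x y z n) (by ring) (by ring))]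
      exact mul_mem (pow_mem hDH _) hgH
  obtain ⟨P, hP⟩ := exists_sylow_eq_inf S K
  refine index_ne_of_sylow_le P (fun v hv => ?_) hH
  rw [hP] at hv
  exact hkey v v.2 hv.1

theorem center_weakly_closed (h2 : hh.U2) (Z₀ : Subgroup G)
    (hZ : Z₀ ≤ (center (S : Subgroup G)).map (S : Subgroup G).subtype) :
    Cfsg.IsWeaklyClosed Z₀ (S : Subgroup G) := by
  refine ⟨hZ.trans (map_subtype_le _), fun g hg => ?_⟩
  have hfix : ∀ v ∈ Z₀, g * v * g⁻¹ = v := by
    intro v hv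
    obtain ⟨b, rfl⟩ := hh.mem_zc.1 (hZ hv)
    exact hh.center_closed (hh.isolated_of_U2 h2) (hg ⟨_, hv, rfl⟩)
  ext v
  exact ⟨fun ⟨w, hw, e⟩ => by rw [← e]; show g * w * g⁻¹ ∈ Z₀; rw [hfix w hw]; exact hw,
    fun hv => ⟨v, hv, hfix v hv⟩⟩

/-- The quaternion case: the kernel of the transfer. -/
theorem quaternion_case (h2 : hh.U2) (h6 : hh.V6) :
    (∃ K : Subgroup G, K.Normal ∧ K.index = 2 ^ n ∧
      (∀ P : Sylow 2 K, ∃ m : ℕ, 1 ≤ m ∧ Nonempty ((P : Subgroup K) ≃* QuaternionGroup (2 ^ m))) ∧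
      ∀ H : Subgroup K, H.index ≠ 2) ∧
    ∀ Z₀ : Subgroup G, Z₀ ≤ (center (S : Subgroup G)).map (S : Subgroup G).subtype →
      Cfsg.IsWeaklyClosed Z₀ (S : Subgroup G) := by
  obtain ⟨K, hKn, hKi, hK⟩ := hh.exists_kernel h2
  have := hh.two_le
  exact ⟨⟨K, hKn, hKi, fun P => ⟨n - 1, by omega, hh.sylow_quaternion hK P⟩,
    hh.quaternion_kernel_no_index_two h2 h6 hKn hKi hK⟩, fun Z₀ hZ => hh.center_weakly_closed h2 Z₀ hZ⟩

end WRGen

end Cfsg.Agent.Invol
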