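import Cfsg.Agent.Invol.WRFusion

/-!
The subgroups `V = Q Z(S)` of a wreathed Sylow 2-subgroup: coordinates, automiser, and the
criterion for an automiser of order six.
-/

set_option autoImplicit false

namespace Cfsg.Agent.Invol

open Subgroup

universe u

variable {G : Type u} [Group G] {S : Sylow 2 G} {x y z : (S : Subgroup G)} {n : ℕ}

/-- a quarter of the modulus -/
def wq (n : ℕ) : ZMod (2 ^ n) := 2 ^ (n - 2)

/-- The commutative subgroup `U ⊓ V`. -/
def WRGen.cG (hh : WRGen x y z n) : Subgroup G where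
  carrier := {g | ∃ a e, 2 * e = 0 ∧ g = wu x y n a (a + e)}
  one_mem' := ⟨0, 0, mul_zero _, by rw [add_zero, WRGen.u_zero]⟩
  mul_mem' := by
    rintro _ _ ⟨a, e, he, rfl⟩ ⟨b, f, hf, rfl⟩
    exact ⟨a + b, e + f, by rw [mul_add, he, hf, add_zero], by rw [hh.u_mul_u, add_add_add_comm]⟩
  inv_mem' := by
    rintro _ ⟨a, e, he, rfl⟩
    exact ⟨-a, -e, by rw [mul_neg, he, neg_zero], by rw [hh.u_inv, neg_add]⟩

/-- The subgroup `Q Z(S)` for adapted generators. -/
def WRGen.vG (hh : WRGen x y z n) : Subgroup G where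
  carrier := {g | ∃ a e, 2 * e = 0 ∧ (g = wu x y n a (a + e) ∨ g = wo x y z n a (a + e))}
  one_mem' := ⟨0, 0, mul_zero _, Or.inl (by rw [add_zero, WRGen.u_zero])⟩
  mul_mem' := by
    rintro _ _ ⟨a, e, he, rfl | rfl⟩ ⟨b, f, hf, rfl | rfl⟩
    · exact ⟨a + b, e + f, by rw [mul_add, he, hf, add_zero],
        Or.inl (by rw [hh.u_mul_u, add_add_add_comm])⟩
    · exact ⟨a + b, e + f, by rw [mul_add, he, hf, add_zero],
        Or.inr (by rw [hh.u_mul_o, add_add_add_comm])⟩
    · exact ⟨a + (b + f), e - f, by rw [mul_sub, he, hf, sub_zero],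
        Or.inr (by rw [hh.o_mul_u]; congr 1; ring)⟩
    · exact ⟨a + (b + f), e - f, by rw [mul_sub, he, hf, sub_zero],
        Or.inl (by rw [hh.o_mul_o]; congr 1; ring)⟩
  inv_mem' := by
    rintro _ ⟨a, e, he, rfl | rfl⟩
    · exact ⟨-a, -e, by rw [mul_neg, he, neg_zero], Or.inl (by rw [hh.u_inv, neg_add])⟩
    · exact ⟨-(a + e), e, he, Or.inr (by rw [hh.o_inv]; congr 1; ring)⟩

namespace WRGen

variable (hh : WRGen x y z n)
include hh

theorem mem_cG {g : G} : g ∈ hh.cG ↔ ∃ a e, 2 * e = 0 ∧ g = wu x y n a (a + e) := Iff.rfl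

theorem mem_vG {g : G} :
    g ∈ hh.vG ↔ ∃ a e, 2 * e = 0 ∧ (g = wu x y n a (a + e) ∨ g = wo x y z n a (a + e)) := Iff.rfl

theorem cG_le_vG : hh.cG ≤ hh.vG := fun _ ⟨a, e, he, h⟩ => ⟨a, e, he, Or.inl h⟩

theorem vG_le : hh.vG ≤ (S : Subgroup G) := by
  rintro _ ⟨a, e, _, rfl | rfl⟩
  exacts [wu_mem _ _, wo_mem _ _]

theorem cG_le_uG : hh.cG ≤ hh.uG := fun _ ⟨_, _, _, h⟩ => h ▸ hh.wu_mem_uG _ _

theorem u_mem_vG {i j : ZMod (2 ^ n)} (h : 2 * (j - i) = 0) : wu x y n i j ∈ hh.vG :=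
  ⟨i, j - i, h, Or.inl (by rw [add_sub_cancel])⟩

theorem o_mem_vG {i j : ZMod (2 ^ n)} (h : 2 * (j - i) = 0) : wo x y z n i j ∈ hh.vG :=
  ⟨i, j - i, h, Or.inr (by rw [add_sub_cancel])⟩

theorem u_mem_cG {i j : ZMod (2 ^ n)} (h : 2 * (j - i) = 0) : wu x y n i j ∈ hh.cG :=
  ⟨i, j - i, h, by rw [add_sub_cancel]⟩

theorem scalar_mem_cG (b : ZMod (2 ^ n)) : wu x y n b b ∈ hh.cG :=
  hh.u_mem_cG (by rw [sub_self, mul_zero])

theorem two_q : 2 * wq n = wh n := hh.h_two.symm

theorem neg_h : -wh n = wh n := by linear_combination -hh.two_h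

theorem neg_q : -wq n = wq n + wh n := by linear_combination -(2 : ZMod (2 ^ n)) * hh.two_q + (hh.two_q) - hh.two_h

theorem four_cases {d : ZMod (2 ^ n)} (h : 2 * (2 * d) = 0) :
    d = 0 ∨ d = wh n ∨ d = wq n ∨ d = wq n + wh n := by
  rcases hh.two_mul_eq_zero h with e | e
  · rcases hh.two_mul_eq_zero e with e' | e'
    exacts [Or.inl e', Or.inr (Or.inl e')]
  · rcases hh.two_mul_eq_zero (i := d - wq n) (by linear_combination e - hh.two_q) with e' | e'
    exacts [Or.inr (Or.inr (Or.inl (sub_eq_zero.1 e'))),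
      Or.inr (Or.inr (Or.inr (by linear_combination e')))]

theorem mem_zc {v : G} :
    v ∈ (center (S : Subgroup G)).map (S : Subgroup G).subtype ↔ ∃ b, v = wu x y n b b := by
  constructor
  · rintro ⟨s, hs, rfl⟩
    obtain ⟨b, rfl⟩ := hh.mem_center_iff.1 hs
    exact ⟨b, rfl⟩
  · rintro ⟨b, rfl⟩
    exact ⟨_, hh.mem_center_iff.2 ⟨b, rfl⟩, rfl⟩

theorem u_ne_scalar {a b : ZMod (2 ^ n)} (h : a ≠ b) (c : ZMod (2 ^ n)) :
    wu x y n a b ≠ wu x y n c c := fun e => h ((hh.u_inj e).1.trans (hh.u_inj e).2.symm)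

theorem adapted_z (k : ZMod (2 ^ n)) : WRGen x y (ww x y n (-k) k * z) n := by
  have hz2 : orderOf (ww x y n (-k) k * z) = 2 :=
    hh.order_two.2 (Or.inr (Or.inr (Or.inr ⟨-k, by rw [neg_neg]⟩)))
  refine ⟨hh.two_le, hh.ordx, hh.comm, hh.disj, hz2, ?_, hh.card⟩
  have : Fact (1 < 2 ^ n) := ⟨Nat.one_lt_pow (by have := hh.two_le; omega) one_lt_two⟩
  have hx : x = ww x y n 1 0 := by simp [ww, ZMod.val_one]
  have hy : y = ww x y n 0 1 := by simp [ww, ZMod.val_one]
  calc ww x y n (-k) k * z * x * (ww x y n (-k) k * z)⁻¹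
      = ww x y n (-k) k * z * ww x y n 1 0 * (ww x y n (-k) k * z)⁻¹ := by rw [← hx]
    _ = ww x y n 0 1 := Subtype.ext (hh.o_conj_u _ _ _ _)
    _ = y := hy.symm

/-- Generators adapted to a quaternion subgroup. -/
theorem exists_adapted (Q : Subgroup G) (hQS : Q ≤ (S : Subgroup G)) (e : Q ≃* QuaternionGroup 2) :
    ∃ z' : (S : Subgroup G), ∃ hh' : WRGen x y z' n,
      Q ⊔ (center (S : Subgroup G)).map (S : Subgroup G).subtype = hh'.vG := by
  classical
  have d1 : ∃ p r : QuaternionGroup 2, p * r ≠ r * p := by decide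
  have d2 : ∀ p r : QuaternionGroup 2, p * r ≠ r * p →
      p * p = QuaternionGroup.a 2 ∧ r * r = QuaternionGroup.a 2 := by decide
  have d3 : QuaternionGroup.a 2 * QuaternionGroup.a 2 = (1 : QuaternionGroup 2) ∧
      QuaternionGroup.a 2 ≠ (1 : QuaternionGroup 2) := by decide
  have d4 : ∀ p : QuaternionGroup 2, p * p = 1 ∨ p * p = QuaternionGroup.a 2 := by decide
  set c : G := ((e.symm (QuaternionGroup.a 2) : Q) : G) with hc
  have hc1 : c ≠ 1 := fun h => d3.2 (e.symm.injective ((Subtype.ext h).trans (map_one _).symm))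
  have hcc : c * c = 1 := by
    rw [hc, ← Subgroup.coe_mul, ← map_mul, d3.1, map_one, Subgroup.coe_one]
  have hnc : ∀ p ∈ Q, ∀ r ∈ Q, p * r ≠ r * p → p * p = c ∧ r * r = c := by
    intro p hp r hr hpr
    have h := d2 (e ⟨p, hp⟩) (e ⟨r, hr⟩) fun h => by
      rw [← map_mul, ← map_mul] at h
      exact hpr (congrArg Subtype.val (e.injective h))
    constructor
    · rw [hc, ← h.1, ← map_mul, e.symm_apply_apply]; rfl
    · rw [hc, ← h.2, ← map_mul, e.symm_apply_apply]; rfl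
  have hsqQ : ∀ p ∈ Q, p * p = 1 ∨ p * p = c := by
    intro p hp
    rcases d4 (e ⟨p, hp⟩) with h | h
    · refine Or.inl ?_
      rw [← map_mul, ← e.map_one] at h
      exact congrArg Subtype.val (e.injective h)
    · refine Or.inr ?_
      rw [hc, ← h, ← map_mul, e.symm_apply_apply]; rfl
  obtain ⟨p, hp, r, hr, hpr⟩ : ∃ p ∈ Q, ∃ r ∈ Q, p * r ≠ r * p := by
    obtain ⟨p, r, h⟩ := d1
    exact ⟨_, (e.symm p).2, _, (e.symm r).2, fun he => h (e.symm.injective (by
      rw [map_mul, map_mul]; exact Subtype.ext he))⟩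
  -- an element outside `U` and one inside, not commuting
  obtain ⟨i, j, c₁, c₂, hg, ha, hga⟩ : ∃ i j c₁ c₂, wo x y z n i j ∈ Q ∧ wu x y n c₁ c₂ ∈ Q ∧
      wo x y z n i j * wu x y n c₁ c₂ ≠ wu x y n c₁ c₂ * wo x y z n i j := by
    rcases hh.casesG (hQS hp) with ⟨i, j, rfl⟩ | ⟨i, j, rfl⟩ <;>
      rcases hh.casesG (hQS hr) with ⟨k, l, rfl⟩ | ⟨k, l, rfl⟩
    · exact absurd (hh.uG_comm (hh.wu_mem_uG _ _) (hh.wu_mem_uG _ _)) hpr
    · exact ⟨k, l, i, j, hr, hp, Ne.symm hpr⟩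
    · exact ⟨i, j, k, l, hp, hr, hpr⟩
    · refine ⟨i, j, i + l, j + k, hp, hh.o_mul_o i j k l ▸ Q.mul_mem hp hr, ?_⟩
      rw [← hh.o_mul_o]
      intro h
      rw [mul_assoc (wo x y z n i j) (wo x y z n k l)] at h
      exact hpr (mul_left_cancel h)
  obtain ⟨hgg, haa⟩ := hnc _ hg _ ha hga
  rw [hh.o_sq] at hgg
  rw [hh.u_mul_u] at haa
  have hs : i + j = wh n := by
    have h2 : (wu x y n (i + j) (i + j) : G) * wu x y n (i + j) (i + j) = 1 := by rw [hgg, hcc]
    rw [hh.u_mul_u] at h2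
    rcases hh.two_mul_eq_zero (i := i + j) (by rw [two_mul]; exact (hh.u_eq_one.1 h2).1) with h | h
    · exact absurd (by rw [← hgg, h, u_zero]) hc1
    · exact h
  have hcz : c = wu x y n (wh n) (wh n) := by rw [← hgg, hs]
  rw [hcz] at haa hsqQ
  obtain ⟨ha1, ha2⟩ := hh.u_inj haa
  have hne : c₁ ≠ c₂ := fun h => hga (by rw [h]; exact hh.scalar_comm (wo_mem _ _) _)
  have hqa : wu x y n (wq n) (wq n + wh n) ∈ Q := by
    have key : ∀ t : ZMod (2 ^ n), t + t = wh n → t = wq n ∨ t = wq n + wh n := by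
      intro t ht
      rcases hh.two_mul_eq_zero (i := t - wq n) (by linear_combination ht - hh.two_q) with e' | e'
      exacts [Or.inl (sub_eq_zero.1 e'), Or.inr (by linear_combination e')]
    rcases key c₁ ha1 with h1 | h1 <;> rcases key c₂ ha2 with h2 | h2
    · exact absurd (h1.trans h2.symm) hne
    · rwa [h1, h2] at ha
    · have h3 := Q.inv_mem ha
      rw [hh.u_inv, h1, h2] at h3
      convert h3 using 2
      · linear_combination hh.two_q + hh.two_h
      · linear_combination hh.two_q + hh.two_h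
    · exact absurd (h1.trans h2.symm) hne
  refine ⟨ww x y n (-j) j * z, hh.adapted_z j, ?_⟩
  set hh' := hh.adapted_z j
  have hwo : ∀ a b, wo x y (ww x y n (-j) j * z) n a b = wo x y z n (a - j) (b + j) := by
    intro a b
    refine congrArg Subtype.val ?_
    rw [hh.w_mul_wz, ← sub_eq_add_neg]
  have hg' : wo x y (ww x y n (-j) j * z) n (wh n) 0 ∈ Q := by
    rw [hwo, zero_add, ← hs, add_sub_cancel_right]; exact hg
  refine le_antisymm (sup_le (fun v hv => ?_) fun v hv => ?_) ?_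
  · rcases hh'.casesG (hQS hv) with ⟨a, b, rfl⟩ | ⟨a, b, rfl⟩
    · refine hh'.u_mem_vG ?_
      rcases hsqQ _ hv with h | h <;> rw [hh.u_mul_u] at h
      · obtain ⟨h1, h2⟩ := hh.u_eq_one.1 h
        linear_combination h2 - h1
      · obtain ⟨h1, h2⟩ := hh.u_inj h
        linear_combination h2 - h1
    · refine hh'.o_mem_vG ?_
      have h' := Q.mul_mem hg' hv
      rw [hh'.o_mul_o] at h'
      rcases hsqQ _ h' with h | h <;> rw [hh.u_mul_u] at h
      · obtain ⟨h1, h2⟩ := hh.u_eq_one.1 h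
        linear_combination h1 - h2 - hh.two_h
      · obtain ⟨h1, h2⟩ := hh.u_inj h
        linear_combination h1 - h2 - hh.two_h
  · obtain ⟨b, rfl⟩ := hh'.mem_zc.1 hv
    exact hh'.cG_le_vG (hh'.scalar_mem_cG b)
  · set W := Q ⊔ (center (S : Subgroup G)).map (S : Subgroup G).subtype
    have hsc : ∀ b, wu x y n b b ∈ W := fun b => mem_sup_right (hh'.mem_zc.2 ⟨b, rfl⟩)
    have hU : ∀ a e, 2 * e = 0 → wu x y n a (a + e) ∈ W := by
      intro a e he
      rcases hh.two_mul_eq_zero he with rfl | rfl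
      · rw [add_zero]; exact hsc a
      · have h := W.mul_mem (hsc (a - wq n)) (mem_sup_left hqa)
        rw [hh.u_mul_u] at h
        convert h using 2 <;> ring
    rintro _ ⟨a, e, he, rfl | rfl⟩
    · exact hU a e he
    · have h := W.mul_mem (hU (a - wh n) (e + wh n) (by rw [mul_add, he, hh.two_h, add_zero]))
        (mem_sup_left hg')
      rw [hh'.u_mul_o] at h
      convert h using 2 <;> ring

/-- A homomorphism from a quaternion group onto a subgroup of the `σ = 0` elements. -/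
def quatHom {M : ℕ} (φ : ZMod (2 * M) →+ ZMod (2 ^ n)) (hφ : φ (M : ZMod (2 * M)) = wh n) :
    QuaternionGroup M →* G :=
  MonoidHom.mk' (fun q => match q with
      | .a i => wu x y n (φ i) (-φ i)
      | .xa i => wo x y z n (wh n - φ i) (φ i)) (by
    rintro (i | i) (j | j)
    · rw [QuaternionGroup.a_mul_a]; show wu x y n _ _ = wu x y n _ _ * wu x y n _ _
      rw [hh.u_mul_u, map_add, neg_add]
    · rw [QuaternionGroup.a_mul_xa]; show wo x y z n _ _ = wu x y n _ _ * wo x y z n _ _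
      rw [hh.u_mul_o, map_sub]; congr 1 <;> ring
    · rw [QuaternionGroup.xa_mul_a]; show wo x y z n _ _ = wo x y z n _ _ * wu x y n _ _
      rw [hh.o_mul_u, map_add]; congr 1; ring
    · rw [QuaternionGroup.xa_mul_xa]; show wu x y n _ _ = wo x y z n _ _ * wo x y z n _ _
      rw [hh.o_mul_o, map_sub, map_add, hφ]; congr 1
      · ring
      · linear_combination -hh.two_h)

theorem quatHom_inj {M : ℕ} (φ : ZMod (2 * M) →+ ZMod (2 ^ n)) (hφ : φ (M : ZMod (2 * M)) = wh n)
    (hinj : Function.Injective φ) : Function.Injective (hh.quatHom φ hφ) := by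
  rintro (i | i) (j | j) e
  · exact congrArg _ (hinj (hh.u_inj e).1)
  · exact absurd e (hh.u_ne_o _ _ _ _)
  · exact absurd e.symm (hh.u_ne_o _ _ _ _)
  · exact congrArg _ (hinj (hh.o_inj e).2)

theorem exists_std_quaternion : ∃ Q : Subgroup G, Q ≤ (S : Subgroup G) ∧
    Nonempty (Q ≃* QuaternionGroup 2) ∧ Q ≤ hh.vG ∧
      hh.vG ≤ Q ⊔ (center (S : Subgroup G)).map (S : Subgroup G).subtype := by
  let m : ℤ →+ ZMod (2 ^ n) := zmultiplesHom _ (wq n)
  have hm4 : m (2 * 2 : ℕ) = 0 := by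
    show ((2 * 2 : ℕ) : ℤ) • wq n = 0
    rw [zsmul_eq_mul]; push_cast
    linear_combination 2 * hh.two_q + hh.two_h
  set φ : ZMod (2 * 2) →+ ZMod (2 ^ n) := ZMod.lift (2 * 2) ⟨m, hm4⟩ with hφdef
  have hφv : ∀ k : ℤ, φ (k : ZMod (2 * 2)) = k * wq n := fun k => by
    rw [hφdef, ZMod.lift_coe]; exact zsmul_eq_mul _ _
  have hφ : φ ((2 : ℕ) : ZMod (2 * 2)) = wh n := by
    rw [show ((2 : ℕ) : ZMod (2 * 2)) = ((2 : ℤ) : ZMod (2 * 2)) from rfl, hφv]
    push_cast; exact hh.two_q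
  have hinj : Function.Injective φ := by
    rw [injective_iff_map_eq_zero]
    intro i hi
    by_contra hne
    have hh' : φ ((2 : ℕ) : ZMod (2 * 2)) = 0 := by
      rcases (by decide : ∀ i : ZMod (2 * 2), i ≠ 0 → i = 2 ∨ i + i = 2) i hne with h | h
      · rw [← hi, h]; rfl
      · rw [show ((2 : ℕ) : ZMod (2 * 2)) = i + i from h.symm, map_add, hi, add_zero]
    exact hh.h_ne (hφ.symm.trans hh')
  have : NeZero 2 := ⟨two_ne_zero⟩
  let F := hh.quatHom φ hφ
  have hF : F.range ≤ hh.vG := by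
    rintro _ ⟨i | i, rfl⟩ <;> obtain ⟨k, rfl⟩ := ZMod.intCast_surjective i
    · refine hh.u_mem_vG ?_
      rw [hφv]; linear_combination -2 * (k : ZMod (2 ^ n)) * hh.two_q - (k : ZMod (2 ^ n)) * hh.two_h
    · refine hh.o_mem_vG ?_
      rw [hφv]; linear_combination 2 * (k : ZMod (2 ^ n)) * hh.two_q + ((k : ZMod (2 ^ n)) - 1) * hh.two_h
  refine ⟨F.range, hF.trans hh.vG_le,
    ⟨(MonoidHom.ofInjective (hh.quatHom_inj φ hφ hinj)).symm⟩, hF, ?_⟩
  set W := F.range ⊔ (center (S : Subgroup G)).map (S : Subgroup G).subtype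
  have hsc : ∀ b, wu x y n b b ∈ W := fun b => mem_sup_right (hh.mem_zc.2 ⟨b, rfl⟩)
  have h1 : φ 1 = wq n := by
    rw [show (1 : ZMod (2 * 2)) = ((1 : ℤ) : ZMod (2 * 2)) from (Int.cast_one).symm, hφv]
    push_cast; exact one_mul _
  have hqa : wu x y n (wq n) (wq n + wh n) ∈ W := by
    have h : F (.a 1) ∈ W := mem_sup_left ⟨_, rfl⟩
    rw [← hh.neg_q]
    simpa only [F, quatHom, MonoidHom.mk'_apply, h1] using h
  have hg : wo x y z n (wh n) 0 ∈ W := by
    have h : F (.xa 0) ∈ W := mem_sup_left ⟨_, rfl⟩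
    simpa only [F, quatHom, MonoidHom.mk'_apply, map_zero, sub_zero] using h
  have hU : ∀ a e, 2 * e = 0 → wu x y n a (a + e) ∈ W := by
    intro a e he
    rcases hh.two_mul_eq_zero he with rfl | rfl
    · rw [add_zero]; exact hsc a
    · have h := W.mul_mem (hsc (a - wq n)) hqa
      rw [hh.u_mul_u] at h
      convert h using 2 <;> ring
  rintro _ ⟨a, e, he, rfl | rfl⟩
  · exact hU a e he
  · have h := W.mul_mem (hU (a - wh n) (e + wh n) (by rw [mul_add, he, hh.two_h, add_zero])) hg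
    rw [hh.u_mul_o] at h
    convert h using 2 <;> ring

variable [Finite G]

theorem card_vG_ge : 4 * 2 ^ n ≤ Nat.card hh.vG := by
  let ep : Bool → ZMod (2 ^ n) := fun b => if b then wh n else 0
  have hep : ∀ b, 2 * ep b = 0 := by rintro (_ | _) <;> simp [ep, hh.two_h]
  have hinj : Function.Injective ep := by
    rintro (_ | _) (_ | _) h <;> simp_all [ep, hh.h_ne, Ne.symm hh.h_ne]
  let f : ZMod (2 ^ n) × Bool × Bool → hh.vG := fun p =>
    if p.2.2 then ⟨wo x y z n p.1 (p.1 + ep p.2.1), ⟨_, _, hep _, Or.inr rfl⟩⟩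
    else ⟨wu x y n p.1 (p.1 + ep p.2.1), ⟨_, _, hep _, Or.inl rfl⟩⟩
  have hf : Function.Injective f := by
    rintro ⟨a, b, c⟩ ⟨a', b', c'⟩ h
    have h := congrArg Subtype.val h
    cases c <;> cases c' <;> simp only [f, if_true, if_false, Bool.false_eq_true] at h
    · obtain ⟨rfl, h2⟩ := hh.u_inj h
      rw [hinj (add_left_cancel h2)]
    · exact absurd h (hh.u_ne_o _ _ _ _)
    · exact absurd h.symm (hh.u_ne_o _ _ _ _)
    · obtain ⟨rfl, h2⟩ := hh.o_inj h
      rw [hinj (add_left_cancel h2)]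
  have := Nat.card_le_card_of_injective f hf
  rwa [Nat.card_prod, Nat.card_prod, Nat.card_zmod, Nat.card_eq_fintype_card (α := Bool),
    Fintype.card_bool, mul_comm] at this

theorem card_le_of_normalizes_vG {R : Subgroup G} (hRS : R ≤ (S : Subgroup G))
    (hR : R ≤ normalizer (hh.vG : Set G)) : Nat.card R ≤ 2 * Nat.card hh.vG := by
  let d : Fin 4 → ZMod (2 ^ n) := ![0, wh n, wq n, wq n + wh n]
  let f : ZMod (2 ^ n) × Fin 4 × Bool → G := fun p =>
    if p.2.2 then wo x y z n p.1 (p.1 + d p.2.1) else wu x y n p.1 (p.1 + d p.2.1)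
  have hsub : (R : Set G) ⊆ Set.range f := by
    intro r hr
    have h0 := (mem_normalizer_iff.1 (hR hr) _).1 (hh.o_mem_vG (i := 0) (j := 0) (by rw [sub_self, mul_zero]))
    have key : ∀ i j, 2 * (2 * (j - i)) = 0 → ∃ k, j = i + d k := by
      intro i j h
      rcases hh.four_cases h with e | e | e | e
      exacts [⟨0, by simp [d, ← e]⟩, ⟨1, by simp [d, ← e]⟩, ⟨2, by simp [d, ← e]⟩, ⟨3, by simp [d, ← e]⟩]
    rcases hh.casesG (hRS hr) with ⟨i, j, rfl⟩ | ⟨i, j, rfl⟩
    · rw [hh.u_conj_o] at h0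
      obtain ⟨a, e, he, h | h⟩ := h0
      · exact absurd h.symm (hh.u_ne_o _ _ _ _)
      · obtain ⟨h1, h2⟩ := hh.o_inj h
        obtain ⟨k, hk⟩ := key i j (by linear_combination 2 * h2 - 2 * h1 + he)
        exact ⟨(i, k, false), by simp [f, hk]⟩
    · rw [hh.o_mul_o, hh.o_inv, hh.u_mul_o] at h0
      obtain ⟨a, e, he, h | h⟩ := h0
      · exact absurd h.symm (hh.u_ne_o _ _ _ _)
      · obtain ⟨h1, h2⟩ := hh.o_inj h
        obtain ⟨k, hk⟩ := key i j (by linear_combination 2 * h2 - 2 * h1 + he)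
        exact ⟨(i, k, true), by simp [f, hk]⟩
  have h1 : Nat.card R ≤ Nat.card (Set.range f) :=
    Nat.card_le_card_of_injective (fun r => (⟨(r : G), hsub r.2⟩ : Set.range f))
      fun r r' h => Subtype.ext (congrArg (fun v : Set.range f => (v : G)) h)
  have h2 : Nat.card (Set.range f) ≤ Nat.card (ZMod (2 ^ n) × Fin 4 × Bool) :=
    Nat.card_le_card_of_surjective _ Set.rangeFactorization_surjective
  rw [Nat.card_prod, Nat.card_prod, Nat.card_zmod, Nat.card_eq_fintype_card (α := Bool),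
    Fintype.card_bool, Nat.card_fin] at h2
  have := hh.card_vG_ge
  omega

theorem scalar_image {m : G} (hm : m ∈ normalizer (hh.vG : Set G)) (a : ZMod (2 ^ n)) :
    ∃ b, m * wu x y n a a * m⁻¹ = wu x y n b b := by
  have hmem := (mem_normalizer_iff.1 hm _).1 (hh.cG_le_vG (hh.scalar_mem_cG a))
  have hcomm : ∀ v ∈ hh.vG, m * wu x y n a a * m⁻¹ * v = v * (m * wu x y n a a * m⁻¹) := by
    intro v hv
    have h1 := (mem_normalizer_iff''.1 hm v).1 hv
    have h2 := hh.scalar_comm (hh.vG_le h1) a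
    calc m * wu x y n a a * m⁻¹ * v = m * (wu x y n a a * (m⁻¹ * v * m)) * m⁻¹ := by group
      _ = m * (m⁻¹ * v * m * wu x y n a a) * m⁻¹ := by rw [h2]
      _ = v * (m * wu x y n a a * m⁻¹) := by group
  have h0 := hcomm _ (hh.o_mem_vG (i := 0) (j := 0) (by rw [sub_self, mul_zero]))
  rcases hh.casesG (hh.vG_le hmem) with ⟨i, j, e⟩ | ⟨i, j, e⟩
  · rw [e, hh.u_mul_o, hh.o_mul_u] at h0
    obtain ⟨h1, -⟩ := hh.o_inj h0
    exact ⟨i, e.trans (by rw [show j = i by linear_combination -h1])⟩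
  · exfalso
    have h := hcomm _ (hh.u_mem_vG (i := 0) (j := wh n) (by rw [sub_zero, hh.two_h]))
    rw [e, hh.o_mul_u, hh.u_mul_o] at h
    obtain ⟨h1, -⟩ := hh.o_inj h
    exact hh.h_ne (by linear_combination h1)

theorem scalar_preimage {m : G} (hm : m ∈ normalizer (hh.vG : Set G)) (a : ZMod (2 ^ n)) :
    ∃ b, m * wu x y n b b * m⁻¹ = wu x y n a a := by
  obtain ⟨b, hb⟩ := hh.scalar_image (inv_mem hm) a
  exact ⟨b, by rw [← hb]; group⟩

theorem scalar_fixed {m : G} (hm : m ∈ normalizer (hh.vG : Set G)) (hmo : ¬ 2 ∣ orderOf m)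
    (a : ZMod (2 ^ n)) : m * wu x y n a a = wu x y n a a * m := by
  set Zc := (center (S : Subgroup G)).map (S : Subgroup G).subtype
  have hcyc : IsCyclic Zc := by
    let f : Multiplicative (ZMod (2 ^ n)) →* G :=
      MonoidHom.mk' (fun c => wu x y n c.toAdd c.toAdd) (fun c d => (hh.u_mul_u _ _ _ _).symm)
    have hf : f.range = Zc := by
      ext v
      rw [hh.mem_zc]
      exact ⟨fun ⟨c, hc⟩ => ⟨c.toAdd, hc.symm⟩, fun ⟨b', hb'⟩ => ⟨Multiplicative.ofAdd b', hb'.symm⟩⟩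
    rw [← hf]
    exact isCyclic_of_surjective f.rangeRestrict f.rangeRestrict_surjective
  refine odd_fix_cyclic hmo (S.2.to_le (map_subtype_le _)) hcyc ?_ _ (hh.mem_zc.2 ⟨a, rfl⟩)
  refine mem_normalizer_of_forall fun v hv => ?_
  obtain ⟨b, rfl⟩ := hh.mem_zc.1 hv
  exact hh.mem_zc.2 (hh.scalar_image hm b)

theorem cG_normalized_by_sylow {g : G} (hg : g ∈ (S : Subgroup G)) :
    g ∈ normalizer (hh.cG : Set G) := by
  refine mem_normalizer_of_forall ?_
  rintro _ ⟨a, e, he, rfl⟩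
  rcases hh.casesG hg with ⟨i, j, rfl⟩ | ⟨i, j, rfl⟩
  · rw [hh.u_conj_u]; exact ⟨a, e, he, rfl⟩
  · rw [hh.o_conj_u]; exact hh.u_mem_cG (by linear_combination -he)

/-- The two possible automisers of `V`. -/
theorem V_auto :
    ((hh.vG ⊔ centralizer (hh.vG : Set G)).relIndex (normalizer (hh.vG : Set G)) = 2 ∧
        normalizer (hh.vG : Set G) ≤ normalizer (hh.cG : Set G)) ∨
      ((hh.vG ⊔ centralizer (hh.vG : Set G)).relIndex (normalizer (hh.vG : Set G)) = 6 ∧
        ∃ m ∈ normalizer (hh.vG : Set G), ¬ 2 ∣ orderOf m ∧ m ∉ normalizer (hh.cG : Set G)) := by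
  classical
  have hzp : IsPGroup 2 ↥((center (S : Subgroup G)).map (S : Subgroup G).subtype) :=
    S.2.to_le (map_subtype_le _)
  refine automiser_cases hh.vG hh.cG (S.2.to_le hh.vG_le) hh.cG_le_vG
    (fun v hv => hh.cG_normalized_by_sylow (hh.vG_le hv)) ?_ ?_ ?_ ?_
  · intro m hm hmC hmo
    have hfz : ∀ c ∈ (center (S : Subgroup G)).map (S : Subgroup G).subtype, m * c = c * m := by
      intro c hc
      obtain ⟨b, rfl⟩ := hh.mem_zc.1 hc
      exact hh.scalar_fixed hm hmo b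
    have hfC : ∀ c ∈ hh.cG, m * c = c * m := by
      intro c hc
      obtain ⟨a, e, he, rfl⟩ := hc
      refine odd_fix_of_series hmo hzp hfz ?_
      obtain ⟨b, f, hf, hb⟩ := (mem_normalizer_iff.1 hmC _).1 ⟨a, e, he, rfl⟩
      rw [hb, hh.u_inv, hh.u_mul_u]
      refine hh.mem_zc.2 ⟨-a + b, ?_⟩
      congr 1
      rcases hh.two_mul_eq_zero he with rfl | rfl <;> rcases hh.two_mul_eq_zero hf with rfl | rfl
      · ring
      · exfalso
        obtain ⟨b', hb'⟩ := hh.scalar_image hm a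
        rw [add_zero, hb'] at hb
        exact hh.u_ne_scalar (a := b) (b := b + wh n) (fun h => hh.h_ne (by linear_combination -h)) b' hb.symm
      · exfalso
        obtain ⟨b', hb'⟩ := hh.scalar_preimage hm b
        rw [add_zero, ← hb'] at hb
        exact hh.u_ne_scalar (a := a) (b := a + wh n) (fun h => hh.h_ne (by linear_combination -h)) b'
          (mul_left_cancel (mul_right_cancel hb))
      · ring
    refine mem_centralizer_iff.2 fun v hv => ?_
    obtain ⟨a, e, he, rfl | rfl⟩ := hv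
    · exact (hfC _ ⟨a, e, he, rfl⟩).symm
    · refine (odd_fix_of_series hmo (S.2.to_le (hh.cG_le_vG.trans hh.vG_le)) hfC ?_).symm
      obtain ⟨b, f, hf, hb | hb⟩ := (mem_normalizer_iff.1 hm _).1 ⟨a, e, he, Or.inr rfl⟩
      · exfalso
        have h : m⁻¹ * wu x y n b (b + f) * m ∈ hh.cG :=
          (mem_normalizer_iff''.1 hmC _).1 ⟨b, f, hf, rfl⟩
        rw [← hb, show m⁻¹ * (m * wo x y z n a (a + e) * m⁻¹) * m = wo x y z n a (a + e) by group] at h
        obtain ⟨c, g', -, hc⟩ := h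
        exact hh.u_ne_o _ _ _ _ hc.symm
      · rw [hb, hh.o_inv, hh.o_mul_o]
        exact hh.u_mem_cG (by linear_combination he - hf)
  · refine ⟨wu x y n (wq n) 0, mem_normalizer_of_forall ?_,
      hh.cG_normalized_by_sylow (wu_mem _ _), fun h => ?_⟩
    · rintro _ ⟨a, e, he, rfl | rfl⟩
      · rw [hh.u_conj_u]; exact ⟨a, e, he, Or.inl rfl⟩
      · rw [hh.u_conj_o]
        exact hh.o_mem_vG (by linear_combination he - 2 * hh.two_q - hh.two_h)
    · rw [← SetLike.mem_coe, coe_mul_of_right_le_normalizer_left _ _ (centralizer_le_normalizer _)] at h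
      obtain ⟨v, hv, c, hc, e⟩ := h
      have e : v * c = wu x y n (wq n) 0 := e
      have hcS : c ∈ (S : Subgroup G) := by
        have := (S : Subgroup G).mul_mem ((S : Subgroup G).inv_mem (hh.vG_le hv)) (wu_mem (wq n) (0 : ZMod (2 ^ n)) (x := x) (y := y))
        rwa [← e, inv_mul_cancel_left] at this
      have hcV : c ∈ hh.vG := by
        rcases hh.casesG hcS with ⟨i, j, rfl⟩ | ⟨i, j, rfl⟩
        · have h1 := mem_centralizer_iff.1 hc _ (hh.o_mem_vG (i := 0) (j := 0) (by rw [sub_self, mul_zero]))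
          rw [hh.o_mul_u, hh.u_mul_o] at h1
          exact hh.u_mem_vG (by linear_combination 2 * (hh.o_inj h1).1)
        · have h1 := mem_centralizer_iff.1 hc _ (hh.u_mem_vG (i := 0) (j := wh n) (by rw [sub_zero, hh.two_h]))
          rw [hh.u_mul_o, hh.o_mul_u] at h1
          exact absurd (show wh n = 0 by linear_combination -(hh.o_inj h1).1) hh.h_ne
      obtain ⟨a, f, hf, h2 | h2⟩ := hh.mem_vG.1 (e ▸ hh.vG.mul_mem hv hcV)
      · obtain ⟨h3, h4⟩ := hh.u_inj h2
        exact hh.h_ne (by linear_combination 2 * h3 - 2 * h4 - hh.two_q - hf)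
      · exact hh.u_ne_o _ _ _ _ h2
  · intro R hR hVR hRN
    obtain ⟨c, hc⟩ := sylow_conj_le S hR
    set V' := hh.vG.map (MulAut.conj c).toMonoidHom with hV'
    set Zc := (center (S : Subgroup G)).map (S : Subgroup G).subtype with hZc
    obtain ⟨Q, -, ⟨eQ⟩, hQV, hVQ⟩ := hh.exists_std_quaternion
    have hV'S : V' ≤ (S : Subgroup G) := (Subgroup.map_mono hVR).trans hc
    have hZV : Zc ≤ hh.vG := fun v hv => by
      obtain ⟨b, rfl⟩ := hh.mem_zc.1 hv
      exact hh.cG_le_vG (hh.scalar_mem_cG b)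
    obtain ⟨z', hh', hh'e⟩ := hh.exists_adapted (Q.map (MulAut.conj c).toMonoidHom)
      ((Subgroup.map_mono hQV).trans hV'S)
      ((equivMapOfInjective Q (MulAut.conj c).toMonoidHom (MulAut.conj c).injective).symm.trans eQ)
    have hZle : Zc.map (MulAut.conj c).toMonoidHom ≤ Zc := by
      rintro _ ⟨v, hv, rfl⟩
      obtain ⟨b, rfl⟩ := hh.mem_zc.1 hv
      have hvS : (MulAut.conj c).toMonoidHom (wu x y n b b) ∈ (S : Subgroup G) :=
        hV'S ⟨_, hZV hv, rfl⟩
      refine ⟨⟨_, hvS⟩, hh.center_le (V'.subgroupOf (S : Subgroup G)) ?_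
        (mem_subgroupOf.2 ⟨_, hZV hv, rfl⟩) ?_, rfl⟩
      · intro hcomm
        have h1 : wo x y z n 0 0 ∈ hh.vG := hh.o_mem_vG (by rw [sub_self, mul_zero])
        have h2 : wu x y n 0 (wh n) ∈ hh.vG := hh.u_mem_vG (by rw [sub_zero, hh.two_h])
        have h3 := congrArg (fun v : V'.subgroupOf (S : Subgroup G) => ((v : (S : Subgroup G)) : G))
          (hcomm.is_comm.comm ⟨⟨_, hV'S ⟨_, h1, rfl⟩⟩, mem_subgroupOf.2 ⟨_, h1, rfl⟩⟩
            ⟨⟨_, hV'S ⟨_, h2, rfl⟩⟩, mem_subgroupOf.2 ⟨_, h2, rfl⟩⟩)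
        simp only [Subgroup.coe_mul] at h3
        rw [← map_mul, ← map_mul] at h3
        have h4 := (MulAut.conj c).injective h3
        rw [hh.o_mul_u, hh.u_mul_o] at h4
        exact hh.h_ne (by linear_combination (hh.o_inj h4).1)
      · rintro s hs
        obtain ⟨w, hw, he⟩ := hs
        refine Subtype.ext ?_
        simp only [Subgroup.coe_mul]
        show (MulAut.conj c).toMonoidHom (wu x y n b b) * (s : G) = (s : G) * _
        rw [show (s : G) = (MulAut.conj c).toMonoidHom w from he.symm, ← map_mul, ← map_mul,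
          hh.scalar_comm (hh.vG_le hw) b]
    have hZeq : Zc.map (MulAut.conj c).toMonoidHom = Zc :=
      eq_of_le_of_card_ge hZle (card_map_of_injective (MulAut.conj c).injective).ge
    have hVe : hh'.vG = V' := by
      rw [← hh'e, hV', le_antisymm hVQ (sup_le hQV hZV), Subgroup.map_sup, hZeq]
    have h3 := hh'.card_le_of_normalizes_vG hc (by
      rw [hVe, hV']
      exact (Subgroup.map_mono hRN).trans (le_normalizer_map _))
    rwa [hVe, hV', card_map_of_injective (MulAut.conj c).injective,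
      card_map_of_injective (MulAut.conj c).injective] at h3
  · refine ⟨{hh.cG, (center (S : Subgroup G)).map (S : Subgroup G).subtype ⊔ zpowers (wo x y z n 0 0),
      (center (S : Subgroup G)).map (S : Subgroup G).subtype ⊔ zpowers (wo x y z n 0 (wh n))},
      Finset.card_le_three, fun m hm => ?_⟩
    set W := hh.cG.map (MulAut.conj m).toMonoidHom with hW
    have hWV : W ≤ hh.vG := by
      rintro _ ⟨v, hv, rfl⟩
      exact (mem_normalizer_iff.1 hm _).1 (hh.cG_le_vG hv)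
    have hsc : ∀ b, wu x y n b b ∈ W := by
      intro b
      obtain ⟨b', hb'⟩ := hh.scalar_preimage hm b
      exact ⟨_, hh.scalar_mem_cG b', hb'⟩
    have hWc : ∀ v ∈ W, ∀ w ∈ W, v * w = w * v := by
      rintro _ ⟨v, hv, rfl⟩ _ ⟨w, hw, rfl⟩
      rw [← map_mul, ← map_mul, hh.uG_comm (hh.cG_le_uG hv) (hh.cG_le_uG hw)]
    by_cases hU : ∃ a, wu x y n a (a + wh n) ∈ W
    · obtain ⟨a, ha⟩ := hU
      refine Finset.mem_insert.2 (Or.inl (le_antisymm (fun w hw => ?_) fun v hv => ?_))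
      · obtain ⟨b, f, hf, rfl | rfl⟩ := hWV hw
        · exact ⟨b, f, hf, rfl⟩
        · have h := hWc _ ha _ hw
          rw [hh.u_mul_o, hh.o_mul_u] at h
          exact absurd (show wh n = 0 by linear_combination -(hh.o_inj h).1) hh.h_ne
      · obtain ⟨b, f, hf, rfl⟩ := hv
        rcases hh.two_mul_eq_zero hf with rfl | rfl
        · rw [add_zero]; exact hsc b
        · have h := W.mul_mem (hsc (b - a)) ha
          rw [hh.u_mul_u] at h
          convert h using 2 <;> ring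
    push Not at hU
    obtain ⟨a, e, he, hae⟩ : ∃ a e, 2 * e = 0 ∧ wo x y z n a (a + e) ∈ W := by
      obtain ⟨b, f, hf, h | h⟩ := hWV ⟨_, hh.u_mem_cG (i := 0) (j := wh n) (by rw [sub_zero, hh.two_h]), rfl⟩
      · exfalso
        rcases hh.two_mul_eq_zero hf with rfl | rfl
        · obtain ⟨b', hb'⟩ := hh.scalar_preimage hm b
          rw [add_zero, ← hb'] at h
          exact hh.u_ne_scalar (Ne.symm hh.h_ne) b' (mul_left_cancel (mul_right_cancel h))
        · exact hU b (h ▸ ⟨_, hh.u_mem_cG (i := 0) (j := wh n) (by rw [sub_zero, hh.two_h]), rfl⟩)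
      · exact ⟨b, f, hf, h ▸ ⟨_, hh.u_mem_cG (i := 0) (j := wh n) (by rw [sub_zero, hh.two_h]), rfl⟩⟩
    have hmain : W = (center (S : Subgroup G)).map (S : Subgroup G).subtype ⊔ zpowers (wo x y z n 0 e) := by
      have hoe : wo x y z n 0 e ∈ W := by
        have h := W.mul_mem (hsc (-a)) hae
        rwa [hh.u_mul_o, neg_add_cancel, neg_add_cancel_left] at h
      refine le_antisymm (fun w hw => ?_) (sup_le (fun v hv => ?_) (zpowers_le.2 hoe))
      · obtain ⟨b, f, hf, rfl | rfl⟩ := hWV hw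
        · rcases hh.two_mul_eq_zero hf with rfl | rfl
          · rw [add_zero]; exact mem_sup_left (hh.mem_zc.2 ⟨b, rfl⟩)
          · exact absurd hw (hU b)
        · have h := hWc _ hoe _ hw
          rw [hh.o_mul_o, hh.o_mul_o] at h
          have hef : f = e := by linear_combination (hh.u_inj h).1
          subst hef
          have hmul : wo x y z n b (b + f) = wu x y n b b * wo x y z n 0 f := by rw [hh.u_mul_o, add_zero]
          rw [hmul]
          exact mul_mem (mem_sup_left (hh.mem_zc.2 ⟨b, rfl⟩)) (mem_sup_right (mem_zpowers _))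
      · obtain ⟨b, rfl⟩ := hh.mem_zc.1 hv
        exact hsc b
    rcases hh.two_mul_eq_zero he with rfl | rfl <;> rw [hmain] <;> simp

end WRGen

end Cfsg.Agent.Invol
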